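import Cfsg.Agent.Small.Zass

/-!
# TI-subgroups inverted by an involution: local analysis and counting
-/

set_option autoImplicit false

namespace CF.BTI

open Subgroup

variable {G : Type*} [Group G]

/-- `M` is a TI-subgroup, `N(M) = M C_{N(M)}(z)` for an involution `z`, and no involution
centralises a non-identity element of `M`. -/
structure Hyp (M : Subgroup G) (z : G) : Prop where
  ne : M ≠ ⊥
  ti : ∀ g x : G, x ∈ M → x ≠ 1 → g * x * g⁻¹ ∈ M → g ∈ normalizer (M : Set G)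
  z2 : z * z = 1
  z1 : z ≠ 1
  zN : z ∈ normalizer (M : Set G)
  fac : ∀ n ∈ normalizer (M : Set G), ∃ x ∈ M, ∃ h : G, h * z = z * h ∧ n = x * h
  odd : ∀ x ∈ M, x ≠ 1 → ∀ t : G, t * x = x * t → t * t = 1 → t = 1

theorem conj_mem {M : Subgroup G} {n x : G} (hn : n ∈ normalizer (M : Set G)) (hx : x ∈ M) :
    n * x * n⁻¹ ∈ M := (mem_normalizer_iff.1 hn x).1 hx

theorem conj_mem' {M : Subgroup G} {n x : G} (hn : n ∈ normalizer (M : Set G)) (hx : x ∈ M) :
    n⁻¹ * x * n ∈ M := by simpa using conj_mem (inv_mem hn) hx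

theorem inv_eq_of_sq {t : G} (h : t * t = 1) : t⁻¹ = t := inv_eq_of_mul_eq_one_right h

namespace Hyp

variable {M : Subgroup G} {z : G}

theorem eq_one_of_sq (H : Hyp M z) {x : G} (hx : x ∈ M) (h : x * x = 1) : x = 1 := by
  by_contra h1
  exact h1 (H.odd x hx h1 x rfl h)

theorem eq_one_of_comm (H : Hyp M z) {x t : G} (hx : x ∈ M) (ht : t * t = 1) (ht1 : t ≠ 1)
    (h : t * x = x * t) : x = 1 := by
  by_contra h1
  exact ht1 (H.odd x hx h1 t h ht)

variable [Finite G]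

theorem inverts (H : Hyp M z) {t : G} (hN : t ∈ normalizer (M : Set G)) (ht : t * t = 1)
    (ht1 : t ≠ 1) {x : G} (hx : x ∈ M) : t * x * t⁻¹ = x⁻¹ :=
  CF.Small.conj_eq_inv_of_fpf hN ht
    (fun y hy h => H.eq_one_of_comm hy ht ht1 (by rw [← mul_inv_eq_iff_eq_mul, h])) x hx

theorem comm (H : Hyp M z) {x y : G} (hx : x ∈ M) (hy : y ∈ M) : x * y = y * x := by
  have h1 := H.inverts H.zN H.z2 H.z1 (mul_mem hx hy)
  rw [show z * (x * y) * z⁻¹ = (z * x * z⁻¹) * (z * y * z⁻¹) by group,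
    H.inverts H.zN H.z2 H.z1 hx, H.inverts H.zN H.z2 H.z1 hy, ← mul_inv_rev, inv_inj] at h1
  exact h1.symm

theorem odd_card (H : Hyp M z) : Odd (Nat.card M) := by
  by_contra h
  have : Fact (Nat.Prime 2) := ⟨Nat.prime_two⟩
  obtain ⟨x, hx⟩ := exists_prime_orderOf_dvd_card' (G := M) 2
    (even_iff_two_dvd.1 (Nat.not_odd_iff_even.1 h))
  have h2 : x * x = 1 := by rw [← sq, ← hx, pow_orderOf_eq_one]
  have h3 : (x : G) = 1 := H.eq_one_of_sq x.2 (by exact_mod_cast h2)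
  have h4 : x = 1 := Subtype.ext h3
  rw [h4, orderOf_one] at hx
  exact absurd hx (by decide)

theorem exists_sqrt (H : Hyp M z) {x : G} (hx : x ∈ M) : ∃ y ∈ M, y * y = x := by
  obtain ⟨k, hk⟩ := H.odd_card
  refine ⟨x ^ (k + 1), pow_mem hx _, ?_⟩
  have h1 : (⟨x, hx⟩ : M) ^ Nat.card M = 1 := pow_card_eq_one'
  have h2 : x ^ (2 * k + 1) = 1 := by rw [← hk]; exact congrArg Subtype.val h1
  rw [← pow_add, show k + 1 + (k + 1) = 2 * k + 1 + 1 by ring, pow_succ, h2, one_mul]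

theorem mul_z_sq (H : Hyp M z) {x : G} (hx : x ∈ M) : x * z * (x * z) = 1 := by
  have := H.inverts H.zN H.z2 H.z1 hx
  rw [inv_eq_of_sq H.z2] at this
  calc x * z * (x * z) = x * (z * x * z) := by group
    _ = 1 := by rw [this, mul_inv_cancel]

theorem z_notMem (H : Hyp M z) : z ∉ M := fun h => H.z1 (H.eq_one_of_sq h H.z2)

theorem mul_z_ne_one (H : Hyp M z) {x : G} (hx : x ∈ M) : x * z ≠ 1 := fun h =>
  H.z_notMem (by rw [← inv_eq_of_mul_eq_one_right h]; exact inv_mem hx)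

theorem eq_z (H : Hyp M z) {h : G} (hN : h ∈ normalizer (M : Set G)) (hc : h * z = z * h)
    (h2 : h * h = 1) (h1 : h ≠ 1) : h = z := by
  obtain ⟨x, hx, hx1⟩ := (bot_or_exists_ne_one M).resolve_left H.ne
  have h3 : h * z = 1 := H.odd x hx hx1 (h * z) (by
    have e1 := H.inverts H.zN H.z2 H.z1 hx
    have e2 := H.inverts hN h2 h1 (inv_mem hx)
    calc h * z * x = h * (z * x * z⁻¹) * h⁻¹ * (h * z) := by group
      _ = x * (h * z) := by rw [e1, e2, inv_inv]) (by
    calc h * z * (h * z) = h * (z * h) * z := by group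
      _ = (h * h) * (z * z) := by rw [← hc]; group
      _ = 1 := by rw [h2, H.z2, one_mul])
  rw [eq_inv_of_mul_eq_one_left h3, inv_eq_of_sq H.z2]

/-- the involutions of `N(M)` lie in `M z` -/
theorem invol_mem (H : Hyp M z) {t : G} (hN : t ∈ normalizer (M : Set G)) (ht : t * t = 1)
    (ht1 : t ≠ 1) : t * z ∈ M := by
  obtain ⟨x, hx, h, hc, rfl⟩ := H.fac t hN
  have hh : h ∈ normalizer (M : Set G) := by
    simpa using mul_mem (inv_mem (le_normalizer hx)) hN
  have h1 : h * h ∈ M := by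
    have : h * h = (h * x * h⁻¹)⁻¹ * x⁻¹ := by
      calc h * h = (h * x * h⁻¹)⁻¹ * x⁻¹ * (x * h * (x * h)) := by group
        _ = _ := by rw [ht, mul_one]
    rw [this]
    exact mul_mem (inv_mem (conj_mem hh hx)) (inv_mem hx)
  have h2 : h * h = 1 := H.eq_one_of_comm h1 H.z2 H.z1 (by
    calc z * (h * h) = (z * h) * h := by group
      _ = h * (z * h) := by rw [← hc, mul_assoc, ← hc]
      _ = _ := by rw [← hc, mul_assoc])
  have h3 : h ≠ 1 := by
    rintro rfl
    rw [mul_one] at ht ht1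
    exact ht1 (H.eq_one_of_sq hx ht)
  rw [H.eq_z hh hc h2 h3, mul_assoc, H.z2, mul_one]
  exact hx

/-- the involutions of `N(M)` are conjugate to `z` under `M` -/
theorem invol_conj (H : Hyp M z) {t : G} (hN : t ∈ normalizer (M : Set G)) (ht : t * t = 1)
    (ht1 : t ≠ 1) : ∃ y ∈ M, t = y * z * y⁻¹ := by
  obtain ⟨y, hy, h⟩ := H.exists_sqrt (H.invol_mem hN ht ht1)
  refine ⟨y, hy, ?_⟩
  have h1 := H.inverts H.zN H.z2 H.z1 (inv_mem hy)
  calc t = y * y * z⁻¹ := by rw [h]; group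
    _ = y * (z * y⁻¹ * z⁻¹) * z⁻¹ := by rw [h1, inv_inv]
    _ = y * z * y⁻¹ * (z * z)⁻¹ := by group
    _ = _ := by rw [H.z2, inv_one, mul_one]

omit [Finite G] in
/-- a coset of `M` outside `N(M)` contains at most one involution -/
theorem invol_unique (H : Hyp M z) {t x : G} (hN : t ∉ normalizer (M : Set G)) (ht : t * t = 1)
    (hx : x ∈ M) (h : t * x * (t * x) = 1) : x = 1 := by
  by_contra h1
  refine hN (H.ti t x hx h1 ?_)
  rw [inv_eq_of_sq ht, show t * x * t = t * x * (t * x) * x⁻¹ by group, h, one_mul]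
  exact inv_mem hx

omit [Finite G] in
theorem eq_one_of_conj_mem (H : Hyp M z) {g x : G} (hN : g ∉ normalizer (M : Set G))
    (hx : x ∈ M) (h : g * x * g⁻¹ ∈ M) : x = 1 := by
  by_contra h1
  exact hN (H.ti g x hx h1 h)

/-- if there are more involutions than cosets of `M`, every coset outside `N(M)` contains one -/
theorem exists_invol (H : Hyp M z) (hI : M.index < Nat.card {g : G // orderOf g = 2}) {g : G}
    (hg : g ∉ normalizer (M : Set G)) : ∃ x ∈ M, g * x * (g * x) = 1 := by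
  classical
  by_contra hno
  push Not at hno
  have : Fact (Nat.Prime 2) := ⟨Nat.prime_two⟩
  have hI2 : ∀ t : {g : G // orderOf g = 2}, t.1 * t.1 = 1 ∧ t.1 ≠ 1 := fun t =>
    ⟨by have := pow_orderOf_eq_one t.1; rwa [t.2, sq] at this, fun h => by
      have := t.2; rw [h, orderOf_one] at this; exact absurd this (by decide)⟩
  let f : {g : G // orderOf g = 2} → G ⧸ M := fun t =>
    if t.1 ∈ normalizer (M : Set G) then ((t.1 * z * g : G) : G ⧸ M) else (t.1 : G ⧸ M)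
  have key : ∀ s t : {g : G // orderOf g = 2}, s.1 ∈ normalizer (M : Set G) →
      ((s.1 * z * g : G) : G ⧸ M) ≠ (t.1 : G ⧸ M) := by
    intro s t hs h
    rw [QuotientGroup.eq] at h
    have h1 := H.invol_mem hs (hI2 s).1 (hI2 s).2
    refine hno _ (mul_mem h h1) ?_
    calc _ = (s.1 * z)⁻¹ * (t.1 * t.1) * (s.1 * z) := by group
      _ = 1 := by rw [(hI2 t).1]; group
  have hf : Function.Injective f := by
    intro s t h
    by_cases hs : s.1 ∈ normalizer (M : Set G) <;> by_cases ht : t.1 ∈ normalizer (M : Set G)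
    · simp only [f, hs, ht, if_true] at h
      rw [QuotientGroup.eq] at h
      have h1 := H.invol_mem hs (hI2 s).1 (hI2 s).2
      have h2 := H.invol_mem ht (hI2 t).1 (hI2 t).2
      have h3 := H.eq_one_of_conj_mem (g := g⁻¹) (fun h => hg (by simpa using h))
        (mul_mem (inv_mem h1) h2) (by simpa [mul_assoc] using h)
      exact Subtype.ext (mul_right_cancel (inv_mul_eq_one.1 h3))
    · simp only [f, hs, ht, if_true, if_false] at h
      exact absurd h (key s t hs)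
    · simp only [f, hs, ht, if_true, if_false] at h
      exact absurd h.symm (key t s ht)
    · simp only [f, hs, ht, if_false] at h
      rw [QuotientGroup.eq] at h
      have h3 := H.invol_unique hs (hI2 s).1 h (by rw [mul_inv_cancel_left, (hI2 t).1])
      exact Subtype.ext (inv_mul_eq_one.1 h3)
  exact absurd (Nat.card_le_card_of_injective f hf) (not_le.2 hI)

end Hyp

/-- every coset of `M` outside `N(M)` contains an involution -/
structure Big (M : Subgroup G) (z : G) : Prop extends Hyp M z where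
  cos : ∀ g : G, g ∉ normalizer (M : Set G) → ∃ x ∈ M, g * x * (g * x) = 1

namespace Big

variable {M : Subgroup G} {z : G}

theorem exists_inv (B : Big M z) {t : G} (hN : t ∉ normalizer (M : Set G)) (ht : t * t = 1)
    {n : G} (hn : n ∈ normalizer (M : Set G)) : ∃ x ∈ M, t * (n * x) * t⁻¹ = (n * x)⁻¹ := by
  obtain ⟨x, hx, h⟩ := B.cos (t * n) fun h => hN (by simpa using mul_mem h (inv_mem hn))
  refine ⟨x, hx, ?_⟩
  rw [inv_eq_of_sq ht, show t * (n * x) * t = t * n * x * (t * n * x) * (n * x)⁻¹ by group, h,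
    one_mul]

variable [Finite G]

theorem exists_u (B : Big M z) {t : G} (hN : t ∉ normalizer (M : Set G)) (ht : t * t = 1) :
    ∃ u ∈ normalizer (M : Set G), u * u = 1 ∧ u ≠ 1 ∧ t * u * t⁻¹ = u := by
  obtain ⟨x, hx, h⟩ := B.exists_inv hN ht B.zN
  have h1 : z * x = x⁻¹ * z := by rw [← B.inverts B.zN B.z2 B.z1 hx]; group
  have h2 : z * x * (z * x) = 1 := by rw [h1]; exact B.mul_z_sq (inv_mem hx)
  exact ⟨z * x, mul_mem B.zN (le_normalizer hx), h2, h1 ▸ B.mul_z_ne_one (inv_mem hx),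
    by rw [h, inv_eq_of_sq h2]⟩

theorem eq_one_of_conj_mem_N (B : Big M z) {t : G} (hN : t ∉ normalizer (M : Set G))
    (ht : t * t = 1) {x : G} (hx : x ∈ M) (h : t * x * t⁻¹ ∈ normalizer (M : Set G)) : x = 1 := by
  obtain ⟨u, hu, hu2, hu1, htu⟩ := B.exists_u hN ht
  have h1 : u * (t * x * t⁻¹)⁻¹ * u⁻¹ = t * x * t⁻¹ := by
    have := B.inverts hu hu2 hu1 (inv_mem hx)
    calc _ = (t * u * t⁻¹) * (t * x * t⁻¹)⁻¹ * (t * u * t⁻¹)⁻¹ := by rw [htu]
      _ = t * (u * x⁻¹ * u⁻¹) * t⁻¹ := by group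
      _ = _ := by rw [this, inv_inv]
  have h2 := B.invol_mem (mul_mem (mul_mem h hu) (inv_mem h))
    (by calc _ = (t * x * t⁻¹) * (u * u) * (t * x * t⁻¹)⁻¹ := by group
          _ = 1 := by rw [hu2]; group)
    (fun h => hu1 (conj_eq_one_iff.1 h))
  have h3 := mul_mem h2 (inv_mem (B.invol_mem hu hu2 hu1))
  have h4 : t * (x * x) * t⁻¹ ∈ M := by
    have : t * (x * x) * t⁻¹ = (t * x * t⁻¹) * (u * (t * x * t⁻¹)⁻¹ * u⁻¹) := by rw [h1]; group
    rw [this]
    convert h3 using 1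
    group
  exact B.eq_one_of_sq hx (B.eq_one_of_conj_mem hN (mul_mem hx hx) h4)

/-- an involution `t` outside `N` inverts `N ∩ N ^ t` -/
theorem inv_of_conj_mem (B : Big M z) {t : G} (hN : t ∉ normalizer (M : Set G))
    (ht : t * t = 1) {d : G} (hd : d ∈ normalizer (M : Set G))
    (h : t * d * t⁻¹ ∈ normalizer (M : Set G)) : t * d * t⁻¹ = d⁻¹ := by
  obtain ⟨x, hx, h1⟩ := B.exists_inv hN ht hd
  have h2 : t * x * t⁻¹ ∈ normalizer (M : Set G) := by
    have : t * x * t⁻¹ = (t * d * t⁻¹)⁻¹ * (d * x)⁻¹ := by rw [← h1]; group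
    rw [this]
    exact mul_mem (inv_mem h) (inv_mem (mul_mem hd (le_normalizer hx)))
  rw [B.eq_one_of_conj_mem_N hN ht hx h2, mul_one] at h1
  exact h1

theorem comm_of_conj_mem (B : Big M z) {t : G} (hN : t ∉ normalizer (M : Set G))
    (ht : t * t = 1) {d e : G} (hd : d ∈ normalizer (M : Set G))
    (hd' : t * d * t⁻¹ ∈ normalizer (M : Set G)) (he : e ∈ normalizer (M : Set G))
    (he' : t * e * t⁻¹ ∈ normalizer (M : Set G)) : d * e = e * d := by
  have h := B.inv_of_conj_mem hN ht (mul_mem hd he) (by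
    convert mul_mem hd' he' using 1; group)
  rw [show t * (d * e) * t⁻¹ = (t * d * t⁻¹) * (t * e * t⁻¹) by group,
    B.inv_of_conj_mem hN ht hd hd', B.inv_of_conj_mem hN ht he he', ← mul_inv_rev, inv_inj] at h
  exact h.symm

/-- the elements of `C(z)` outside `N` are involutions -/
theorem sq_of_cent (B : Big M z) {c : G} (hc : c * z = z * c) (hN : c ∉ normalizer (M : Set G)) :
    c * c = 1 := by
  obtain ⟨x, hx, h⟩ := B.cos c hN
  have hN' : c * x ∉ normalizer (M : Set G) := fun h =>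
    hN (by simpa using mul_mem h (inv_mem (le_normalizer hx)))
  have h1 : c * x * z * (c * x)⁻¹ = x⁻¹ * z * x := by
    rw [← inv_eq_of_sq h, inv_inv]
    calc _ = x⁻¹ * c⁻¹ * (z * c) * x := by group
      _ = _ := by rw [← hc]; group
  have h2 := B.inv_of_conj_mem hN' h B.zN (by
    rw [h1]; exact mul_mem (mul_mem (inv_mem (le_normalizer hx)) B.zN) (le_normalizer hx))
  rw [h1, inv_eq_of_sq B.z2] at h2
  have h3 : x = 1 := B.eq_one_of_comm hx B.z2 B.z1 (by
    calc z * x = x * (x⁻¹ * z * x) := by group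
      _ = _ := by rw [h2])
  rwa [h3, mul_one] at h

theorem cent_inverts (B : Big M z) {c h : G} (hc : c * z = z * c)
    (hN : c ∉ normalizer (M : Set G)) (hh : h * z = z * h) (hhN : h ∈ normalizer (M : Set G)) :
    c * h * c⁻¹ = h⁻¹ := by
  have h1 := B.sq_of_cent (c := c * h) (by rw [mul_assoc, hh, ← mul_assoc, hc, mul_assoc])
    (fun h => hN (by simpa using mul_mem h (inv_mem hhN)))
  rw [inv_eq_of_sq (B.sq_of_cent hc hN), show c * h * c = c * h * (c * h) * h⁻¹ by group, h1,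
    one_mul]

/-- every involution outside `N` is conjugate under `M` to an element of `C(z)` -/
theorem invol_conj_cent (B : Big M z) {t : G} (hN : t ∉ normalizer (M : Set G))
    (ht : t * t = 1) : ∃ y ∈ M, ∃ c : G, c * z = z * c ∧ c ∉ normalizer (M : Set G) ∧
      t = y * c * y⁻¹ := by
  obtain ⟨u, hu, hu2, hu1, htu⟩ := B.exists_u hN ht
  obtain ⟨y, hy, rfl⟩ := B.invol_conj hu hu2 hu1
  refine ⟨y, hy, y⁻¹ * t * y, ?_, fun h => hN ?_, by group⟩
  · calc _ = y⁻¹ * (t * (y * z * y⁻¹) * t⁻¹) * t * y := by group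
      _ = _ := by rw [htu]; group
  · simpa [mul_assoc] using mul_mem (mul_mem (le_normalizer hy) h) (inv_mem (le_normalizer hy))

theorem exists_factor (B : Big M z) {g : G} (hN : g ∉ normalizer (M : Set G)) :
    ∃ y ∈ M, ∃ c : G, c * z = z * c ∧ c ∉ normalizer (M : Set G) ∧ ∃ x ∈ M, g = y * c * x := by
  obtain ⟨x, hx, h⟩ := B.cos g hN
  obtain ⟨y, hy, c, hc, hcN, h1⟩ := B.invol_conj_cent (t := g * x) (fun h =>
    hN (by simpa using mul_mem h (inv_mem (le_normalizer hx)))) h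
  exact ⟨y, hy, c, hc, hcN, y⁻¹ * x⁻¹, mul_mem (inv_mem hy) (inv_mem hx), by
    rw [← mul_assoc, ← h1]; group⟩

theorem eq_one_of_cent (B : Big M z) {c c' w : G} (hc : c * z = z * c) (hc' : c' * z = z * c')
    (hN : c ∉ normalizer (M : Set G)) (hw : w ∈ M)
    (h : c'⁻¹ * w * c ∈ normalizer (M : Set G)) : w = 1 := by
  have h1 : z * (c'⁻¹ * w * c) * z⁻¹ = c'⁻¹ * w⁻¹ * c := by
    rw [← B.inverts B.zN B.z2 B.z1 hw]
    calc _ = c'⁻¹ * (c' * z) * c'⁻¹ * w * z⁻¹ * (z * c) * z⁻¹ := by group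
      _ = _ := by rw [hc', ← hc]; group
  have h2 := mul_mem (inv_mem (mul_mem (mul_mem B.zN h) (inv_mem B.zN))) h
  rw [h1] at h2
  have h3 := B.sq_of_cent hc hN
  refine B.eq_one_of_sq hw (B.eq_one_of_conj_mem_N hN h3 (mul_mem hw hw) ?_)
  convert h2 using 1
  rw [inv_eq_of_sq h3]
  calc _ = c⁻¹ * (w * w) * c := by rw [inv_eq_of_sq h3]
    _ = _ := by group

/-- the elements of `C(z)` outside `N` -/
abbrev Out (M : Subgroup G) (z : G) : Type _ :=
  {c : G // c * z = z * c ∧ c ∉ normalizer (M : Set G)}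

/-- `C_N(z)` -/
abbrev HH (M : Subgroup G) (z : G) : Subgroup G :=
  centralizer ({z} : Set G) ⊓ normalizer (M : Set G)

omit [Finite G] in
theorem mem_HH {h : G} : h ∈ HH M z ↔ h * z = z * h ∧ h ∈ normalizer (M : Set G) := by
  rw [mem_inf, mem_centralizer_singleton_iff]

theorem card_split {α : Type*} [Finite α] (p : α → Prop) :
    Nat.card α = Nat.card {x // p x} + Nat.card {x // ¬ p x} := by
  classical
  rw [← Nat.card_sum, Nat.card_congr (Equiv.sumCompl p)]

theorem card_N (B : Big M z) :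
    Nat.card (normalizer (M : Set G)) = Nat.card M * Nat.card (HH M z) := by
  rw [← Nat.card_prod]
  symm
  refine Nat.card_congr (Equiv.ofBijective (fun p : M × HH M z =>
    (⟨p.1 * p.2, mul_mem (le_normalizer p.1.2) p.2.2.2⟩ : normalizer (M : Set G))) ⟨?_, ?_⟩)
  · rintro ⟨⟨x, hx⟩, ⟨h, hh⟩⟩ ⟨⟨y, hy⟩, ⟨k, hk⟩⟩ e
    have e' : x * h = y * k := congrArg Subtype.val e
    have h1 : y⁻¹ * x = k * h⁻¹ := by
      calc _ = y⁻¹ * (x * h) * h⁻¹ := by group
        _ = _ := by rw [e']; group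
    have h2 : y⁻¹ * x = 1 := B.eq_one_of_comm (mul_mem (inv_mem hy) hx) B.z2 B.z1 (by
      rw [h1]; exact (mem_HH.1 (mul_mem hk (inv_mem hh))).1.symm)
    obtain rfl : y = x := inv_mul_eq_one.1 h2
    obtain rfl : h = k := mul_left_cancel e'
    rfl
  · rintro ⟨n, hn⟩
    obtain ⟨x, hx, h, hh, rfl⟩ := B.fac n hn
    exact ⟨(⟨x, hx⟩, ⟨h, mem_HH.2 ⟨hh, by
      simpa using mul_mem (inv_mem (le_normalizer hx)) hn⟩⟩), rfl⟩

theorem card_C : Nat.card (centralizer ({z} : Set G)) = Nat.card (HH M z) + Nat.card (Out M z) := by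
  rw [card_split (fun c : centralizer ({z} : Set G) => (c : G) ∈ normalizer (M : Set G))]
  congr 1
  · exact Nat.card_congr ⟨fun c => ⟨c.1.1, c.1.2, c.2⟩, fun c => ⟨⟨c.1, c.2.1⟩, c.2.2⟩,
      fun _ => rfl, fun _ => rfl⟩
  · exact Nat.card_congr ⟨fun c => ⟨c.1.1, mem_centralizer_singleton_iff.1 c.1.2, c.2⟩,
      fun c => ⟨⟨c.1, mem_centralizer_singleton_iff.2 c.2.1⟩, c.2.2⟩, fun _ => rfl, fun _ => rfl⟩

theorem card_G (B : Big M z) : Nat.card G = Nat.card M * Nat.card (HH M z) +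
    Nat.card M * Nat.card (Out M z) * Nat.card M := by
  rw [card_split (fun g : G => g ∈ normalizer (M : Set G)), ← B.card_N, ← Nat.card_prod,
    ← Nat.card_prod]
  congr 1
  symm
  refine Nat.card_congr (Equiv.ofBijective (fun p : (M × Out M z) × M =>
    (⟨p.1.1 * p.1.2 * p.2, fun h => p.1.2.2.2 (by
      simpa [mul_assoc] using mul_mem (mul_mem (inv_mem (le_normalizer p.1.1.2)) h)
        (inv_mem (le_normalizer p.2.2)))⟩ : {g : G // g ∉ normalizer (M : Set G)})) ⟨?_, ?_⟩)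
  · rintro ⟨⟨⟨y, hy⟩, ⟨c, hc, hcN⟩⟩, ⟨x, hx⟩⟩ ⟨⟨⟨y', hy'⟩, ⟨c', hc', hcN'⟩⟩, ⟨x', hx'⟩⟩ e
    have e' : y * c * x = y' * c' * x' := congrArg Subtype.val e
    have h1 : y'⁻¹ * y = 1 := B.eq_one_of_cent hc hc' hcN (mul_mem (inv_mem hy') hy) (by
      have : c'⁻¹ * (y'⁻¹ * y) * c = x' * x⁻¹ := by
        calc _ = c'⁻¹ * y'⁻¹ * (y * c * x) * x⁻¹ := by group
          _ = _ := by rw [e']; group
      rw [this]
      exact le_normalizer (mul_mem hx' (inv_mem hx)))
    obtain rfl : y' = y := inv_mul_eq_one.1 h1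
    have h2 : x' * x⁻¹ = c'⁻¹ * c := by
      calc _ = c'⁻¹ * y'⁻¹ * (y' * c' * x') * x⁻¹ := by group
        _ = _ := by rw [← e']; group
    have h3 : x' * x⁻¹ = 1 := B.eq_one_of_comm (mul_mem hx' (inv_mem hx)) B.z2 B.z1 (by
      rw [h2]
      calc _ = c'⁻¹ * (c' * z) * c'⁻¹ * c := by group
        _ = c'⁻¹ * (z * c) := by rw [hc']; group
        _ = _ := by rw [← hc, mul_assoc])
    obtain rfl : x' = x := mul_inv_eq_one.1 h3
    obtain rfl : c = c' := mul_left_cancel (mul_right_cancel e')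
    rfl
  · rintro ⟨g, hg⟩
    obtain ⟨y, hy, c, hc, hcN, x, hx, rfl⟩ := B.exists_factor hg
    exact ⟨((⟨y, hy⟩, ⟨c, hc, hcN⟩), ⟨x, hx⟩), rfl⟩

theorem card_I (B : Big M z) : Nat.card {t : G // t * t = 1 ∧ t ≠ 1} =
    Nat.card M + Nat.card M * Nat.card (Out M z) := by
  rw [card_split (fun t : {t : G // t * t = 1 ∧ t ≠ 1} => t.1 ∈ normalizer (M : Set G)),
    ← Nat.card_prod]
  congr 1
  · symm
    refine Nat.card_congr (Equiv.ofBijective (fun x : M => (⟨⟨x * z, B.mul_z_sq x.2,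
      B.mul_z_ne_one x.2⟩, mul_mem (le_normalizer x.2) B.zN⟩ :
        {t : {t : G // t * t = 1 ∧ t ≠ 1} // t.1 ∈ normalizer (M : Set G)})) ⟨?_, ?_⟩)
    · intro x y e
      have e' : (x : G) * z = y * z := congrArg (fun t => t.1.1) e
      exact Subtype.ext (mul_right_cancel e')
    · rintro ⟨⟨t, ht, ht1⟩, hN⟩
      exact ⟨⟨t * z, B.invol_mem hN ht ht1⟩, Subtype.ext (Subtype.ext (by
        simp only [mul_assoc, B.z2, mul_one]))⟩
  · symm
    refine Nat.card_congr (Equiv.ofBijective (fun p : M × Out M z => (⟨⟨p.1 * p.2 * (p.1 : G)⁻¹, by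
      calc _ = p.1 * (p.2.1 * p.2.1) * (p.1 : G)⁻¹ := by group
        _ = 1 := by rw [B.sq_of_cent p.2.2.1 p.2.2.2]; group,
      fun h => p.2.2.2 (by rw [conj_eq_one_iff.1 h]; exact one_mem _)⟩, fun h => p.2.2.2 (by
        simpa [mul_assoc] using mul_mem (mul_mem (inv_mem (le_normalizer p.1.2)) h)
          (le_normalizer p.1.2))⟩ :
        {t : {t : G // t * t = 1 ∧ t ≠ 1} // t.1 ∉ normalizer (M : Set G)})) ⟨?_, ?_⟩)
    · rintro ⟨⟨y, hy⟩, ⟨c, hc, hcN⟩⟩ ⟨⟨y', hy'⟩, ⟨c', hc', hcN'⟩⟩ e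
      have e' : y * c * y⁻¹ = y' * c' * y'⁻¹ := congrArg (fun t => t.1.1) e
      have h1 : y'⁻¹ * y = 1 := B.eq_one_of_cent hc hc' hcN (mul_mem (inv_mem hy') hy) (by
        have : c'⁻¹ * (y'⁻¹ * y) * c = y'⁻¹ * y := by
          calc _ = c'⁻¹ * y'⁻¹ * (y * c * y⁻¹) * y := by group
            _ = _ := by rw [e']; group
        rw [this]
        exact le_normalizer (mul_mem (inv_mem hy') hy))
      obtain rfl : y' = y := inv_mul_eq_one.1 h1
      obtain rfl : c = c' := mul_left_cancel (mul_right_cancel e')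
      rfl
    · rintro ⟨⟨t, ht, ht1⟩, hN⟩
      obtain ⟨y, hy, c, hc, hcN, rfl⟩ := B.invol_conj_cent hN ht
      exact ⟨(⟨y, hy⟩, ⟨c, hc, hcN⟩), rfl⟩

end Big

end CF.BTI
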