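import Cfsg.Agent.PLocal.BTIa
import Cfsg.Agent.Perm.Semiaffine

/-!
# TI-subgroups inverted by an involution: the doubly transitive case
-/

set_option autoImplicit false

namespace CF.BTI

open Subgroup MulAction CF.Small CF.Perm OnePoint

/-- a sharply triply transitive group whose two-point stabiliser is inverted by a swap is `PGL₂` -/
theorem pgl_of_inverts {G Ω : Type*} [Group G] [MulAction G Ω] [Finite G] {P : Subgroup G}
    {o o' : Ω} (Z : ZSetup G Ω P o) (ho : o' ≠ o) (hP : 2 ≤ Nat.card P)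
    (hd : Nat.card P = Nat.card (stab2 G o o') + 1) {s : G} (hs1 : s • o = o') (hs2 : s • o' = o)
    (hinv : ∀ h ∈ stab2 G o o', s * h * s⁻¹ = h⁻¹) (K : Type*) [Field K] [Fintype K]
    (hK : Fintype.card K = Nat.card P) : Nonempty (G ≃* Matrix.ProjGenLinGroup (Fin 2) K) := by
  classical
  have := ZS.finite Z
  have h5 := Z.card_eq ho
  have hc3 : 3 ≤ Nat.card Ω := by omega
  have hT := ZS.three Z
  have := faithful_of_three hT hc3
  have h3 := three_trans_of_card (ZS.twoTrans Z) hT ho.symm (by omega)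
  obtain ⟨c, hco, hco'⟩ := exists_third_of_card hc3 o o'
  have hNc := comm_of_inverts hinv
  obtain ⟨u₀, hu₀, h0⟩ := Z.trans o' c ho hco
  obtain ⟨-, h1⟩ := exists_field_param P (stab2 G o o') (ZS.comm_of_card_le Z ho (by omega))
    (fun a ha u hu => Z.conj_mem ha.1 hu)
    (fun a ha b hb u _ => by
      calc _ = (a * b) * u * (a * b)⁻¹ := by group
        _ = _ := by rw [hNc a ha b hb]; group)
    (Z.irred ho (by omega)) hu₀ (by rintro rfl; exact hco' (by simpa using h0.symm))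
  obtain ⟨τ, t1, t2, t3, t4, t5, t6, -⟩ := h1 K (by rw [Nat.card_eq_fintype_card, hK])
  have t0 : τ 0 = 1 := by simpa using t4 0 0
  have hlin : ∀ h ∈ stab2 G o o', ∃ c : K, c ≠ 0 ∧ ∀ x, h * τ x * h⁻¹ = τ (c * x) := fun h hh =>
    t6 h (fun u hu => Z.conj_mem hh.1 hu) fun a ha u _ => by
      calc _ = (a * h) * u * (a * h)⁻¹ := by group
        _ = _ := by rw [hNc a ha _ hh]; group
  have hne : ∀ x, τ x • o' ≠ o := fun x => Z.smul_ne (Z.fix _ (t1 x)) ho
  let e : OnePoint K ≃ Ω := Equiv.ofBijective (fun x => x.elim o fun x => τ x • o') ⟨by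
    rintro (_ | x) (_ | y) h
    · rfl
    · exact absurd h.symm (hne y)
    · exact absurd h (hne x)
    · have h' : τ x • o' = τ y • o' := h
      have := Z.free _ (mul_mem (inv_mem (t1 y)) (t1 x)) o' ho (by
        rw [mul_smul, h', inv_smul_smul])
      exact congrArg _ (t2 (inv_mul_eq_one.1 this).symm), fun a => by
    by_cases ha : a = o
    · exact ⟨∞, ha.symm⟩
    · obtain ⟨u, hu, rfl⟩ := Z.trans o' a ho ha
      obtain ⟨x, rfl⟩ := t3 u hu
      exact ⟨x, rfl⟩⟩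
  have e1 : e ∞ = o := rfl
  have he : ∀ x : K, e x = τ x • o' := fun _ => rfl
  have e0 : e (0 : K) = o' := by rw [he, t0, one_smul]
  have ec : e (1 : K) = c := by rw [he, t5, h0]
  have einj : ∀ {x y : K}, e x = e y → x = y := fun h => by simpa using h
  have hT' : ∀ b x : K, τ b • e x = e (x + b : K) := fun b x => by
    rw [he, he, add_comm, t4, mul_smul]
  have hH : ∀ h ∈ stab2 G o o', ∃ c : K, c ≠ 0 ∧ ∀ x : K, h • e x = e (c * x : K) := by
    intro h hh
    obtain ⟨c, hc, h6⟩ := hlin h hh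
    exact ⟨c, hc, fun x => by
      rw [he, he, ← h6, mul_smul, mul_smul, inv_smul_eq_iff.2 (show h • o' = o' from hh.2).symm]⟩
  have hH' : ∀ y : K, y ≠ 0 → ∃ h ∈ stab2 G o o', ∀ x : K, h • e x = e (y * x : K) := by
    intro y hy
    obtain ⟨h, h6, h7, h8⟩ := threeTrans_iff.1 h3 o o' c o o' (e y) ho.symm hco.symm hco'.symm
      ho.symm (hne y).symm (by rw [← e0]; simpa using hy.symm)
    obtain ⟨d, -, h9⟩ := hH h ⟨h6, h7⟩
    rw [← ec, h9, mul_one] at h8
    exact ⟨h, ⟨h6, h7⟩, by rwa [← einj h8]⟩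
  obtain ⟨d, hd0, hd1⟩ := ZSetup.exists_swap_value (e := e) (τ := s) (by rw [e1, e0, hs1])
    (by rw [e1, e0, hs2]) (one_ne_zero (α := K))
  obtain ⟨k, hk, hk'⟩ := hH' d⁻¹ (inv_ne_zero hd0)
  refine nonempty_mulEquiv_pgl_of_action h3 e (fun b => ⟨τ b, Z.fix _ (t1 b), hT' b⟩)
    ⟨k * s, by rw [mul_smul, e1, hs1, e0]; exact hk.2, by rw [mul_smul, e0, hs2, e1]; exact hk.1,
      fun x hx => ?_⟩ fun g hg => ?_
  · obtain ⟨h, hh, hh'⟩ := hH' x hx
    have h6 : s • e x = h⁻¹ • e d := by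
      rw [← hinv h hh, ← hd1, mul_smul, mul_smul, inv_smul_smul, hh', mul_one]
    have h7 : h⁻¹ • e d = e (x⁻¹ * d : K) := by
      rw [inv_smul_eq_iff, hh', mul_inv_cancel_left₀ hx]
    rw [mul_smul, h6, h7, hk', mul_comm x⁻¹, inv_mul_cancel_left₀ hd0]
  · obtain ⟨u, hu, h, hh, rfl⟩ := ZS.exists_mul Z ho hg
    obtain ⟨b, rfl⟩ := t3 u hu
    obtain ⟨a, ha, h6⟩ := hH h hh
    exact ⟨a, b, ha, fun x => by rw [mul_smul, h6, hT']⟩

variable {G : Type*} [Group G] {M : Subgroup G} {z : G}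

theorem smul_mk_eq_iff {N : Subgroup G} {g a b : G} :
    g • (a : G ⧸ N) = (b : G ⧸ N) ↔ b⁻¹ * g * a ∈ N := by
  rw [Quotient.smul_mk, smul_eq_mul, eq_comm, QuotientGroup.eq, mul_assoc]

namespace Big

variable [Finite G]

/-- the three-point lemma -/
theorem eq_one_of_three (B : Big M z) {c : G} (hcN : c ∉ normalizer (M : Set G)) (hc2 : c * c = 1)
    (hall : ∀ g : G, g ∉ normalizer (M : Set G) →
      ∃ y ∈ M, c⁻¹ * y⁻¹ * g ∈ normalizer (M : Set G))
    {g x : G} (hg : g ∈ normalizer (M : Set G)) (hg' : c * g * c⁻¹ ∈ normalizer (M : Set G))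
    (hx : x ∈ M) (hx1 : x ≠ 1) (h : (x * c)⁻¹ * g * (x * c) ∈ normalizer (M : Set G)) : g = 1 := by
  have hci := inv_eq_of_sq hc2
  have key : ∀ y ∈ M, (y * c)⁻¹ * g * (y * c) ∈ normalizer (M : Set G) → g * y = y * g := by
    intro y hy h
    have h1 : y⁻¹ * (g * y * g⁻¹) = 1 := B.eq_one_of_conj_mem_N hcN hc2
      (mul_mem (inv_mem hy) (conj_mem hg hy)) (by
        convert mul_mem h (inv_mem hg') using 1
        rw [mul_inv_rev, hci]
        calc _ = c * y⁻¹ * g * y * (c * c) * g⁻¹ * c := by rw [hc2]; group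
          _ = c * y⁻¹ * g * (y * c) * (c * g⁻¹ * c) := by group
          _ = _ := by rw [mul_inv_rev, mul_inv_rev, hci, mul_assoc c g⁻¹ c])
    rw [inv_mul_eq_one] at h1
    nth_rw 2 [h1]
    group
  have hgx := key x hx h
  have hinv := B.inv_of_conj_mem hcN hc2 hg hg'
  obtain ⟨y, hy, hn⟩ := hall (c * x * c⁻¹) fun h => hx1 (B.eq_one_of_conj_mem_N hcN hc2 hx h)
  have hcx : (c * x * c⁻¹)⁻¹ * g * (c * x * c⁻¹) = g := by
    have h1 : c⁻¹ * g * c = g⁻¹ := by rw [← hinv, hci]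
    have h2 : x⁻¹ * g⁻¹ * x = g⁻¹ := by
      calc _ = (g * x)⁻¹ * x := by group
        _ = _ := by rw [hgx]; group
    calc _ = c * (x⁻¹ * (c⁻¹ * g * c) * x) * c⁻¹ := by group
      _ = c * g⁻¹ * c⁻¹ := by rw [h1, h2]
      _ = (c * g * c⁻¹)⁻¹ := by group
      _ = _ := by rw [hinv, inv_inv]
  have hgy := key y hy (by
    have := mul_mem (mul_mem hn hg) (inv_mem hn)
    convert this using 1
    nth_rw 2 [← hcx]
    group)
  have hng : (c⁻¹ * y⁻¹ * (c * x * c⁻¹)) * g * (c⁻¹ * y⁻¹ * (c * x * c⁻¹))⁻¹ = g⁻¹ := by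
    nth_rw 1 [← hcx]
    calc _ = c⁻¹ * (y⁻¹ * (g * y)) * c := by group
      _ = c⁻¹ * g * c := by rw [hgy]; group
      _ = _ := by rw [← hinv, hci]
  generalize c⁻¹ * y⁻¹ * (c * x * c⁻¹) = n at hn hng
  obtain ⟨w, hw, hd⟩ := B.exists_inv hcN hc2 hn
  have hd1 : n * w ∈ normalizer (M : Set G) := mul_mem hn (le_normalizer hw)
  have h3 := B.comm_of_conj_mem hcN hc2 hd1 (by rw [hd]; exact inv_mem hd1) hg hg'
  have h4 : g * g = (g * w⁻¹ * g⁻¹) * w := by
    have h5 : n⁻¹ * g * n = g⁻¹ := by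
      rw [← inv_inj, inv_inv]
      calc _ = n⁻¹ * g⁻¹ * n := by group
        _ = _ := by rw [← hng]; group
    calc g * g = g * (n * w)⁻¹ * (n * w * g) := by group
      _ = g * w⁻¹ * (n⁻¹ * g * n) * w := by rw [h3]; group
      _ = _ := by rw [h5]
  have h6 : g * g = 1 := B.eq_one_of_conj_mem_N hcN hc2
    (by rw [h4]; exact mul_mem (conj_mem hg (inv_mem hw)) hw) (by
      convert mul_mem hg' hg' using 1; group)
  exact B.odd x hx hx1 g hgx h6

theorem zsetup (B : Big M z) {c : G} (hcN : c ∉ normalizer (M : Set G)) (hc2 : c * c = 1)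
    (hall : ∀ g : G, g ∉ normalizer (M : Set G) →
      ∃ y ∈ M, c⁻¹ * y⁻¹ * g ∈ normalizer (M : Set G)) :
    ZSetup G (G ⧸ normalizer (M : Set G)) M ((1 : G) : G ⧸ normalizer (M : Set G)) := by
  have hci := inv_eq_of_sq hc2
  have hrep : ∀ a : G ⧸ normalizer (M : Set G), a ≠ ((1 : G) : G ⧸ normalizer (M : Set G)) →
      ∃ y ∈ M, a = ((y * c : G) : G ⧸ normalizer (M : Set G)) := by
    intro a ha
    induction a using QuotientGroup.induction_on with | H g =>
    obtain ⟨y, hy, h⟩ := hall g fun h => ha (by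
      rw [eq_comm, QuotientGroup.eq]; simpa using h)
    exact ⟨y, hy, by rw [eq_comm, QuotientGroup.eq, mul_inv_rev]; exact h⟩
  refine ⟨fun u hu => smul_mk_eq_iff.2 (by simpa using le_normalizer hu),
    fun g hg => by simpa using smul_mk_eq_iff.1 hg, fun a b ha hb => ?_, fun u hu a ha h => ?_,
    fun g a b d hab had hbd ha hb hd => ?_, c, fun h => hcN (by simpa using smul_mk_eq_iff.1 h)⟩
  · obtain ⟨y, hy, rfl⟩ := hrep a ha
    obtain ⟨y', hy', rfl⟩ := hrep b hb
    exact ⟨y' * y⁻¹, mul_mem hy' (inv_mem hy), smul_mk_eq_iff.2 (by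
      rw [show (y' * c)⁻¹ * (y' * y⁻¹) * (y * c) = 1 by group]; exact one_mem _)⟩
  · obtain ⟨y, hy, rfl⟩ := hrep a ha
    have h1 := B.eq_one_of_conj_mem_N hcN hc2 (conj_mem' (le_normalizer hy) hu) (by
      convert smul_mk_eq_iff.1 h using 1
      rw [mul_inv_rev, hci]; group)
    simpa using conj_eq_one_iff.1 (show y⁻¹ * u * y⁻¹⁻¹ = 1 by simpa using h1)
  · induction a using QuotientGroup.induction_on with | H k =>
    have hk : ∀ p : G ⧸ normalizer (M : Set G), (k : G ⧸ normalizer (M : Set G)) ≠ p →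
        k⁻¹ • p ≠ ((1 : G) : G ⧸ normalizer (M : Set G)) := fun p hp h => hp (by
      rw [inv_smul_eq_iff.1 h, Quotient.smul_mk, smul_eq_mul, mul_one])
    obtain ⟨y, hy, hy'⟩ := hrep _ (hk b hab)
    obtain ⟨x, hx, hx'⟩ := hrep _ (hk d had)
    rw [inv_smul_eq_iff, Quotient.smul_mk, smul_eq_mul] at hy' hx'
    subst hy' hx'
    have h1 := smul_mk_eq_iff.1 ha
    have h2 := smul_mk_eq_iff.1 hb
    have h3 := smul_mk_eq_iff.1 hd
    have h4 := B.eq_one_of_three hcN hc2 hall (g := y⁻¹ * (k⁻¹ * g * k) * y) (x := y⁻¹ * x)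
      (mul_mem (mul_mem (inv_mem (le_normalizer hy)) h1) (le_normalizer hy))
      (by convert h2 using 1; rw [mul_inv_rev, mul_inv_rev, hci]; group)
      (mul_mem (inv_mem hy) hx) (fun h => hbd (by rw [inv_mul_eq_one.1 h]))
      (by convert h3 using 1; group)
    calc g = (k * y) * (y⁻¹ * (k⁻¹ * g * k) * y) * (k * y)⁻¹ := by group
      _ = 1 := by rw [h4]; group

/-- the doubly transitive case -/
theorem case_two_trans (B : Big M z) {c : G} (hc : c * z = z * c)
    (hcN : c ∉ normalizer (M : Set G))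
    (hall : ∀ c' : G, c' * z = z * c' → c' ∉ normalizer (M : Set G) →
      c⁻¹ * c' ∈ normalizer (M : Set G)) :
    ∃ (F : Type) (_ : Field F) (_ : Fintype F) (p : ℕ) (_ : Fact p.Prime) (_ : CharP F p),
      Fintype.card F = Nat.card M ∧ Cfsg.IsElementaryAbelian p M ∧
        (Nonempty (G ≃* (GL (Fin 2) F ⧸ Subgroup.center (GL (Fin 2) F))) ∨
         (Fintype.card F % 4 = 1 ∧
          Nonempty (G ≃* Matrix.ProjectiveSpecialLinearGroup (Fin 2) F))) := by
  have hc2 := B.sq_of_cent hc hcN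
  have hci := inv_eq_of_sq hc2
  have Z := B.zsetup hcN hc2 fun g hg => by
    obtain ⟨y, hy, c', hc', hcN', x, hx, rfl⟩ := B.exists_factor hg
    exact ⟨y, hy, by
      convert mul_mem (hall c' hc' hcN') (le_normalizer hx) using 1; group⟩
  have ho : (c : G ⧸ normalizer (M : Set G)) ≠ ((1 : G) : G ⧸ normalizer (M : Set G)) :=
    fun h => hcN (by rw [eq_comm, QuotientGroup.eq] at h; simpa using h)
  have hz : z ∈ stab2 G ((1 : G) : G ⧸ normalizer (M : Set G)) (c : G ⧸ normalizer (M : Set G)) :=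
    ⟨smul_mk_eq_iff.2 (by simpa using B.zN), smul_mk_eq_iff.2 (by
      rw [mul_assoc, ← hc, inv_mul_cancel_left]; exact B.zN)⟩
  have heven := even_card_of_invol hz B.z1 B.z2
  have := ZS.finite Z
  have h1 := card_le_two_mul_card_stab2 (ZS.twoTrans Z) (ZS.three Z) ho.symm heven
  have h2 := Z.card_eq ho
  have h3 := ZS.card_dvd Z ho
  have hm : 1 < Nat.card M := (one_lt_card_iff_ne_bot M).2 B.ne
  have hcomm : IsMulCommutative M := ⟨⟨fun a b => Subtype.ext (B.comm a.2 b.2)⟩⟩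
  obtain ⟨p, f, hp, hf, hexp, hcard⟩ := ZS.elementary_of_comm Z ho (by omega) B.ne hcomm
  obtain ⟨F, iF, iF', hF⟩ := exists_field_card hp hf
  have : Fact p.Prime := ⟨hp⟩
  have hch : CharP F p := charP_of_card_eq_prime_pow hF
  refine ⟨F, iF, iF', p, this, hch, by rw [hF, hcard], ⟨hcomm, hexp⟩, ?_⟩
  obtain ⟨j, hj⟩ := h3
  by_cases hj1 : j = 1
  · left
    refine pgl_of_inverts Z ho hm (by rw [hj1, mul_one] at hj; omega) (s := c)
      (by rw [Quotient.smul_mk, smul_eq_mul, mul_one])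
      (by rw [Quotient.smul_mk, smul_eq_mul, hc2]) (fun h hh => ?_) F (by rw [hF, hcard])
    exact B.inv_of_conj_mem hcN hc2 (by simpa using smul_mk_eq_iff.1 hh.1)
      (by simpa [hci] using smul_mk_eq_iff.1 hh.2)
  · right
    have hj0 : j ≠ 0 := by rintro rfl; omega
    have h4 : 2 * Nat.card (stab2 G ((1 : G) : G ⧸ normalizer (M : Set G))
        (c : G ⧸ normalizer (M : Set G))) + 1 ≤ Nat.card M := by
      have : 2 ≤ j := by omega
      nlinarith [Nat.sub_add_cancel hm.le]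
    obtain ⟨h5, p', f', -, -, -, h6, h7⟩ := ZS.psl_of_even_small Z ho heven h4
    obtain ⟨i, hi⟩ := heven
    exact ⟨by rw [hF, ← hcard]; omega, h7 F (by rw [hF, ← hcard, h6])⟩

end Big

end CF.BTI
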