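/-
Characters of Sylow normalizers that extend: normal complements.
-/
import Cfsg.Agent.BG.B9
import Cfsg.Agent.Clifford.Small
import Cfsg.Agent.Transfer.Tate
import Cfsg.Prelude.Def_Blocks

set_option autoImplicit false

namespace CF.RealP
open Cfsg Subgroup CF.BG CF.Char CF.Clifford
open scoped commutatorElement

variable {G : Type*} [Group G] [Finite G] {p : ℕ}

theorem deg_eq {χ : G → ℂ} {n : ℕ} (h : χ 1 = n) : charDegree χ = n := by
  simp [charDegree, h]

theorem deg_cast {χ : G → ℂ} (h : IsCharacter G χ) : χ 1 = (charDegree χ : ℂ) := by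
  obtain ⟨n, hn⟩ := char_one_eq_nat h
  rw [deg_eq hn, hn]

theorem map_norm_syl' {Q : Type*} [Group Q] {S : Subgroup G} (hS : Syl p S ⊤) (π : G →* Q)
    (hπ : Function.Surjective π) : (𝐍 S).map π = 𝐍 (S.map π) := by
  refine le_antisymm (map_norm le_rfl π) fun y hy => ?_
  obtain ⟨x, rfl⟩ := hπ y
  have : x ∈ 𝐍 (S ⊔ π.ker) := by
    rw [← comap_map_eq, ← comap_normalizer_eq_of_surjective _ hπ]; exact hy
  obtain ⟨a, ha, b, hb, rfl⟩ := (hS.of_le le_sup_left le_top).syl_frattini (normalIn_norm _) this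
  obtain ⟨s, hs, k, hk, rfl⟩ := (mem_sup_norm (le_top.trans (normalIn_top.2 inferInstance).norm)).1 ha
  exact ⟨s * b, mul_mem (le_norm_self S hs) hb.2, by simp [show π k = 1 from hk]⟩

/-- Ito's theorem modulo the kernel. -/
theorem deg_dvd_index_of_der_le (A : Subgroup G) [A.Normal] {χ : G → ℂ}
    (hχ : IsIrrCharacter G χ) (h : ⁅A, A⁆ ≤ charKer χ) : charDegree χ ∣ A.index := by
  haveI := charKer_normal (irr_isClassFunction hχ)
  obtain ⟨ψ, hψ, e⟩ := exists_irr_quotient hχ (charKer χ) le_rfl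
  have hs := QuotientGroup.mk'_surjective (charKer χ)
  haveI : (A.map (QuotientGroup.mk' (charKer χ))).Normal := Normal.map inferInstance _ hs
  have hab : Abel (A.map (QuotientGroup.mk' (charKer χ))) := by
    rw [← der_eq_bot, ← map_commutator, Subgroup.map_eq_bot_iff, QuotientGroup.ker_mk']; exact h
  have h1 : ψ 1 = (charDegree χ : ℂ) := by
    rw [← deg_cast (irr_isCharacter hχ)]
    exact (congrFun e 1).symm
  exact (irr_one_dvd_index_of_normal_comm _ (fun a ha b hb => hab.mul_comm ha hb) hψ h1).trans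
    (index_map_dvd _ hs)

/-- If the characters of `H / M` extend to `G`, the normal closure of `M` meets `H` in `M`. -/
theorem normalClosure_inf_eq {M H : Subgroup G} (h : M ⊴ H)
    (ext : ∀ θ, IsIrrCharacter H θ → M.subgroupOf H ≤ charKer θ →
      ∃ χ, IsIrrCharacter G χ ∧ ∀ x : H, χ x = θ x) : normalClosure (M : Set G) ⊓ H = M := by
  refine le_antisymm (fun x hx => by_contra fun hxM => ?_) (le_inf le_normalClosure h.le)
  haveI := h.normal
  obtain ⟨θ, hθ, h1, h2⟩ := exists_irr_le_charKer_not_mem (M.subgroupOf H) (g := ⟨x, hx.2⟩) hxM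
  obtain ⟨χ, hχ, e⟩ := ext θ hθ h1
  haveI := charKer_normal (irr_isClassFunction hχ)
  have key : ∀ y : H, (y : G) ∈ charKer χ ↔ y ∈ charKer θ := fun y => by
    rw [mem_charKer_iff (irr_isCharacter hχ), mem_charKer_iff (irr_isCharacter hθ), e, ← e 1]; rfl
  have : normalClosure (M : Set G) ≤ charKer χ :=
    normalClosure_le_normal fun m hm => (key ⟨m, h.le hm⟩).2 (h1 hm)
  exact h2 ((key ⟨x, hx.2⟩).1 (this hx.1))

theorem npc_of_self_norm [Fact p.Prime] {P R L : Subgroup G} (hP : Syl p P ⊤) (l : P ≤ R)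
    (hR : R ⊓ 𝐍 P = P) [L.Normal] (hL : L ≤ R) (hd : L ⊓ P = ⁅P, P⁆) : NPC p R := by
  have hs := QuotientGroup.mk'_surjective L
  set f := QuotientGroup.mk' L with hf
  have hPR : Syl p P R := hP.of_le l le_top
  have hab : Abel (P.map f) := by
    rw [← der_eq_bot, ← map_commutator, Subgroup.map_eq_bot_iff, hf, QuotientGroup.ker_mk', ← hd]
    exact inf_le_left
  have h1 : NPC p (R.map f) := by
    refine (hPR.map f).burnside fun y hy => hab ?_
    obtain ⟨⟨r, hr, rfl⟩, hy2⟩ := hy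
    rw [← map_norm_syl' hP f hs] at hy2
    obtain ⟨n, hn, e⟩ := hy2
    have : n ∈ R := by
      have : n⁻¹ * r ∈ L := QuotientGroup.eq.1 e
      simpa using mul_mem hr (inv_mem (hL this))
    exact ⟨n, hR.le ⟨this, hn⟩, e⟩
  have h2 : P ⊓ ⁅R, R⁆ ≤ ⁅P, P⁆ := by
    intro x hx
    have : f x ∈ P.map f ⊓ ⁅R.map f, R.map f⁆ :=
      ⟨mem_map_of_mem f hx.1, by rw [← map_commutator]; exact mem_map_of_mem f hx.2⟩
    have := h1.inf_der_le (hPR.map f) this
    rw [der_eq_bot.2 hab, mem_bot] at this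
    exact hd.le ⟨(QuotientGroup.eq_one_iff x).1 this, hx.1⟩
  obtain ⟨Q, rfl⟩ := hPR.exists_sylow
  refine (npc_iff Fact.out).2 (CF.Transfer.hasNPC_of_inf_commutator_le Q ?_)
  rw [← map_le_map_iff_of_injective R.subtype_injective, map_inf _ _ _ R.subtype_injective,
    map_commutator, _root_.commutator_def, map_commutator, map_top_subtype]
  exact h2

theorem exists_compl_of_ext [Fact p.Prime] {P : Subgroup G} (hP : Syl p P ⊤)
    (ext : ∀ θ, IsIrrCharacter (𝐍 P) θ → ¬ p ∣ charDegree θ →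
      ∃ χ, IsIrrCharacter G χ ∧ ∀ x : 𝐍 P, χ x = θ x) :
    ∃ K : Subgroup G, K.Normal ∧ K ⊔ 𝐍 P = ⊤ ∧ K ⊓ 𝐍 P = ⊥ := by
  have hp : p.Prime := Fact.out
  have ext' : ∀ θ, IsIrrCharacter (𝐍 P) θ → ⁅P, P⁆.subgroupOf (𝐍 P) ≤ charKer θ →
      ∃ χ, IsIrrCharacter G χ ∧ ∀ x : 𝐍 P, χ x = θ x := fun θ hθ h => by
    refine ext θ hθ fun hd => ?_
    haveI := (normalIn_norm P).normal
    rw [subgroupOf_comm (le_norm_self P) (le_norm_self P)] at h
    exact (hP.of_le (le_norm_self P) le_top).not_dvd hp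
      (hd.trans (deg_dvd_index_of_der_le _ hθ h))
  have h1 := normalClosure_inf_eq (normalIn_norm P) fun θ hθ h =>
    ext' θ hθ ((comap_mono (der_le P)).trans h)
  have h2 := normalClosure_inf_eq (normalIn_norm P).der ext'
  set R := normalClosure (P : Set G)
  have h3 : NPC p R := npc_of_self_norm hP le_normalClosure h1
    (L := normalClosure ((⁅P, P⁆ : Subgroup G) : Set G)) (normalClosure_mono (der_le P))
    (le_antisymm ((inf_le_inf_left _ (le_norm_self P)).trans h2.le)
      (le_inf le_normalClosure (der_le P)))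
  have hR : R ⊴ ⊤ := normalIn_top.2 inferInstance
  have hPR : Syl p P R := hP.of_le le_normalClosure le_top
  have sd := h3.sdprod hPR
  refine ⟨𝐎 {p}ᶜ R, normalIn_top.1 (hR.O _), ?_, ?_⟩
  · have := hPR.syl_frattini_sup hR
    rw [top_inf_eq, ← sd.sup, sup_assoc, sup_eq_right.2 (le_norm_self P)] at this
    exact this
  · rw [← le_bot_iff, ← sd.inf]
    exact le_inf inf_le_left ((inf_le_inf_right _ (O_le _ _)).trans h1.le)

/-- The projection onto a complement of a normal subgroup. -/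
theorem exists_retract {K H : Subgroup G} [K.Normal] (hs : K ⊔ H = ⊤) (hi : K ⊓ H = ⊥) :
    ∃ f : G →* H, (∀ x : H, f x = x) ∧ f.ker = K := by
  have hc : IsComplement' K H := (SDProd.of_normal (normalIn_top.2 inferInstance) hs hi).isComplement'
  have hb : Function.Bijective ((QuotientGroup.mk' K).comp H.subtype) := by
    refine ⟨(injective_iff_map_eq_one _).2 fun x hx => ?_, fun y => ?_⟩
    · exact Subtype.ext (mem_bot.1 (hi.le ⟨(QuotientGroup.eq_one_iff _).1 hx, x.2⟩))
    · obtain ⟨g, rfl⟩ := QuotientGroup.mk'_surjective K y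
      obtain ⟨k, hk, h, hh, rfl⟩ := (mem_sup_norm' (H := K) (K := H) (le_top.trans
        (normalIn_top.2 inferInstance).norm)).1 (hs.ge (mem_top g))
      exact ⟨⟨h, hh⟩, by simp [(QuotientGroup.eq_one_iff k).2 hk]⟩
  let e := MulEquiv.ofBijective _ hb
  refine ⟨e.symm.toMonoidHom.comp (QuotientGroup.mk' K), fun x => e.symm_apply_apply x, ?_⟩
  ext g
  simp [MonoidHom.mem_ker]

end CF.RealP
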