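/-
Groups whose real irreducible characters have degree prime to `p` (Isaacs–Navarro): structure.
-/
import Cfsg.Agent.PLocal.ChA
import Cfsg.Agent.BG.B10
import Cfsg.Agent.BlockB.Ord3
import Cfsg.Agent.Char.Over

set_option autoImplicit false

namespace CF.RealP
open Cfsg Subgroup CF.BG CF.Char CF.Clifford
open scoped commutatorElement ComplexConjugate

universe u

variable {G H : Type*} [Group G] [Group H] {p : ℕ}

/-- Real valued functions. -/
def IsReal (χ : G → ℂ) : Prop := ∀ g, (χ g).im = 0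

theorem isReal_iff {χ : G → ℂ} : IsReal χ ↔ (fun g => conj (χ g)) = χ :=
  ⟨fun h => funext fun g => Complex.conj_eq_iff_im.2 (h g),
    fun h g => Complex.conj_eq_iff_im.1 (congrFun h g)⟩

/-- The subgroup generated by the `p`-elements. -/
abbrev Gen (p : ℕ) (G : Type*) [Group G] : Subgroup G :=
  Subgroup.closure {g : G | ∃ k : ℕ, orderOf g = p ^ k}

instance instNormalGen : (Gen p G).Normal := by
  refine ⟨fun n hn g => ?_⟩
  have : (Gen p G).map (MulAut.conj g).toMonoidHom ≤ Gen p G := by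
    rw [MonoidHom.map_closure]
    refine closure_mono ?_
    rintro _ ⟨x, ⟨k, hk⟩, rfl⟩
    exact ⟨k, (orderOf_conj' g x).trans hk⟩
  exact this ⟨n, hn, rfl⟩

/-- All real irreducible characters have degree prime to `p`. -/
def Hyp (p : ℕ) (G : Type*) [Group G] : Prop :=
  ∀ χ, IsIrrCharacter G χ → IsReal χ → ¬ p ∣ charDegree χ

variable [Finite G]

theorem mem_gen {x : G} (hx : PiElt {p} x) : x ∈ Gen p G :=
  subset_closure (hx.exists_pow (orderOf_pos x).ne')

theorem gen_le (hp : p.Prime) {L : Subgroup G} (h : ∀ x, PiElt {p} x → x ∈ L) : Gen p G ≤ L :=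
  (closure_le _).2 fun x ⟨k, hk⟩ => h x (by rw [PiElt, hk]; exact piNat_pow_self hp k)

theorem le_gen {S : Subgroup G} (h : PiGrp {p} S) : S ≤ Gen p G := fun _ hx => mem_gen (h.elt hx)

theorem gen_idx (p : ℕ) (G : Type*) [Group G] [Finite G] : PiNat {p}ᶜ (Gen p G).index := by
  obtain ⟨S, hS⟩ := exists_syl p (⊤ : Subgroup G)
  simpa using hS.idx_of_le (le_gen hS.pi)

theorem odd_gen_idx (G : Type*) [Group G] [Finite G] : Odd (Gen 2 G).index :=
  Nat.not_even_iff_odd.1 fun h =>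
    (piNat_compl_single Nat.prime_two).1 (gen_idx 2 G) (even_iff_two_dvd.1 h)

theorem map_gen (hp : p.Prime) (f : G →* H) (hf : Function.Surjective f) :
    (Gen p G).map f = Gen p H := by
  have := Finite.of_surjective f hf
  refine le_antisymm (map_le_iff_le_comap.2 (gen_le hp fun x hx => mem_gen (hx.map f)))
    (gen_le hp fun y hy => ?_)
  obtain ⟨x, rfl⟩ := hf y
  obtain ⟨a, b, ha, hb, h1, h2, e⟩ := exists_piPart {p} x
  refine ⟨a, mem_gen h1, ?_⟩
  have hc : a * b = b * a := (abel_zpowers x).mul_comm ha hb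
  exact (piPart_unique (h1.map f) (h2.map f) hy (piElt_one _) (by rw [← map_mul, hc, map_mul])
    (by simp) (by rw [← map_mul, e, mul_one])).1

theorem Hyp.surj (h : Hyp p G) (f : G →* H) (hf : Function.Surjective f) : Hyp p H :=
  fun χ hχ hr hd => h _ (irr_comp_of_surjective hχ f hf) (fun _ => hr _)
    (by rwa [charDegree, map_one])

theorem sol_gen_surj (hp : p.Prime) (h : Sol (Gen p G)) (f : G →* H)
    (hf : Function.Surjective f) : Sol (Gen p H) := map_gen hp f hf ▸ h.map f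

/-! ### real characters over a given character -/

theorem exists_real_over (N H : Subgroup G) [N.Normal] (hi : N ⊓ H = ⊥)
    (ho : Odd (N ⊔ H).index) (lam : N →* ℂˣ) {g : G}
    (hg : ∀ n, lam ((NormalEmb.sub N).c g n) = (lam n)⁻¹) :
    ∃ χ, IsIrrCharacter G χ ∧ IsReal χ ∧ Ov N.subtype (fun n => lam n) χ := by
  classical
  have := Fintype.ofFinite G
  set θ := indFun H (fun _ => 1) with hθ
  have cθ : IsCharacter G θ := char_indFun_one H
  choose m hm using fun χ : IrrCharacter G => inner_char_eq_nat cθ (irr_isCharacter χ.2)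
  choose k hk using fun χ : IrrCharacter G =>
    inner_char_eq_nat (char_restrict (irr_isCharacter χ.2) N) (char_linear lam)
  have rθ : (fun x => conj (θ x)) = θ := by rw [hθ, ← indFun_conj]; simp
  obtain ⟨χ, h1, h2⟩ := BlockB.Ord.exists_real_odd (fun χ => m χ * k χ) (fun χ => by
    congr 1
    · apply Nat.cast_injective (R := ℂ)
      rw [← hm, ← hm, inner_char_comm cθ (irr_isCharacter χ.2), ← inner_conj_conj θ, rθ]
    · apply Nat.cast_injective (R := ℂ)
      rw [← hk, ← hk]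
      refine Eq.trans ?_ ((NormalEmb.sub N).inner_res_cj (irr_isClassFunction χ.2) _ g)
      refine Eq.trans ?_ (inner_char_comm (char_restrict (irr_isCharacter χ.2) N)
          ((NormalEmb.sub N).cj_char (char_linear lam) g)).symm
      refine Eq.trans ?_ (inner_conj_conj _ _)
      congr 1
      funext n
      rw [NormalEmb.cj_apply, hg, ← map_inv, linear_conj, map_inv]
      simp) (by
    have e : ((∑ χ, m χ * k χ : ℕ) : ℂ) = classInner (fun n : N => θ n) (fun n => lam n) := by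
      have : (fun n : N => θ n) = ∑ χ : IrrCharacter G, (m χ : ℂ) • fun n : N => (χ : G → ℂ) n := by
        funext n
        rw [classFun_apply_eq_sum (char_isClassFunction cθ)]
        simp [hm]
      rw [this, inner_sum_left]
      simp [Char.inner_smul_left, hk]
    have e2 : (Nat.card N : ℂ) * classInner (fun n : N => θ n) (fun n => lam n) = H.index := by
      rw [card_mul_inner, Finset.sum_eq_single 1]
      · simp [hθ, indFun_one]
      · intro n _ hn
        rw [hθ, indFun_eq_zero_of_not_conj, zero_mul]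
        intro x hx
        have : x * n * x⁻¹ ∈ N ⊓ H := ⟨Normal.conj_mem inferInstance _ n.2 x, hx⟩
        rw [hi, mem_bot, conj_eq_one_iff] at this
        exact hn (Subtype.ext this)
      · simp
    rw [← e] at e2
    have e3 : Nat.card N * ∑ χ, m χ * k χ = H.index := by exact_mod_cast e2
    have sd : SDProd N H (N ⊔ H) :=
      SDProd.mk' (le_top.trans (normalIn_top.2 inferInstance).norm) hi
    rw [← relIndex_mul_index (le_sup_right : H ≤ N ⊔ H), sd.relIndex_right] at e3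
    rwa [Nat.eq_of_mul_eq_mul_left Nat.card_pos e3])
  refine ⟨χ, χ.2, h1, ov_iff.2 ?_⟩
  have : k χ ≠ 0 := fun e => by simp [e] at h2
  erw [hk]
  exact_mod_cast this

theorem exists_inverted {N : Subgroup G} [N.Normal] (ha : Abel N) (h : ¬ Gen 2 G ≤ 𝐂 N) :
    ∃ (lam : N →* ℂˣ) (g : G), lam ≠ 1 ∧ ∀ n, lam ((NormalEmb.sub N).c g n) = (lam n)⁻¹ := by
  classical
  obtain ⟨t, ht, htN⟩ : ∃ t, PiElt {2} t ∧ t ∉ 𝐂 N := by
    by_contra! hc
    exact h (gen_le Nat.prime_two hc)
  have hex : ∃ k, t ^ 2 ^ k ∈ 𝐂 N := by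
    obtain ⟨k, hk⟩ := ht.exists_pow (orderOf_pos t).ne'
    exact ⟨k, by rw [← hk, pow_orderOf_eq_one]; exact one_mem _⟩
  obtain ⟨k, hk⟩ := Nat.exists_eq_succ_of_ne_zero (n := Nat.find hex) fun e => htN (by
    simpa [e] using Nat.find_spec hex)
  have h1 : t ^ 2 ^ k ∉ 𝐂 N := Nat.find_min hex (by omega)
  have h2 : t ^ 2 ^ k * t ^ 2 ^ k ∈ 𝐂 N := by
    have := Nat.find_spec hex
    rwa [hk, pow_succ, pow_mul, sq] at this
  set s := t ^ 2 ^ k
  set E := NormalEmb.sub N
  have hc : ∀ a b : N, a * b = b * a := fun a b => Subtype.ext (ha.mul_comm a.2 b.2)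
  obtain ⟨n, hn⟩ : ∃ n : N, E.c s n * n⁻¹ ∉ (⊥ : Subgroup N) := by
    by_contra! hc
    refine h1 (mem_cent.2 fun x hx => ?_)
    have := congrArg Subtype.val (mul_inv_eq_one.1 (mem_bot.1 (hc ⟨x, hx⟩)))
    exact (mul_inv_eq_iff_eq_mul.1 this).symm
  obtain ⟨mu, -, hmu⟩ := exists_linear_of_not_mem_of_comm hc ⊥ hn
  refine ⟨mu.comp (E.c s).toMonoidHom * mu⁻¹, s, fun e => hmu ?_, fun x => ?_⟩
  · simpa using DFunLike.congr_fun e n
  · have : E.c s (E.c s x) = x := by
      rw [← E.c_mul]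
      exact Subtype.ext (mul_inv_eq_iff_eq_mul.2 (mem_cent.1 h2 x x.2).symm)
    simp [this]

theorem index_inertia_dvd {N : Type*} [Group N] {E : NormalEmb N G} {θ : N → ℂ} {χ : G → ℂ}
    (h : Ov E.ι θ χ) (hχ : IsIrrCharacter G χ) (hθ : IsIrrCharacter N θ) :
    (E.inertia θ).index * charDegree θ ∣ charDegree χ := by
  have := Finite.of_injective _ E.inj
  have := Fintype.ofFinite G
  have := Fintype.ofFinite N
  have h1 := E.clifford_one hχ hθ (ov_iff.1 h)
  obtain ⟨m, hm⟩ := inner_char_eq_nat (char_comp (irr_isCharacter hχ) E.ι) (irr_isCharacter hθ)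
  rw [hm, deg_cast (irr_isCharacter hθ)] at h1
  rw [deg_eq (χ := χ) (n := m * ((E.inertia θ).index * charDegree θ)) (by rw [h1]; push_cast; rfl)]
  exact Dvd.intro_left _ rfl

theorem le_of_index [Fact p.Prime] {N Q T : Subgroup G} (hW : (N ⊔ Q).Normal) [N.Normal]
    (hQ : PiGrp {p} Q) (hN : N ≤ T) (hT : ¬ p ∣ T.index) : Q ≤ T := by
  refine le_sup_right.trans (relIndex_eq_one.1 (PiNat.eq_one (π := {p}) ?_ ?_) : N ⊔ Q ≤ T)
  · refine PiNat.dvd ?_ (relIndex_dvd_left _ hN)
    rw [relIndex_sup_norm' (Or.inl (le_top.trans (normalIn_top.2 inferInstance).norm))]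
    exact hQ.relIndex _
  · refine ((piNat_compl_single Fact.out).2 hT).dvd ?_
    rw [← relIndex_sup_norm (Or.inr (le_top.trans (normalIn_top.2 hW).norm)), ← relIndex_top_right]
    exact relIndex_dvd_right le_sup_right le_top

theorem eq_one_of_le_inertia {N Q : Subgroup G} [N.Normal] (h : N ≤ ⁅N, Q⁆) {lam : N →* ℂˣ}
    (hQ : Q ≤ (NormalEmb.sub N).inertia fun n => lam n) : lam = 1 := by
  have : ⁅N, Q⁆ ≤ lam.ker.map N.subtype := by
    refine commutator_le.2 fun n hn q hq => ⟨⟨n, hn⟩ * (NormalEmb.sub N).c q ⟨n, hn⟩⁻¹, ?_, ?_⟩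
    · have := Units.ext (((NormalEmb.sub N).mem_inertia').1 (hQ hq) ⟨n, hn⟩⁻¹)
      rw [SetLike.mem_coe, MonoidHom.mem_ker, map_mul, this, ← map_mul, mul_inv_cancel, map_one]
    · simp [NormalEmb.sub_c, commutatorElement_def, mul_assoc]
  ext n
  obtain ⟨m, hm, e⟩ := this (h n.2)
  obtain rfl : m = n := Subtype.ext e
  rw [MonoidHom.mem_ker.1 hm]
  rfl

theorem card_quot_lt {N : Subgroup G} [N.Normal] (h : N ≠ ⊥) : Nat.card (G ⧸ N) < Nat.card G := by
  rw [← index_eq_card, ← N.index_mul_card]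
  exact lt_mul_of_one_lt_right (Nat.pos_of_ne_zero index_ne_zero_of_finite) (one_lt_card.2 h)

theorem normal_syl [Fact p.Prime] (n : ℕ) : ∀ (G : Type u) [Group G] [Finite G], Nat.card G = n →
    Sol (Gen p G) → Hyp p G → ∀ U Q : Subgroup G, U.Normal → Gen 2 G ≤ U →
    (∀ x ∈ U, ∃ k, x ^ p ^ k ∈ Gen 2 G) → Syl p Q U → Q.Normal := by
  have hp : p.Prime := Fact.out
  induction n using Nat.strong_induction_on with
  | _ n ih =>
  intro G _ _ hn hs hr U Q hU hKU hpow hQ
  by_cases hQ1 : Q = ⊥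
  · rw [hQ1]; infer_instance
  have hL : Gen p G ⊓ U ⊴ ⊤ := normalIn_top.2 inferInstance
  obtain ⟨N, hN, hm⟩ := exists_minN (ne_bot_mono hQ1 (le_inf (le_gen hQ.pi) hQ.le)) hL.norm
  have nN : N ⊴ ⊤ := ⟨le_top, hm.norm⟩
  haveI := normalIn_top.1 nN
  obtain ⟨q, hq, hab⟩ := hm.exists_abelem (hs.mono (hN.trans inf_le_left))
  have hsur := QuotientGroup.mk'_surjective N
  have hW : (N ⊔ Q).Normal := by
    have := ih _ (hn ▸ card_quot_lt hm.ne_bot) (G ⧸ N) rfl (sol_gen_surj hp hs _ hsur) (hr.surj _ hsur)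
      (U.map (QuotientGroup.mk' N)) (Q.map (QuotientGroup.mk' N)) (hU.map _ hsur)
      (map_gen Nat.prime_two _ hsur ▸ map_mono hKU) (by
        rintro _ ⟨x, hx, rfl⟩
        obtain ⟨k, hk⟩ := hpow x hx
        exact ⟨k, by rw [← map_pow, ← map_gen Nat.prime_two _ hsur]; exact mem_map_of_mem _ hk⟩)
      (hQ.map _)
    have := this.comap (QuotientGroup.mk' N)
    rwa [comap_map_eq, QuotientGroup.ker_mk', sup_comm] at this
  have nW := normalIn_top.2 hW
  by_cases hqp : q = p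
  · subst hqp
    rwa [sup_eq_right.2 (hQ.le_of_normal (nN.of_le (hN.trans inf_le_right) le_top) hab.pi)] at hW
  have hNp : PiGrp {p}ᶜ N := hab.pi.of_single_ne hqp
  have hQW : Syl p Q (N ⊔ Q) := hQ.of_le le_sup_right (sup_le (hN.trans inf_le_right) hQ.le)
  have hF : N ⊔ 𝐍 Q = ⊤ := by
    have := hQW.syl_frattini_sup nW
    rwa [top_inf_eq, sup_assoc, sup_eq_right.2 (le_norm_self Q)] at this
  have nQ : Q ≤ 𝐍 N := le_top.trans nN.norm
  rcases hm.eq_bot_or (inf_le_left : N ⊓ 𝐂 Q ≤ N) (hF ▸ sup_le (hab.abel.le_norm inf_le_left)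
    (norm_inf_cent (le_top.trans nN.norm) le_rfl)) with h0 | h0
  swap
  · refine normalIn_top.1 ⟨le_top, nW.norm.trans (hQW.norm_le_norm (sup_le ?_ (le_norm_self Q)))⟩
    exact norm_of_cent (h0.ge.trans inf_le_right)
  exfalso
  have hi : N ⊓ 𝐍 Q = ⊥ := by rw [inf_norm_eq_inf_cent nQ (hQ.pi.inf_eq_bot hNp), h0]
  have hc : N ≤ ⁅N, Q⁆ := by
    have := (hab.abel.dprod_cent_comm nQ (hQ.pi.coprime hNp)).sup
    rw [h0, bot_sup_eq] at this
    exact this.ge
  obtain ⟨lam, g, h1, h2⟩ : ∃ (lam : N →* ℂˣ) (g : G), lam ≠ 1 ∧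
      ∀ n, lam ((NormalEmb.sub N).c g n) = (lam n)⁻¹ := by
    by_cases h2 : q = 2
    · obtain ⟨x, hx, hx1⟩ := exists_mem_ne_one hm.ne_bot
      obtain ⟨mu, -, hmu⟩ := exists_linear_of_not_mem_of_comm
        (fun a b : N => Subtype.ext (hab.abel.mul_comm a.2 b.2)) ⊥ (g := ⟨x, hx⟩)
        (fun e => hx1 (congrArg Subtype.val (mem_bot.1 e)))
      refine ⟨mu, 1, fun e => hmu (by simp [e]), fun n => ?_⟩
      rw [map_one, MulAut.one_apply, eq_inv_iff_mul_eq_one, ← map_mul, ← sq, ← h2,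
        show n ^ q = 1 from Subtype.ext (hab.pow n n.2), map_one]
    refine exists_inverted hab.abel fun hK => hm.ne_bot ?_
    have hNK : N ≤ Gen 2 G := fun x hx => by
      obtain ⟨k, hk⟩ := hpow x (hN hx).2
      exact zpowers_le.2 hk (mem_zpowers_pow_iff.2
        ((piNat_pow_self hp k).coprime (hNp.elt hx)))
    have sd : SDProd N (𝐍 Q ⊓ Gen 2 G) (⊤ ⊓ Gen 2 G) :=
      (SDProd.of_normal nN hF hi).inf_of_left_le hNK
    rw [top_inf_eq] at sd
    have nH : Gen 2 G ≤ 𝐍 (𝐍 Q ⊓ Gen 2 G) :=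
      sd.sup.ge.trans (sup_le (norm_of_cent' (inf_le_right.trans hK)) (le_norm_self _))
    have : Gen 2 G ≤ 𝐍 Q ⊓ Gen 2 G := gen_le Nat.prime_two fun x hx =>
      hx.mem_of_relIndex (mem_gen hx) nH (sd.relIndex_right ▸ hab.pi.of_single_ne h2)
    exact le_bot_iff.1 (hi ▸ le_inf le_rfl (hNK.trans (this.trans inf_le_left)))
  obtain ⟨χ, hχ, r, o⟩ := exists_real_over N (𝐍 Q) hi (by rw [hF, index_top]; exact odd_one) lam h2
  exact h1 (eq_one_of_le_inertia hc (le_of_index hW hQ.pi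
    ((range_subtype N).ge.trans ((NormalEmb.sub N).range_le_inertia (irr_isClassFunction
      (irr_linear lam)))) fun hd => hr χ hχ r (hd.trans ((Dvd.intro _ rfl).trans
        (index_inertia_dvd (E := NormalEmb.sub N) o hχ (irr_linear lam))))))

theorem exists_under_not_dvd {K : Type*} [Group K] [Finite K] (j : K →* G) {χ : G → ℂ}
    (hχ : IsCharacter G χ) (h : ¬ p ∣ charDegree χ) :
    ∃ μ, IsIrrCharacter K μ ∧ Ov j μ χ ∧ ¬ p ∣ charDegree μ := by
  have := Fintype.ofFinite K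
  by_contra! hc
  have cχ := char_comp hχ j
  choose m hm using fun η : IrrCharacter K => inner_char_eq_nat cχ (irr_isCharacter η.2)
  have h1 : charDegree χ = ∑ η : IrrCharacter K, m η * charDegree (η : K → ℂ) := by
    have := classFun_apply_eq_sum (char_isClassFunction cχ) 1
    simp only [map_one, hm] at this
    refine deg_eq (this.trans ?_)
    push_cast
    exact Finset.sum_congr rfl fun η _ => by rw [deg_cast (irr_isCharacter η.2)]
  refine h (h1 ▸ Finset.dvd_sum fun η _ => ?_)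
  by_cases h0 : m η = 0
  · simp [h0]
  · exact (hc η η.2 (ov_iff.2 (by rw [hm]; exact_mod_cast h0))).mul_left _

theorem exists_linear_under [Fact p.Prime] {K : Type*} [Group K] [Finite K] (hK : IsPGroup p K)
    (j : K →* G) {χ : G → ℂ} (hχ : IsCharacter G χ) (h : ¬ p ∣ charDegree χ) :
    ∃ μ, IsIrrCharacter K μ ∧ Ov j μ χ ∧ μ 1 = 1 := by
  obtain ⟨μ, h1, h2, h3⟩ := exists_under_not_dvd j hχ h
  refine ⟨μ, h1, h2, ?_⟩
  obtain ⟨k, hk⟩ := hK.exists_card_eq
  have := irr_one_dvd_card h1 (deg_cast (irr_isCharacter h1))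
  rw [hk, Nat.dvd_prime_pow Fact.out] at this
  obtain ⟨i, -, hi⟩ := this
  rw [deg_cast (irr_isCharacter h1), hi]
  cases i with
  | zero => simp
  | succ i => exact (h3 (hi ▸ dvd_pow_self _ (by omega))).elim

theorem cent_of_le_der [Fact p.Prime] (hp2 : p ≠ 2) (n : ℕ) : ∀ (G : Type u) [Group G] [Finite G],
    Nat.card G = n → Hyp p G → ∀ P M : Subgroup G, Syl p P ⊤ → M.Normal → M ≤ ⁅P, P⁆ →
    Gen 2 G ≤ 𝐂 M := by
  have hp : p.Prime := Fact.out
  induction n using Nat.strong_induction_on with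
  | _ n ih =>
  intro G _ _ hn hr P M hP hM hMP
  by_cases hM1 : M = ⊥
  · simp [hM1]
  obtain ⟨N, hN, hm⟩ := exists_minN hM1 (normalIn_top.2 hM).norm
  have nN : N ⊴ ⊤ := ⟨le_top, hm.norm⟩
  haveI := normalIn_top.1 nN
  have hNP : N ≤ P := hN.trans (hMP.trans (der_le P))
  have hab := hm.abelem_of_pi (hP.pi.le hNP)
  have hsur := QuotientGroup.mk'_surjective N
  have h1 := ih _ (hn ▸ card_quot_lt hm.ne_bot) (G ⧸ N) rfl (hr.surj _ hsur)
    (P.map (QuotientGroup.mk' N)) (M.map (QuotientGroup.mk' N))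
    (map_top_of_surjective _ hsur ▸ hP.map (QuotientGroup.mk' N)) (hM.map _ hsur)
    (by rw [← map_commutator]; exact map_mono hMP)
  rw [← map_gen Nat.prime_two _ hsur, ← comm_eq_bot', ← map_commutator, Subgroup.map_eq_bot_iff,
    QuotientGroup.ker_mk'] at h1
  by_cases hK : Gen 2 G ≤ 𝐂 N
  · refine gen_le Nat.prime_two fun t ht => ?_
    have := zpowers_le.2 (mem_gen ht)
    exact zpowers_le.1 (cent_of_stable (ht.zpowers.coprime (hab.pi.of_single_ne hp2))
      ((commutator_mono le_rfl this).trans h1) (this.trans hK))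
  exfalso
  obtain ⟨lam, g, h2, h3⟩ := exists_inverted hab.abel hK
  obtain ⟨S, hS⟩ := exists_syl 2 (⊤ : Subgroup G)
  obtain ⟨χ, hχ, r, o⟩ := exists_real_over N S ((hab.pi.of_single_ne hp2).inf_eq_bot' hS.pi)
    (Nat.not_even_iff_odd.1 fun h => (piNat_compl_single Nat.prime_two).1
      (hS.idx_of_le (le_sup_right : S ≤ N ⊔ S)) (by simpa using even_iff_two_dvd.1 h)) lam h3
  obtain ⟨μ, h4, h5, h6⟩ := exists_linear_under hP.pi.isPGroup P.subtype (irr_isCharacter hχ)
    (hr χ hχ r)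
  have h7 : Ov (inclusion hNP) (fun _ => 1) μ := ov_of_ext irr_one fun x => by
    rw [← h6]
    refine (mem_charKer_iff (irr_isCharacter h4)).1 ((irr_one_eq_one_iff h4).1 h6 ?_)
    have := hMP (hN x.2)
    rw [← map_top_subtype P, ← map_commutator] at this
    obtain ⟨y, hy, e⟩ := this
    rwa [show inclusion hNP x = y from Subtype.ext e.symm]
  obtain ⟨a, ha⟩ := Ov.exists_cj (E := NormalEmb.sub N)
    (h5.trans h7 (irr_isCharacter hχ) h4 char_const_one) o hχ irr_one (irr_linear lam)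
  refine h2 (MonoidHom.ext fun x => Units.ext ?_)
  exact (congrFun ha x).symm

end CF.RealP
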