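/-
Stellmacher's characteristic subgroup `W(S)`: the stable normal closure of `Ω₁Z(S)`.
-/
import Cfsg.Agent.PLocal.Constraint
import Cfsg.Agent.PLocal.Dickson

namespace CF.PLocal

open Subgroup Cfsg CF.Transfer
open scoped commutatorElement

universe u

variable {p : ℕ}

/-- Quadratic elements of `T` on `W` centralize `W`. -/
def QuadFree {G : Type*} [Group G] (W T : Subgroup G) : Prop :=
  ∀ x ∈ T, ⁅⁅W, zpowers x⁆, zpowers x⁆ = ⊥ → ⁅W, zpowers x⁆ = ⊥

theorem QuadFree.normalClosure {G : Type*} [Group G] [Finite G] [Fact p.Prime] {W T : Subgroup G}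
    (h : QuadFree W T) (hT : IsSylowIn p T ⊤) (hst : IsPStableOn p (normalClosure (W : Set G))) :
    QuadFree (normalClosure (W : Set G)) T := by
  intro a ha hq
  set V := Subgroup.normalClosure (W : Set G) with hV
  set L := (pCore p (G ⧸ centralizer (V : Set G))).comap (QuotientGroup.mk' _) with hL
  have haL : a ∈ L := hst a hq
  have hCL : centralizer (V : Set G) ≤ L := fun c hc => by
    rw [hL, mem_comap, QuotientGroup.mk'_apply, (QuotientGroup.eq_one_iff c).mpr hc]
    exact one_mem _
  have hP : IsSylowIn p (T ⊓ L) L := hT.inf_of_normalized le_top le_normalizer_of_normal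
  rw [commutator_eq_bot_iff_le_centralizer]
  refine le_of_conj_le fun g w hw => ?_
  obtain ⟨y, hy, n, hn, rfl⟩ := hP.frattini' (h := g) (le_normalizer_of_normal (mem_top g))
  obtain ⟨t, ht, c, hc, rfl⟩ := (mem_sup_of_le_normalizer le_normalizer_of_normal).mp
    (comap_pCore_le_sup hT _ hn)
  have htL : t ∈ L := by simpa using mul_mem hn (inv_mem (hCL hc))
  have hyt : y * t ∈ normalizer ((T ⊓ L : Subgroup G) : Set G) :=
    mul_mem hy (le_normalizer ⟨ht, htL⟩)
  have ha' := inv_conj_mem_of_mem_normalizer hyt (⟨ha, haL⟩ : a ∈ T ⊓ L)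
  have hq' := quadratic_conj (N := ⊥) hq.le (y * t)⁻¹
  rw [inv_inv] at hq'
  have h1 := h _ ha'.1 (le_bot_iff.mp ((commutator_mono (commutator_mono le_normalClosure le_rfl)
    le_rfl).trans hq'))
  have h2 := mem_centralizer_zpowers.mp (le_centralizer_of_commutator_eq_bot h1 hw)
  have h3 : w * c = c * w := hc w (le_normalClosure hw)
  rw [mem_centralizer_zpowers]
  have h4 : y * (t * c) * w * (y * (t * c))⁻¹ = (y * t) * w * (y * t)⁻¹ := by
    rw [mul_assoc y, mul_assoc t, ← h3]; group
  rw [h4]
  calc a * (y * t * w * (y * t)⁻¹) = (y * t) * ((y * t)⁻¹ * a * (y * t) * w) * (y * t)⁻¹ := by group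
    _ = _ := by rw [h2]; group

theorem QuadFree.map_iff {G H : Type*} [Group G] [Group H] {W T : Subgroup G} {f : G →* H}
    (hf : Function.Injective f) : QuadFree (W.map f) (T.map f) ↔ QuadFree W T := by
  have key : ∀ x, (⁅⁅W.map f, zpowers (f x)⁆, zpowers (f x)⁆ = ⊥ → ⁅W.map f, zpowers (f x)⁆ = ⊥) ↔
      (⁅⁅W, zpowers x⁆, zpowers x⁆ = ⊥ → ⁅W, zpowers x⁆ = ⊥) := fun x => by
    rw [← MonoidHom.map_zpowers, ← map_commutator, ← map_commutator,
      map_eq_bot_iff_of_injective _ hf, map_eq_bot_iff_of_injective _ hf]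
  constructor
  · exact fun h x hx => (key x).mp (h _ (mem_map_of_mem f hx))
  · rintro h _ ⟨x, hx, rfl⟩
    exact (key x).mpr (h x hx)

section

variable {S : Type u} [Group S]

theorem omega_center_le_snc : omegaOne p (center S) ≤ stableNormalClosure p S :=
  le_sInf fun _ h => h.1

theorem omegaCenterThompson_map' {H : Type*} [Group H] {τ : S →* H} (hτ : Function.Injective τ) :
    (omegaCenterThompson p S).map τ = omegaOne p ((thompsonSubgroup p S).map τ ⊓
      centralizer ((thompsonSubgroup p S).map τ : Set H)) := by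
  rw [omegaCenterThompson, ← omegaOne_map hτ.injOn, map_inf_centralizer hτ.injOn]

theorem omega_center_le_omegaCenterThompson [Finite S] :
    omegaOne p (center S) ≤ omegaCenterThompson p S := by
  rw [omegaCenterThompson_eq, omegaOne_le_iff]
  exact fun x hx hn => mem_omegaOne (mem_centerThompson_of_center (mem_top x)
    (fun g _ => mem_center_iff.mp hx g) hn) hn

theorem omegaCenterThompson_normal {H : Type u} [Group H] {τ : S →* H}
    (h : IsStableEmbedding p τ) : ((omegaCenterThompson p S).map τ).Normal := by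
  have := h.2.2.2.2.1
  rw [omegaCenterThompson_map' h.1]
  exact omegaOne_normal _

theorem snc_le [Finite S] : stableNormalClosure p S ≤ omegaCenterThompson p S :=
  sInf_le ⟨omega_center_le_omegaCenterThompson, fun _ _ _ h => omegaCenterThompson_normal h⟩

theorem snc_normal {H : Type u} [Group H] {τ : S →* H} (h : IsStableEmbedding p τ) :
    ((stableNormalClosure p S).map τ).Normal := by
  have := h.2.1
  have : Finite S := Finite.of_injective _ h.1
  constructor
  rintro _ ⟨w, hw, rfl⟩ g
  obtain ⟨w', -, e⟩ := (omegaCenterThompson_normal h).conj_mem _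
    (mem_map_of_mem τ (snc_le hw)) g
  refine ⟨w', mem_sInf.mpr fun W hW => ?_, e⟩
  obtain ⟨w'', h1, e'⟩ := (hW.2 H τ h).conj_mem _ (mem_map_of_mem τ (mem_sInf.mp hw W hW)) g
  rwa [← h.1 (e'.trans e.symm)]

theorem isStableEmbedding_comp {S' H : Type u} [Group S'] [Group H] (η : S ≃* S') {τ : S' →* H}
    (h : IsStableEmbedding p τ) : IsStableEmbedding p (τ.comp η.toMonoidHom) := by
  obtain ⟨h1, h2, ⟨P, hP⟩, h4, h5, h6⟩ := h
  have hJ : (thompsonSubgroup p S).map η.toMonoidHom = thompsonSubgroup p S' := by
    rw [← thompsonSubgroupOf_top, ← thompson_map_equiv,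
      map_top_of_surjective _ η.surjective, thompsonSubgroupOf_top]
  refine ⟨h1.comp η.injective, h2, ⟨P, ?_⟩, h4, ?_, fun V _ hV => h6 V ?_⟩
  · rw [hP, MonoidHom.range_comp,
      MonoidHom.range_eq_top_of_surjective η.toMonoidHom η.surjective, MonoidHom.range_eq_map]
  · rwa [← map_map, hJ]
  · rwa [← map_map, omegaCenterThompson_map' η.injective, hJ] at hV

theorem snc_map_le {S' : Type u} [Group S'] (η : S ≃* S') :
    (stableNormalClosure p S).map η.toMonoidHom ≤ stableNormalClosure p S' := by
  refine le_sInf fun W hW => map_le_iff_le_comap.mpr (sInf_le ⟨?_, fun H _ τ hτ => ?_⟩)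
  · rw [omegaOne_le_iff]
    intro x hx hn
    refine hW.1 (mem_omegaOne (mem_center_iff.mpr fun g => ?_) (by rw [← map_pow, hn, map_one]))
    obtain ⟨g, rfl⟩ := η.surjective g
    change η g * η x = η x * η g
    rw [← map_mul, mem_center_iff.mp hx g, map_mul]
  · have := hW.2 H _ (isStableEmbedding_comp η.symm hτ)
    rwa [← map_map, ← comap_equiv_eq_map_symm'] at this

theorem snc_map {S' : Type u} [Group S'] (η : S ≃* S') :
    (stableNormalClosure p S).map η.toMonoidHom = stableNormalClosure p S' := by
  refine le_antisymm (snc_map_le η) fun x hx => ⟨η.symm x, ?_, η.apply_symm_apply x⟩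
  exact snc_map_le η.symm (mem_map_of_mem η.symm.toMonoidHom hx)

instance snc_characteristic : (stableNormalClosure p S).Characteristic :=
  characteristic_iff_map_eq.mpr fun η => snc_map η

theorem snc_ne_bot [Finite S] [Fact p.Prime] (hS : IsPGroup p S) [Nontrivial S] :
    stableNormalClosure p S ≠ ⊥ := fun h => by
  obtain ⟨x, -, h2, h3, h4⟩ := exists_mem_center_pow_eq_one (P := (⊤ : Subgroup S))
    (hS.to_subgroup _) top_ne_bot
  exact h3 (mem_bot.mp (h ▸ omega_center_le_snc (mem_omegaOne
    (mem_center_iff.mpr fun g => h2 g (mem_top g)) h4)))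

theorem snc_quadFree [Finite S] [Fact p.Prime] : QuadFree (stableNormalClosure p S) ⊤ := by
  obtain ⟨W, ⟨h1, h2, h3⟩, hmax⟩ := Set.Finite.exists_maximal (Set.toFinite
    {W : Subgroup S | omegaOne p (center S) ≤ W ∧ W ≤ stableNormalClosure p S ∧ QuadFree W ⊤})
    ⟨omegaOne p (center S), le_rfl, omega_center_le_snc, fun x _ _ =>
      commutator_eq_bot_iff_le_centralizer.mpr
        ((omegaOne_le _ _).trans (center_le_centralizer _))⟩
  suffices h : stableNormalClosure p S ≤ W by rwa [le_antisymm h h2]
  refine sInf_le ⟨h1, fun H _ τ hτ => ?_⟩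
  have := hτ.2.1
  have := snc_normal hτ
  have hV : normalClosure (W.map τ : Set H) ≤ (stableNormalClosure p S).map τ :=
    normalClosure_le_normal (map_mono h2)
  obtain ⟨P, hP⟩ := hτ.2.2.1
  have h4 := (((QuadFree.map_iff hτ.1).mpr h3).normalClosure (p := p)
    (by rw [← MonoidHom.range_eq_map, ← hP]; exact isSylowIn_top P)
    (hτ.2.2.2.2.2 _ (hV.trans (map_mono snc_le))))
  have h5 : ((normalClosure (W.map τ : Set H)).comap τ).map τ = normalClosure (W.map τ : Set H) :=
    map_comap_eq_self (hV.trans (map_le_range _ _))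
  rw [← h5, QuadFree.map_iff hτ.1] at h4
  have h6 : W ≤ (normalClosure (W.map τ : Set H)).comap τ :=
    map_le_iff_le_comap.mp le_normalClosure
  have h7 := hmax ⟨h1.trans h6, (comap_mono hV).trans (comap_map_eq_self_of_injective hτ.1 _).le,
    h4⟩ h6
  rw [show W.map τ = normalClosure (W.map τ : Set H) from
    le_antisymm le_normalClosure (h5.symm.le.trans (map_mono h7))]
  infer_instance

end

/-- The functor `W`. -/
def sncF (p : ℕ) [Fact p.Prime] : CharFunctor.{u} p where
  W := fun P => (stableNormalClosure p P).map P.subtype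
  le := fun P => map_subtype_le _
  map := fun P f hf => by
    have hi : Function.Injective (f.subgroupMap P) := fun x y h =>
      Subtype.ext (hf x.2 y.2 (congrArg Subtype.val h))
    rw [← snc_map (MulEquiv.ofBijective (f.subgroupMap P) ⟨hi, f.subgroupMap_surjective P⟩),
      map_map, map_map]
    rfl
  ne_bot := fun P hP h0 h => by
    have := (Subgroup.nontrivial_iff_ne_bot P).mpr h0
    exact snc_ne_bot hP ((map_eq_bot_iff_of_injective _ P.subtype_injective).mp h)

variable {G : Type u} [Group G] [Finite G] [Fact p.Prime]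

theorem sncF_le (S : Subgroup G) : (sncF p).W S ≤ omegaOne p (centerThompsonOf p S) := by
  rw [← omegaCenterThompson_map]
  exact map_mono snc_le

theorem sncF_quadFree (S : Subgroup G) : QuadFree ((sncF p).W S) S := by
  have := (QuadFree.map_iff S.subtype_injective).mpr (snc_quadFree (p := p) (S := S))
  rwa [← MonoidHom.range_eq_map, range_subtype] at this

theorem mem_pCore_of_section (hst : IsPStableOnSection p (pCore p G)
    ((frattini ↥(pCore p G)).map (pCore p G).subtype))
    (hc : centralizer (pCore p G : Set G) ≤ pCore p G) {a : G}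
    (ha : ⁅⁅pCore p G, zpowers a⁆, zpowers a⁆ = ⊥) : a ∈ pCore p G := by
  obtain ⟨D, hD, -, ⟨k, hk⟩, haD⟩ := hst a (ha ▸ bot_le)
  have : ((pCore p G).map (QuotientGroup.mk' ((frattini ↥(pCore p G)).map
      (pCore p G).subtype))).Normal := Normal.map inferInstance _ (QuotientGroup.mk'_surjective _)
  have : (sectionKernel (pCore p G) ((frattini ↥(pCore p G)).map (pCore p G).subtype)).Normal := by
    unfold sectionKernel; infer_instance
  have h1 := pRes_le_of_relIndex le_normalizer_of_normal hk
  have h2 := pRes_le_centralizer_of_frattini (p := p) (X := D) CF.Solv.pCore_isPGroup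
    (by rw [← map_pRes]; exact map_le_iff_le_comap.mpr h1)
  have h3 : IsPGroup p D := by
    rw [← pRes_eq_bot_iff, ← pRes_pRes]
    exact pRes_eq_bot_of_isPGroup (CF.Solv.pCore_isPGroup.to_le (h2.trans hc))
  exact CF.Solv.le_pCore h3 haD

/-- **Stellmacher's version of the `ZJ`-theorem** for `p`-stable groups. -/
theorem sncF_normal (hst : IsActionPStable p G)
    (hc : centralizer (pCore p G : Set G) ≤ pCore p G) {S : Subgroup G} (hS : IsSylowIn p S ⊤) :
    ((sncF p).W S).Normal := by
  set W := (sncF p).W S with hW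
  have hEA : IsElementaryAbelian p W :=
    isEA_of_le (isEA_omegaOne (centerThompson_isMulCommutative p S)) (sncF_le S)
  have hSW : S ≤ normalizer (W : Set G) := le_normalizer.trans ((sncF p).normalizer_le S)
  have hOS : pCore p G ≤ S :=
    hS.le_of_normalized CF.Solv.pCore_isPGroup le_top le_normalizer_of_normal
  have hWO : W ≤ pCore p G := fun w hw => mem_pCore_of_section hst.2.1 hc (by
    rw [commutator_eq_bot_iff_le_centralizer]
    have h1 : ⁅pCore p G, zpowers w⁆ ≤ W := by
      rw [commutator_comm]
      exact (commutator_mono (zpowers_le.mpr hw) hOS).trans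
        (commutator_le_left_of_le_normalizer hSW)
    exact h1.trans fun x hx => mem_centralizer_zpowers.mpr (comm_of_isMulCommutative hEA.1 hw hx))
  have hq := sncF_quadFree (p := p) S
  set V := normalClosure (W : Set G) with hV
  have hVO : V ≤ pCore p G := normalClosure_le_normal hWO
  have h1 : V ≤ centralizer (W : Set G) := le_of_conj_le fun g w hw => by
    have hx : g * w * g⁻¹ ∈ cj g W := conj_mem_cj hw
    have h2 : ⁅W, zpowers (g * w * g⁻¹)⁆ ≤ cj g W := by
      rw [commutator_comm]
      refine (commutator_mono (zpowers_le.mpr hx) hWO).trans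
        (commutator_le_left_of_le_normalizer ?_)
      rw [normalizer_cj, ← cj_eq_of_normal g (pCore p G), cj_le_cj]
      exact hOS.trans hSW
    have h3 := hq _ (hOS (hVO ((inferInstance : V.Normal).conj_mem _ (le_normalClosure hw) g))) (by
      rw [commutator_eq_bot_iff_le_centralizer]
      exact h2.trans fun x hx' => mem_centralizer_zpowers.mpr
        (comm_of_isMulCommutative (isEA_map hEA _).1 hx hx'))
    exact zpowers_le.mp (le_centralizer_of_commutator_eq_bot' h3)
  have h2 : V ≤ centralizer (V : Set G) := normalClosure_le_normal (le_centralizer_iff.mp h1)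
  have hVc : IsMulCommutative V := isMulCommutative_iff'.mpr fun a ha b hb => (h2 hb a ha)
  have hVEA : IsElementaryAbelian p V := by
    have : (omegaOne p V).Normal := omegaOne_normal V
    exact isEA_of_le (isEA_omegaOne hVc) (normalClosure_le_normal fun w hw =>
      mem_omegaOne (le_normalClosure hw) (hEA.2 w hw))
  have hJ : thompsonSubgroupOf p S ≤ centralizer (V : Set G) := by
    by_contra hcon
    obtain ⟨A, hA, h3, h4⟩ := exists_quadratic_maxAb hS.isPGroup (hVO.trans hOS) hVEA
      le_normalizer_of_normal hcon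
    refine h4 (commutator_eq_bot_of_le_centralizer' fun a ha => zpowers_le.mp
      (le_centralizer_of_commutator_eq_bot' (hq.normalClosure hS (hst.1 V hVEA) a (hA.1 ha) ?_)))
    exact le_bot_iff.mp (h3 ▸ commutator_mono (commutator_mono le_rfl (zpowers_le.mpr ha))
      (zpowers_le.mpr ha))
  set N := normalizer (thompsonSubgroupOf p S : Set G) with hN
  have hSN : S ≤ N := le_normalizer.trans (normalizer_le_normalizer_thompson p S)
  have hmap : ∀ X : Subgroup S, (X.map (inclusion hSN)).map N.subtype = X.map S.subtype :=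
    fun X => by rw [map_map]; rfl
  have hmap' : ∀ X : Subgroup S, X.map (inclusion hSN) = (X.map S.subtype).subgroupOf N :=
    fun X => by rw [← hmap, subgroupOf, comap_map_eq_self_of_injective N.subtype_injective]
  have hemb : IsStableEmbedding p (inclusion hSN) := by
    refine ⟨inclusion_injective hSN, inferInstance, ⟨(hS.of_le hSN le_top).toSylow, ?_⟩, ?_, ?_,
      fun U hUn hU => @hst.2.2 hS.toSylowTop U hUn ?_⟩
    · rw [IsSylowIn.coe_toSylow, inclusion_range]
    · have := (CF.Loc.isCharP_top_iff.mpr hc).normalizer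
        (hS.isPGroup.to_le (thompson_le p S)) le_top
      rw [top_inf_eq] at this
      exact CF.Loc.isCharP_iff.mp this
    · rw [hmap']
      exact normal_in_normalizer
    · exact (map_mono hU).trans (hmap _).le
  have hNW : N ≤ normalizer (W : Set G) := by
    have := snc_normal hemb
    rw [hmap'] at this
    exact @le_normalizer_of_normal_subgroupOf _ _ _ _ this ((sncF p).le S |>.trans hSN)
  refine normalizer_eq_top_iff.mp (eq_top_iff.mpr fun g _ => ?_)
  obtain ⟨c, hc, y, hy, rfl⟩ := exists_mul_normalizer_thompson hS hJ g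
  exact mul_mem (centralizer_le_normalizer _ (centralizer_anti le_normalClosure hc)) (hNW hy)

theorem sncF_sup_normalizer (h5 : 5 ≤ p) (hsep : IsPSolvable p G) {S : Subgroup G}
    (hS : IsSylowIn p S ⊤) : pPrimeCore p G ⊔ normalizer ((sncF p).W S : Set G) = ⊤ :=
  (sncF p).sup_normalizer_eq_top hS.isPGroup _ CF.Solv.pPrimeCore_coprime (sncF_normal
    ((NoSL2Pair.of_isPSolvable h5 hsep).quotient _).isActionPStable
    (isPConstrained_iff.mp (isPConstrained_of_isPSolvable hsep)) (isSylowIn_map_mk' hS _))

theorem sncF_hasNPC (hp2 : p ≠ 2) {S : Subgroup G} (hS : IsSylowIn p S ⊤)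
    (h : HasNormalPComplement p (normalizer ((sncF p).W S : Set G))) : HasNormalPComplement p G :=
  (sncF p).hasNPC_of_normal (fun _ _ => True) (fun _ _ _ _ _ => trivial)
    (fun _ _ _ _ _ _ => trivial)
    (fun _ _ _ _ hS _ hm => sncF_normal (hm.noSL2Pair hp2 hS.isPGroup).isActionPStable hm.cent hS)
    hS trivial h

end CF.PLocal
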