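/-
Glauberman–Solomon's characteristic subgroup `D*(S)`, Gillam's theorem on metabelian `p`-groups
and the full form of the replacement theorem.
-/
import Cfsg.Agent.PLocal.StabW
import Cfsg.Agent.PLocal.CL
import Cfsg.Agent.PLocal.GlaubRepl
import Cfsg.Prelude.Def_DStar

namespace CF.PLocal

open Subgroup Cfsg CF.Transfer
open scoped commutatorElement

variable {G : Type*} [Group G] {p : ℕ}

theorem class_two_sup {A B Z : Subgroup G} (hA : IsMulCommutative A) (hB : IsMulCommutative B)
    (hZ : ⁅A, B⁆ ≤ Z) (hZA : Z ≤ centralizer (A : Set G)) (hZB : Z ≤ centralizer (B : Set G)) :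
    ⁅⁅A ⊔ B, A ⊔ B⁆, A ⊔ B⁆ = ⊥ := by
  have hc : Z ≤ centralizer ((A ⊔ B : Subgroup G) : Set G) := by
    rw [centralizer_sup]; exact le_inf hZA hZB
  have hn : A ⊔ B ≤ normalizer (Z : Set G) :=
    (le_centralizer_iff.mp hc).trans (centralizer_le_normalizer _)
  have hA' : A ≤ normalizer (Z : Set G) := le_sup_left.trans hn
  have hB' : B ≤ normalizer (Z : Set G) := le_sup_right.trans hn
  have h1 : ∀ X : Subgroup G, IsMulCommutative X → ⁅X, X⁆ ≤ Z := fun X hX => by
    rw [commutator_eq_bot_iff_le_centralizer.mpr (le_centralizer_iff_isMulCommutative.mpr hX)]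
    exact bot_le
  rw [commutator_eq_bot_iff_le_centralizer]
  refine le_trans (commutator_sup_le hA' hB' ?_ ?_) hc <;> rw [commutator_comm]
  · exact commutator_sup_le hA' hB' (h1 A hA) (commutator_comm A B ▸ hZ)
  · exact commutator_sup_le hA' hB' hZ (h1 B hB)

theorem dStarFamily_centralizer {A : Subgroup G} (hA : A ∈ dStarFamily G) {B : Subgroup G}
    (h : ⁅⁅A ⊔ B, A ⊔ B⁆, A ⊔ B⁆ = ⊥) : B ≤ centralizer (A : Set G) := fun x hx =>
  have h1 : A ⊔ zpowers x ≤ A ⊔ B := sup_le_sup_left (zpowers_le.mpr hx) A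
  hA.2 x (le_bot_iff.mp (h ▸ commutator_mono (commutator_mono h1 h1) h1))

theorem dStarFamily_centralizer_of_normalizer {A B : Subgroup G} (hA : A ∈ dStarFamily G)
    (hB : IsMulCommutative B) (hAB : A ≤ normalizer (B : Set G))
    (hBA : B ≤ normalizer (A : Set G)) : B ≤ centralizer (A : Set G) :=
  dStarFamily_centralizer hA (class_two_sup (Z := A ⊓ B) hA.1 hB
    (le_inf (commutator_le_left_of_le_normalizer hBA) (le_normalizer_iff_commutator_le_right.mp hAB))
    (inf_le_left.trans (le_centralizer_iff_isMulCommutative.mpr hA.1))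
    (inf_le_right.trans (le_centralizer_iff_isMulCommutative.mpr hB)))

theorem sup_mem_dStarFamily {A B : Subgroup G} (hA : A ∈ dStarFamily G) (hB : B ∈ dStarFamily G)
    (h : A ≤ centralizer (B : Set G)) : A ⊔ B ∈ dStarFamily G := by
  refine ⟨isMulCommutative_sup hA.1 hB.1 h, fun x hx a ha => ?_⟩
  have key : ∀ C ∈ dStarFamily G, C ≤ A ⊔ B → C ≤ centralizer (zpowers x : Set G) := fun C hC hle => by
    have h1 : C ⊔ zpowers x ≤ A ⊔ B ⊔ zpowers x := sup_le_sup_right hle _
    exact le_centralizer_iff.mp (dStarFamily_centralizer hC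
      (le_bot_iff.mp (hx ▸ commutator_mono (commutator_mono h1 h1) h1)))
  exact (mem_centralizer_zpowers.mp
    (sup_le (key A hA le_sup_left) (key B hB le_sup_right) ha)).symm

theorem cj_mem_dStarFamily {A : Subgroup G} (hA : A ∈ dStarFamily G) (g : G) :
    cj g A ∈ dStarFamily G := by
  refine ⟨by have := hA.1; unfold cj; infer_instance, fun x hx a ha => ?_⟩
  have h1 : cj g⁻¹ (cj g A ⊔ zpowers x) = A ⊔ zpowers (g⁻¹ * x * g) := by
    rw [cj_sup, cj_inv_cj, cj_zpowers, inv_inv]
  have h2 := hA.2 (g⁻¹ * x * g) (by rw [← h1, ← cj_commutator, ← cj_commutator, hx, cj_bot]) _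
    (mem_cj.mp ha)
  calc a * x = g * (g⁻¹ * a * g * (g⁻¹ * x * g)) * g⁻¹ := by group
    _ = _ := by rw [h2]; group

theorem center_mem_dStarFamily : center G ∈ dStarFamily G :=
  ⟨inferInstance, fun x _ _ ha => (mem_center_iff.mp ha x).symm⟩

theorem normal_of_maximal_dStarFamily [Group.IsNilpotent G] {M : Subgroup G}
    (hM : Maximal (· ∈ dStarFamily G) M) : M.Normal := by
  by_contra hn
  have h1 : normalizer (M : Set G) < ⊤ := lt_top_iff_ne_top.mpr fun h =>
    hn (normalizer_eq_top_iff.mp h)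
  obtain ⟨x, hx, hxM⟩ := SetLike.exists_of_lt (Group.normalizerCondition_of_isNilpotent _ h1)
  have h2 : normalizer (cj x M : Set G) = normalizer (M : Set G) := by
    rw [normalizer_cj, cj_eq_of_mem_normalizer hx]
  have h3 := cj_mem_dStarFamily hM.1 x
  have h4 := dStarFamily_centralizer_of_normalizer hM.1 h3.1 (h2 ▸ le_normalizer)
    (h2 ▸ le_normalizer)
  have h5 : cj x M ≤ M := le_sup_left.trans (hM.2 (sup_mem_dStarFamily h3 hM.1 h4) le_sup_right)
  have h6 := cj_mem_dStarFamily hM.1 x⁻¹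
  have h7 := hM.2 h6 (cj_le_iff.mp h5)
  exact hxM (mem_normalizer_iff_cj.mpr (le_antisymm h5 (le_cj_iff.mpr h7)))

variable [Finite G]

theorem dStar_maximal [Group.IsNilpotent G] : Maximal (· ∈ dStarFamily G) (dStar G) := by
  have hfin : (dStarFamily G).Finite := Set.toFinite _
  obtain ⟨M, -, hM⟩ := hfin.exists_le_maximal center_mem_dStarFamily
  have hMn := normal_of_maximal_dStarFamily hM
  suffices dStar G = M by rwa [this]
  refine le_antisymm (sSup_le fun A hA => ?_) (le_sSup hM.1)
  obtain ⟨M', h1, h2⟩ := hfin.exists_le_maximal hA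
  have := normal_of_maximal_dStarFamily h2
  exact h1.trans (le_sup_left.trans (hM.2 (sup_mem_dStarFamily h2.1 hM.1
    (dStarFamily_centralizer_of_normalizer hM.1 h2.1.1 le_normalizer_of_normal
      le_normalizer_of_normal)) le_sup_right))

theorem dStar_mem [Group.IsNilpotent G] : dStar G ∈ dStarFamily G := dStar_maximal.1

theorem dStar_normal [Group.IsNilpotent G] : (dStar G).Normal :=
  normal_of_maximal_dStarFamily dStar_maximal

omit [Finite G] in
theorem mem_dStarFamily_iff {D : Subgroup G} [D.Normal] (hD : IsMulCommutative D) :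
    D ∈ dStarFamily G ↔ QuadFree D ⊤ := by
  refine ⟨fun h x _ hx => ?_, fun h => ⟨hD, fun x hx a ha => ?_⟩⟩
  · refine commutator_eq_bot_of_le_centralizer' (dStarFamily_centralizer h (class_two_sup hD
      (isMulCommutative_zpowers x) le_rfl ?_ (le_centralizer_of_commutator_eq_bot hx)))
    exact (commutator_le_left _ _).trans (le_centralizer_iff_isMulCommutative.mpr hD)
  · have h1 := h x (mem_top x) (le_bot_iff.mp (hx ▸ commutator_mono
      (commutator_mono le_sup_left le_sup_right) le_sup_right))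
    exact (mem_centralizer_zpowers.mp (le_centralizer_of_commutator_eq_bot h1 ha)).symm

theorem dStar_le_centralizer_thompson [Fact p.Prime] (hG : IsPGroup p G) :
    dStar G ≤ centralizer (thompsonSubgroupA G : Set G) := by
  have := hG.isNilpotent
  have := dStar_normal (G := G)
  rw [le_centralizer_iff, thompsonSubgroupA_eq, ← thompsonSubgroupOf_top]
  by_contra h
  obtain ⟨A, -, h1, h2⟩ := exists_quadratic_maxAb (hG.to_subgroup ⊤) le_top
    (isEA_zero_iff.mpr dStar_mem.1) le_normalizer_of_normal h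
  refine h2 (commutator_eq_bot_of_le_centralizer' fun a ha => ?_)
  have h3 := zpowers_le.mpr ha
  exact le_centralizer_of_commutator_eq_bot' ((mem_dStarFamily_iff dStar_mem.1).mp dStar_mem a
    (mem_top a) (le_bot_iff.mp (h1 ▸ commutator_mono (commutator_mono le_rfl h3) h3)))
    (mem_zpowers a)

theorem dStar_le_center_thompson [Fact p.Prime] (hG : IsPGroup p G) :
    dStar G ≤ thompsonSubgroupA G ⊓ centralizer (thompsonSubgroupA G : Set G) := by
  have h := dStar_le_centralizer_thompson hG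
  refine le_inf (fun x hx => ?_) h
  have h1 := h hx
  rw [thompsonSubgroupA_eq, ← thompsonSubgroupOf_top] at h1 ⊢
  exact mem_thompson_of_centralizer (mem_top x) h1 (pow_zero x)

theorem dStar_le_of_maximal [Group.IsNilpotent G] {A : Subgroup G} [A.Normal]
    (hA : IsMulCommutative A)
    (h : ∀ B : Subgroup G, B.Normal → IsMulCommutative B → A ≤ B → B = A) : dStar G ≤ A := by
  have := dStar_normal (G := G)
  exact le_sup_right.trans (h _ inferInstance (isMulCommutative_sup hA dStar_mem.1
    (dStarFamily_centralizer_of_normalizer dStar_mem hA le_normalizer_of_normal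
      le_normalizer_of_normal)) le_sup_left).le

/-- **The `D*`-theorem** of Glauberman and Solomon. -/
theorem dStarOf_normal [Fact p.Prime] (hc : centralizer (pCore p G : Set G) ≤ pCore p G)
    (hst : ∀ (P : Subgroup G) [P.Normal], IsPGroup p P → IsPStableOn p P) {S : Subgroup G}
    (hS : IsSylowIn p S ⊤) : (dStarOf S).Normal := by
  have := hS.isPGroup.isNilpotent
  have hn := dStar_normal (G := S)
  have hm := dStar_mem (G := S)
  set D := dStarOf S with hD
  have hDS : D ≤ S := map_subtype_le _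
  have hDc : IsMulCommutative D := by have := hm.1; rw [hD]; unfold dStarOf; infer_instance
  have hSD : S ≤ normalizer (D : Set G) := by
    have := le_normalizer_map (H := dStar S) S.subtype
    rwa [normalizer_eq_top, ← MonoidHom.range_eq_map, range_subtype] at this
  have hq : QuadFree D S := by
    have := (QuadFree.map_iff S.subtype_injective).mpr ((mem_dStarFamily_iff hm.1).mp hm)
    rwa [← MonoidHom.range_eq_map, range_subtype] at this
  have hDO := (stabP_of_isPStableOn hst).le_pCore_of_normal_abelian hc hS hDS hSD hDc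
  have hOS : pCore p G ≤ S :=
    hS.le_of_normalized CF.Solv.pCore_isPGroup le_top le_normalizer_of_normal
  set V := normalClosure (D : Set G) with hV
  have hVO : V ≤ pCore p G := normalClosure_le_normal hDO
  have hq' := hq.normalClosure hS (hst V (CF.Solv.pCore_isPGroup.to_le hVO))
  have hVD : V ≤ centralizer (D : Set G) := le_of_conj_le fun g d hd => by
    have h1 : g * d * g⁻¹ ∈ cj g D := conj_mem_cj hd
    have h2 : D ≤ normalizer (cj g D : Set G) := by
      rw [normalizer_cj]
      exact hDO.trans ((cj_eq_of_normal g _).ge.trans (cj_mono g (hOS.trans hSD)))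
    have h3 : ⁅D, zpowers (g * d * g⁻¹)⁆ ≤ cj g D :=
      (commutator_mono le_rfl (zpowers_le.mpr h1)).trans (le_normalizer_iff_commutator_le_right.mp h2)
    have h4 : IsMulCommutative (cj g D) := by unfold cj; infer_instance
    exact le_centralizer_of_commutator_eq_bot' (hq _ (hOS (Normal.conj_mem inferInstance _ (hDO hd) g))
      (commutator_eq_bot_iff_le_centralizer.mpr (h3.trans ((le_centralizer_iff_isMulCommutative.mpr
        h4).trans (centralizer_anti (zpowers_le.mpr h1)))))) (mem_zpowers _)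
  have hVc : IsMulCommutative V := le_centralizer_iff_isMulCommutative.mp
    (normalClosure_le_normal (le_centralizer_iff.mp hVD))
  have hVS := hVO.trans hOS
  have h1 : V.subgroupOf S ∈ dStarFamily S := by
    rw [mem_dStarFamily_iff inferInstance, ← QuadFree.map_iff S.subtype_injective,
      ← MonoidHom.range_eq_map, range_subtype, map_subgroupOf_eq_of_le hVS]
    exact hq'
  have h2 : V ≤ D := by
    rw [← map_subgroupOf_eq_of_le hVS]
    exact map_mono (le_sSup h1)
  rw [le_antisymm le_normalClosure h2]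
  infer_instance

/-- A family closed under replacement has a member normalized by all admissible elements. -/
theorem exists_normalized_of_replace [hG : Group.IsNilpotent G] {𝓕 : Set (Subgroup G)}
    (hne : 𝓕.Nonempty) (R : Subgroup G → G → Prop)
    (h : ∀ Z ∈ 𝓕, ∀ y, R Z y → ∃ Z' ∈ 𝓕, Z ⊓ cj y Z ≤ Z' ∧ ∀ z ∈ Z, ⁅z, y⁆ ∈ Z') :
    ∃ Z ∈ 𝓕, ∀ y, R Z y → y ∈ normalizer (Z : Set G) := by
  obtain ⟨n, hn⟩ := hG.nilpotent
  obtain ⟨Z, hZ, hmax⟩ := Set.exists_max_image 𝓕
    (fun Q => ∑ i ∈ Finset.range n, Nat.card ↥(Q ⊓ Subgroup.upperCentralSeries G i))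
    (Set.toFinite _) hne
  refine ⟨Z, hZ, fun y hy => ?_⟩
  obtain ⟨Z', h1, h2, h3⟩ := h Z hZ y hy
  have hle : ∀ i, Nat.card ↥(Z ⊓ Subgroup.upperCentralSeries G i) ≤
      Nat.card ↥(Z' ⊓ Subgroup.upperCentralSeries G i) := fun i => by
    have := CL.card_mul_le_of_commutator (U := Z ⊓ Subgroup.upperCentralSeries G i)
      (V := Z ⊓ Subgroup.upperCentralSeries G i ⊓ cj y Z) (W := Z' ⊓ Subgroup.upperCentralSeries G i)
      inf_le_left inf_le_right (fun x hx => ⟨h2 ⟨hx.1.1, hx.2⟩, hx.1.2⟩) fun z hz =>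
        ⟨h3 z hz.1, commutator_le_left _ _ (commutator_mem_commutator hz.2 (mem_top y))⟩
    exact Nat.le_of_mul_le_mul_right this Nat.card_pos
  have heq := (Finset.sum_eq_sum_iff_of_le fun i _ => hle i).mp
    (le_antisymm (Finset.sum_le_sum fun i _ => hle i) (hmax Z' h1))
  have key : ∀ i ≤ n, Z ⊓ Subgroup.upperCentralSeries G i ≤ cj y Z := fun i hi => by
    induction i with
    | zero => simp
    | succ i ih =>
      have := CL.card_mul_le_of_commutator (U := Z ⊓ Subgroup.upperCentralSeries G (i + 1))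
        (W := Z' ⊓ Subgroup.upperCentralSeries G i) inf_le_left (ih (by omega))
        (fun x hx => ⟨h2 ⟨hx.1, ih (by omega) hx⟩, hx.2⟩) fun z hz =>
          ⟨h3 z hz.1, Subgroup.mem_upperCentralSeries_succ_iff.mp hz.2 y⟩
      rw [← heq i (Finset.mem_range.mpr hi), mul_comm] at this
      exact inf_eq_left.mp (eq_of_le_of_card_le inf_le_left
        (Nat.le_of_mul_le_mul_left this Nat.card_pos))
  have h4 := key n le_rfl
  rw [hn, inf_top_eq] at h4
  exact mem_normalizer_iff_cj.mpr (eq_of_le_of_card_le h4 (card_cj _ _).le).symm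

/-- **Gillam's theorem**. -/
theorem gillam [Group.IsNilpotent G] (hmeta : IsMulCommutative (_root_.commutator G)) {n : ℕ}
    {N A : Subgroup G} [N.Normal] (hAN : A ≤ N) (hA : IsMulCommutative A) (hn : n ≤ Nat.card A) :
    ∃ B : Subgroup G, IsMulCommutative B ∧ n ≤ Nat.card B ∧ B.Normal ∧ B ≤ N := by
  obtain ⟨B, ⟨h1, h2, h3⟩, h4⟩ := exists_normalized_of_replace
    (𝓕 := {B : Subgroup G | IsMulCommutative B ∧ n ≤ Nat.card B ∧ B ≤ N}) ⟨A, hA, hn, hAN⟩
    (fun _ _ => True) fun Z hZ y _ => by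
      set K := closure {x | ∃ z ∈ Z, x = ⁅z, y⁆} with hK
      have hmem : ∀ z ∈ Z, ⁅z, y⁆ ∈ (Z ⊓ cj y Z) ⊔ K := fun z hz =>
        mem_sup_right (subset_closure ⟨z, hz, rfl⟩)
      have hKE : K ≤ Z ⊔ cj y Z := by
        rw [hK, closure_le]
        rintro _ ⟨z, hz, rfl⟩
        rw [commutatorElement_def, mul_assoc, mul_assoc, ← mul_assoc y]
        exact mul_mem_sup hz (conj_mem_cj (inv_mem hz))
      have hK' : K ≤ _root_.commutator G := by
        rw [hK, closure_le]
        rintro _ ⟨z, hz, rfl⟩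
        exact commutator_mem_commutator (mem_top _) (mem_top _)
      have hZ1 := hZ.1
      have hZy : IsMulCommutative (cj y Z) := by unfold cj; infer_instance
      have e1 := CL.card_mul_le_of_commutator (V := Z ⊓ cj y Z) le_rfl inf_le_right le_sup_left hmem
      refine ⟨_, ⟨isMulCommutative_sup (isMulCommutative_of_le hZ1 inf_le_left)
        (isMulCommutative_of_le hmeta hK') (le_trans ?_ (centralizer_anti hKE)),
        hZ.2.1.trans (Nat.le_of_mul_le_mul_right e1 Nat.card_pos), sup_le (inf_le_left.trans hZ.2.2)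
        (hKE.trans (sup_le hZ.2.2 ((cj_mono y hZ.2.2).trans (cj_eq_of_normal y N).le)))⟩,
        le_sup_left, hmem⟩
      rw [centralizer_sup]
      exact inf_le_inf (le_centralizer_iff_isMulCommutative.mpr hZ1)
        (le_centralizer_iff_isMulCommutative.mpr hZy)
  exact ⟨B, h1, h2, normalizer_eq_top_iff.mp (eq_top_iff.mpr fun y _ => h4 y trivial), h3⟩

omit [Finite G] in
theorem GlSetup.phi_pow {A B : Subgroup G} {b : G} (h : GlSetup A B b) {e : ℕ}
    (he : e ∣ e.choose 2) {a : G} (ha : a ∈ A) (hae : a ^ e = 1) : ⁅a, b⁻¹⁆ ^ e = 1 := by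
  have hm : b⁻¹ * a⁻¹ * b ∈ A ⊔ cj b⁻¹ A := mem_sup_right (conj_mem_cj_inv (A.inv_mem ha))
  have h2 : ⁅b⁻¹ * a⁻¹ * b, a⁆ ∈ A ⊓ cj b⁻¹ A := h.commutator_le (commutator_mem_commutator hm ha)
  have h3 : Commute ⁅b⁻¹ * a⁻¹ * b, a⁆ a := h.sup_le_centralizer (mem_sup_left ha) _ h2
  have h4 : (b⁻¹ * a⁻¹ * b) ^ e = 1 := by
    have := conj_pow (a := b⁻¹) (b := a⁻¹) (i := e)
    rw [inv_inv, inv_pow, hae] at this
    rw [this]; group
  obtain ⟨k, hk⟩ := he
  rw [show ⁅a, b⁻¹⁆ = a * (b⁻¹ * a⁻¹ * b) by simp [commutatorElement_def, mul_assoc],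
    CF.Coprime.mul_pow_of_commutator_comm h3 (h.sup_le_centralizer hm _ h2), h4, hae, hk, pow_mul,
    ← commutator_pow_left (Commute.symm (h.sup_le_centralizer hm _ h2)), h4]
  simp

theorem GlSetup.card_omega_le {A B : Subgroup G} {b : G} (h : GlSetup A B b) {e : ℕ}
    (he : e ∣ e.choose 2) : Nat.card (omegaOne e A) ≤ Nat.card (omegaOne e (glRepl A b)) := by
  have e1 := CL.card_mul_le_of_commutator (U := omegaOne e A) (V := omegaOne e A ⊓ cj b⁻¹ A)
    (W := omegaOne e (glRepl A b)) (omegaOne_le e A) inf_le_right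
    (fun x hx => mem_omegaOne (mem_sup_left ⟨omegaOne_le e A hx.1, hx.2⟩)
      (pow_eq_one_of_mem_omegaOne h.comm hx.1))
    fun z hz => mem_omegaOne (mem_sup_right (subset_closure ⟨z, omegaOne_le e A hz, by
      simp [commutatorElement_def]⟩))
      (h.phi_pow he (omegaOne_le e A hz) (pow_eq_one_of_mem_omegaOne h.comm hz))
  exact Nat.le_of_mul_le_mul_right e1 Nat.card_pos

end CF.PLocal
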