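import Cfsg.Agent.Loc.PRed
import Cfsg.Agent.BN.SzNorm
import Cfsg.Agent.BN.SzModels
import Cfsg.Agent.Classical.SmallIso
import Mathlib.GroupTheory.SpecificGroups.Dihedral

/-! Groups `L ∈ 𝔏_G(Y)`: elements which are not `p`-elements act fixed point freely on
`O_p(L) / C_Y(L)`. -/

set_option autoImplicit false

namespace CF.FrL

open Subgroup Cfsg CF.Loc
open scoped commutatorElement

variable {K H W : Type*} [Group K] [Group H] [Group W] {p : ℕ} {φ : K →* H} {π : K →* W}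
  {Y : Subgroup K}

/-- The abstract situation: `φ` has kernel `O_p(K)`, `π` has kernel `C_Y(K)`. -/
structure St (p : ℕ) (φ : K →* H) (π : K →* W) (Y : Subgroup K) : Prop where
  surj : Function.Surjective φ
  kerP : IsPGroup p φ.ker
  core : ∀ Q : Subgroup H, Q.Normal → IsPGroup p Q → Q = ⊥
  comm : Y ≤ 𝐂(Y)
  pow : ∀ a ∈ Y, a ^ p = 1
  gen : ∀ B : Subgroup K, B.Normal → Y ⊓ φ.ker ≤ B → φ.ker ≤ B
  norm : φ.ker ≤ 𝐍(Y)
  max : ∀ X, Y ≤ X → X ≠ ⊤ → X ≤ 𝐍(Y)
  ne1 : ¬ Y ≤ φ.ker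
  ord : ∀ n ∈ 𝐍(Y), φ n ^ p = 1 → φ n ∈ Y.map φ
  ker : π.ker = Y ⊓ center K

theorem isPGroup_of_pow {G : Type*} [Group G] {Q : Subgroup G} (h : ∀ a ∈ Q, a ^ p = 1) :
    IsPGroup p Q := fun a => ⟨1, Subtype.ext (by simpa using h a a.2)⟩

theorem St.cj (h : St p φ π Y) (g : K) : St p φ π (cj[g] Y) where
  surj := h.surj
  kerP := h.kerP
  core := h.core
  comm := by rw [← cj_centralizer]; exact cj_mono g h.comm
  pow a ha := by
    have := h.pow _ (mem_cj.1 ha)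
    have e : a = g * (g⁻¹ * a * g) * g⁻¹ := by group
    rw [e, conj_pow, this]; group
  gen B hB hle := h.gen B hB (by
    rw [← cj_normal g φ.ker, ← cj_inf, ← cj_normal g B] at hle
    exact cj_le_cj_iff.1 hle)
  norm := by rw [← cj_normalizer, ← cj_normal g φ.ker]; exact cj_mono g h.norm
  max X h1 h2 := by
    rw [← cj_normalizer, le_cj_iff]
    exact h.max _ (cj_le_iff.1 h1) (fun e => h2 (cj_eq_top_iff.1 e))
  ne1 e := h.ne1 (by rw [← cj_normal g φ.ker] at e; exact cj_le_cj_iff.1 e)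
  ord n hn hp := by
    rw [← cj_normalizer, mem_cj] at hn
    rw [map_cj, mem_cj, ← map_inv, ← map_mul, ← map_mul]
    refine h.ord _ hn ?_
    have e : g⁻¹ * n * g = g⁻¹ * n * g⁻¹⁻¹ := by group
    rw [← map_pow, e, conj_pow, map_mul, map_mul, map_pow, hp]; simp
  ker := by
    rw [h.ker, ← cj_normal g (center K), ← cj_inf, cj_normal g (center K)]
    exact (cj_eq_self (centralizer_le_normalizer_of_le (le_refl (Y ⊓ center K))
      (fun x hx => (mem_center_iff.1 (mem_inf.1 hx).2 g).symm))).symm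

theorem St.cm (h : St p φ π Y) {a b : K} (ha : a ∈ Y) (hb : b ∈ Y) : a * b = b * a :=
  h.comm hb a ha

theorem St.isP (h : St p φ π Y) : IsPGroup p Y := isPGroup_of_pow h.pow

theorem St.not_normal (h : St p φ π Y) : ¬ (Y.map φ).Normal := fun hn =>
  h.ne1 ((Subgroup.map_eq_bot_iff _).1 (h.core _ hn (h.isP.map φ)))

theorem St.ne (h : St p φ π Y) : 𝐍(Y) ≠ ⊤ := fun e =>
  h.not_normal ((normal_of_top_le_normalizer e.ge).map φ h.surj)

theorem St.sup_eq (h : St p φ π Y) {X : Subgroup K} (hX : ¬ X ≤ 𝐍(Y)) : Y ⊔ X = ⊤ := by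
  by_contra e
  exact hX (le_sup_right.trans (h.max _ le_sup_left e))

theorem St.mem_of_π (h : St p φ π Y) {a : K} (ha : π a = 1) : a ∈ Y :=
  (h.ker.le (MonoidHom.mem_ker.2 ha)).1

theorem St.mem_of_eq (h : St p φ π Y) {a b : K} (e : π a = π b) (hb : b ∈ Y) : a ∈ Y := by
  have : a * b⁻¹ ∈ Y := h.mem_of_π (by rw [map_mul, map_inv, e, mul_inv_cancel])
  simpa using mul_mem this hb

theorem St.eq_one (h : St p φ π Y) {x : H} (h2 : x ∈ center H) (hp : x ^ p = 1) : x = 1 := by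
  have h3 : zpowers x ≤ center H := zpowers_le.2 h2
  refine zpowers_eq_bot.1 (h.core _ ⟨fun a ha b => ?_⟩ (isPGroup_of_pow ?_))
  · rw [mem_center_iff.1 (h3 ha) b]; simpa using ha
  · rintro _ ⟨k, rfl⟩
    rw [← zpow_natCast, ← zpow_mul, mul_comm, zpow_mul, zpow_natCast, hp, one_zpow]

variable [Finite K]

theorem St.not_le (h : St p φ π Y) {g : K} (hg : g ∉ 𝐍(Y)) : ¬ cj[g] Y ≤ 𝐍(Y) := fun hle => by
  have : Finite H := Finite.of_surjective φ h.surj
  have h1 : cj[φ g] (Y.map φ) ≤ Y.map φ := by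
    rw [← map_cj]
    rintro _ ⟨y, hy, rfl⟩
    exact h.ord y (hle hy) (by rw [← map_pow, (h.cj g).pow y hy, map_one])
  refine hg (h.max (comap φ 𝐍(Y.map φ)) (fun y hy => le_normalizer (mem_map_of_mem φ hy))
    (fun e => h.not_normal (normal_of_top_le_normalizer fun x _ => ?_))
    (mem_normalizer_of_cj_le h1))
  obtain ⟨x, rfl⟩ := h.surj x
  exact e.ge (mem_top x)

theorem St.top (h : St p φ π Y) {g : K} (hg : g ∉ 𝐍(Y)) {X : Subgroup K} (h1 : Y ≤ X)
    (h2 : cj[g] Y ≤ X) (x : K) : x ∈ X :=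
  (sup_le h1 h2) ((h.sup_eq (h.not_le hg)).ge (mem_top x))

theorem St.ti (h : St p φ π Y) {g y : K} (hg : g ∉ 𝐍(Y)) (hy : y ∈ cj[g] Y) (hn : y ∈ 𝐍(Y)) :
    φ y = 1 := by
  have hp : φ y ^ p = 1 := by rw [← map_pow, (h.cj g).pow y hy, map_one]
  obtain ⟨z, hz, e⟩ := h.ord y hn hp
  have h1 : ∀ x, x ∈ comap φ (centralizer {φ y}) := by
    refine h.top hg (fun x hx => ?_) (fun x hx => ?_)
    · rw [mem_comap, mem_centralizer_singleton_iff, ← e, ← map_mul, h.cm hx hz, map_mul]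
    · rw [mem_comap, mem_centralizer_singleton_iff, ← map_mul, (h.cj g).cm hx hy, map_mul]
  refine h.eq_one (mem_center_iff.2 fun x => ?_) hp
  obtain ⟨x, rfl⟩ := h.surj x
  exact mem_centralizer_singleton_iff.1 (h1 x)

theorem St.inf_le (h : St p φ π Y) {g a : K} (hg : g ∉ 𝐍(Y)) (h1 : a ∈ Y) (h2 : a ∈ cj[g] Y) :
    π a = 1 := by
  refine MonoidHom.mem_ker.1 (h.ker.ge ⟨h1, mem_center_iff.2 fun x => ?_⟩)
  refine mem_centralizer_singleton_iff.1 (h.top hg (X := centralizer {a}) ?_ ?_ x)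
  · exact fun y hy => mem_centralizer_singleton_iff.2 (h.cm hy h1)
  · exact fun y hy => mem_centralizer_singleton_iff.2 ((h.cj g).cm hy h2)

omit [Finite K] in
theorem St.cm_mem (h : St p φ π Y) {y a : K} (hy : y ∈ Y) (ha : a ∈ φ.ker) :
    y * a * y⁻¹ * a⁻¹ ∈ Y ⊓ φ.ker := by
  refine mem_inf.2 ⟨?_, mul_mem (φ.normal_ker.conj_mem a ha y) (inv_mem ha)⟩
  have := mul_mem hy (conj_mem_of_mem_normalizer (h.norm ha) (inv_mem hy))
  simpa [mul_assoc] using this

theorem St.le_norm (h : St p φ π Y) (X : Subgroup K) :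
    Y ≤ 𝐍((Y ⊓ φ.ker) ⊔ (X ⊓ φ.ker)) := fun y hy => by
  refine mem_normalizer_of_cj_le ?_
  rw [cj_sup]
  refine sup_le (le_sup_of_le_left ?_) (cj_le_iff_forall.2 fun b hb => ?_)
  · rw [cj_inf, cj_normal y φ.ker, cj_eq_self_of_mem hy]
  · have e : y * b * y⁻¹ = y * b * y⁻¹ * b⁻¹ * b := by group
    rw [e]
    exact mul_mem (mem_sup_left (h.cm_mem hy hb.2)) (mem_sup_right hb)

theorem St.decomp (h : St p φ π Y) {g a : K} (hg : g ∉ 𝐍(Y)) (ha : a ∈ φ.ker) :
    ∃ b ∈ Y ⊓ φ.ker, ∃ c ∈ cj[g] Y ⊓ φ.ker, b * c = a := by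
  have hn : ((Y ⊓ φ.ker) ⊔ (cj[g] Y ⊓ φ.ker)).Normal := normal_of_top_le_normalizer fun x _ =>
    h.top hg (h.le_norm _) (by rw [sup_comm]; exact (h.cj g).le_norm _) x
  refine (mem_sup_of_le_normalizer ?_).1 (h.gen _ hn le_sup_left ha)
  exact inf_le_right.trans (le_normalizer_inf h.norm le_normalizer)

theorem St.exists_not (h : St p φ π Y) : ∃ g, g ∉ 𝐍(Y) := by
  by_contra! e
  exact h.ne (eq_top_iff.2 fun x _ => e x)

omit [Finite K] in
theorem commute_iff {a b : K} : Commute (π a) (π b) ↔ π (a * b * a⁻¹ * b⁻¹) = 1 := by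
  simp only [map_mul, map_inv, Commute, SemiconjBy]
  rw [mul_inv_eq_one, mul_inv_eq_iff_eq_mul]

theorem St.commute (h : St p φ π Y) {a b : K} (ha : a ∈ φ.ker) (hb : b ∈ φ.ker) :
    Commute (π a) (π b) := by
  obtain ⟨g, hg⟩ := h.exists_not
  obtain ⟨a, ha₁, a', ha', rfl⟩ := h.decomp hg ha
  obtain ⟨b, hb₁, b', hb', rfl⟩ := h.decomp hg hb
  have key : ∀ x ∈ Y ⊓ φ.ker, ∀ y ∈ cj[g] Y ⊓ φ.ker, Commute (π x) (π y) := fun x hx y hy => by
    refine commute_iff.2 (h.inf_le hg (h.cm_mem hx.1 hy.2).1 ?_)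
    have := inv_mem (mem_inf.1 ((h.cj g).cm_mem hy.1 hx.2)).1
    simpa [mul_assoc] using this
  rw [map_mul, map_mul]
  exact Commute.mul_left (Commute.mul_right (Commute.map (h.cm ha₁.1 hb₁.1) π) (key a ha₁ b' hb'))
    (Commute.mul_right (key b hb₁ a' ha').symm (Commute.map ((h.cj g).cm ha'.1 hb'.1) π))

/-- `C_W(y)` is the image of `Y ∩ A`. -/
theorem St.mem_of_commute (h : St p φ π Y) {y a : K} (hy : y ∈ Y) (h1 : φ y ≠ 1) (ha : a ∈ φ.ker)
    (hc : Commute (π y) (π a)) : a ∈ Y := by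
  obtain ⟨g, hg⟩ := h.exists_not
  obtain ⟨b, hb, c, hc', rfl⟩ := h.decomp hg ha
  have h2 : Commute (π y) (π c) := by
    have := (Commute.map (h.cm hy hb.1) π).inv_right.mul_right hc
    simpa using this
  have h3 : y ∉ 𝐍(cj[g] Y) := fun e => by
    refine h1 ((h.cj g).ti (g := g⁻¹) (fun e' => hg ?_) (by rwa [cj_inv_cj]) e)
    have := cj_eq_self e'
    rw [cj_inv_cj] at this
    exact cj_eq_self_iff.1 this.symm
  have h4 : g ∈ comap π (centralizer {π c}) := by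
    refine sup_le (fun x hx => ?_) (zpowers_le.2 ?_)
      (((h.cj g).sup_eq (X := zpowers y) (by rwa [zpowers_le])).ge (mem_top g))
    · exact mem_centralizer_singleton_iff.2 (Commute.map ((h.cj g).cm hx hc'.1) π)
    · exact mem_centralizer_singleton_iff.2 h2
  refine mul_mem hb.1 (h.mem_of_eq ?_ (mem_cj.1 hc'.1))
  rw [map_mul, map_mul, map_inv, mul_assoc, ← mem_centralizer_singleton_iff.1 h4]
  simp

theorem St.fix_two (h : St p φ π Y) {g y z a : K} (hg : g ∉ 𝐍(Y)) (hy : y ∈ Y) (hz : z ∈ cj[g] Y)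
    (hy1 : φ y ≠ 1) (hz1 : φ z ≠ 1) (ha : a ∈ φ.ker) (hc : Commute (π (y * z)) (π a)) :
    π a = 1 := by
  have e : π (y⁻¹ * a * y⁻¹⁻¹ * a⁻¹) = π (z * a * z⁻¹ * a⁻¹) := by
    have := hc.eq
    simp only [map_mul, map_inv, inv_inv] at this ⊢
    calc _ = (π y)⁻¹ * (π a * (π y * π z)) * (π z)⁻¹ * (π a)⁻¹ := by group
      _ = _ := by rw [← this]; group
  have h1 := h.inf_le hg (h.cm_mem (inv_mem hy) ha).1
    ((h.cj g).mem_of_eq e ((h.cj g).cm_mem hz ha).1)
  refine h.inf_le hg (h.mem_of_commute (inv_mem hy) (by simpa using hy1) ha (commute_iff.2 h1))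
    ((h.cj g).mem_of_commute hz hz1 ha (commute_iff.2 (e ▸ h1)))

variable [Fact p.Prime]

theorem St.exists_conj (h : St p φ π Y) {x : H} (hx : x ^ p = 1) :
    ∃ g, ∃ y ∈ cj[g] Y, φ y = x := by
  obtain ⟨x, rfl⟩ := h.surj x
  obtain ⟨T, hT, hYT⟩ := exists_isSyl_ge h.isP (le_top (a := Y))
  have h1 : T ≤ 𝐍(Y) := h.max T hYT fun e => by
    have : T.map φ = ⊤ := by rw [e]; exact map_top_of_surjective φ h.surj
    refine h.ne1 (hYT.trans ((Subgroup.map_eq_bot_iff _).1 (h.core _ ?_ (hT.isPGroup.map φ))))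
    rw [this]; infer_instance
  have h2 : IsPGroup p (zpowers x) := by
    refine ((isPGroup_of_pow (Q := zpowers (φ x)) ?_).comap_of_ker_isPGroup φ h.kerP).to_le
      (zpowers_le.2 (mem_zpowers (φ x)))
    rintro _ ⟨k, rfl⟩
    rw [← zpow_natCast, ← zpow_mul, mul_comm, zpow_mul, zpow_natCast, hx, one_zpow]
  obtain ⟨g, -, hg⟩ := hT.exists_le_cj h2 le_top
  have h3 : x ∈ 𝐍(cj[g] Y) := by
    rw [← cj_normalizer]; exact cj_mono g h1 (hg (mem_zpowers x))
  exact ⟨g, (h.cj g).ord x h3 hx⟩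

theorem St.fix_prod (h : St p φ π Y) {x a : K} {u v : H} (hu : u ^ p = 1) (hv : v ^ p = 1)
    (e : φ x = u * v) (hx : φ x ^ p ≠ 1) (ha : a ∈ φ.ker) (hc : Commute (π x) (π a)) :
    π a = 1 := by
  obtain ⟨g, y, hy, rfl⟩ := h.exists_conj hu
  obtain ⟨k, z, hz, rfl⟩ := (h.cj g).exists_conj hv
  refine (h.cj g).fix_two (g := k) (fun hk => hx ?_) hy hz (fun e1 => hx ?_) (fun e1 => hx ?_) ha ?_
  · rw [cj_eq_self hk] at hz
    rw [e, ← map_mul, ← map_pow, (h.cj g).pow _ (mul_mem hy hz), map_one]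
  · rw [e, e1, one_mul, hv]
  · rw [e, e1, mul_one, hu]
  · have h1 : x⁻¹ * (y * z) ∈ φ.ker := by
      rw [MonoidHom.mem_ker, map_mul, map_inv, e, map_mul, inv_mul_cancel]
    have := hc.mul_left (h.commute h1 ha)
    rwa [← map_mul, mul_inv_cancel_left] at this

theorem St.fix_central (h : St p φ π Y) {x a : K} (hz : φ x ∈ center H)
    (hp : ∀ y : H, y ∉ center H → ∃ u v, u ^ p = 1 ∧ v ^ p = 1 ∧ y = u * v)
    (hx : φ x ^ p ≠ 1) (ha : a ∈ φ.ker) (hc : Commute (π x) (π a)) : π a = 1 := by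
  obtain ⟨y, hy, hy1⟩ := SetLike.not_le_iff_exists.1 h.ne1
  have hyp : φ y ^ p = 1 := by rw [← map_pow, h.pow y hy, map_one]
  obtain ⟨u, v, hu, hv, e⟩ := hp (φ x * φ y) fun e =>
    hy1 (h.eq_one (by simpa using mul_mem (inv_mem hz) e) hyp)
  have key : ∀ b ∈ φ.ker, Commute (π x) (π b) → Commute (π y) (π b) → π b = 1 := by
    intro b hb h1 h2
    refine h.fix_prod (x := x * y) hu hv (by rw [map_mul, e]) ?_ hb
      (by rw [map_mul]; exact h1.mul_left h2)
    rw [map_mul, Commute.mul_pow (mem_center_iff.1 hz (φ y)).symm, hyp, mul_one]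
    exact hx
  have h1 := h.cm_mem hy ha
  refine key a ha hc (commute_iff.2 (key _ h1.2 ?_ (Commute.map (h.cm hy h1.1) π)))
  have h2 : x⁻¹ * (y⁻¹ * x * y) ∈ φ.ker := by
    rw [MonoidHom.mem_ker, map_mul, map_mul, map_mul, map_inv, map_inv, mem_center_iff.1 hz]
    group
  have h3 := hc.mul_left (h.commute h2 ha)
  rw [← map_mul, mul_inv_cancel_left] at h3
  rw [map_mul, map_inv]
  refine Commute.mul_right ?_ hc.inv_right
  have h4 := h3.eq
  simp only [map_mul, map_inv] at h4 ⊢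
  show _ = _
  calc _ = π y * ((π y)⁻¹ * π x * π y * π a) * (π y)⁻¹ := by group
    _ = _ := by rw [h4]; group

/-- The property of the quotient which is needed. -/
def Good (p : ℕ) (H : Type*) [Group H] : Prop :=
  ∀ x : H, (orderOf x).Prime → orderOf x ≠ p → (∃ u v, u ^ p = 1 ∧ v ^ p = 1 ∧ x = u * v) ∨
    (x ∈ center H ∧ ∀ y : H, y ∉ center H → ∃ u v, u ^ p = 1 ∧ v ^ p = 1 ∧ y = u * v)

theorem St.main (h : St p φ π Y) (hG : Good p H) {x a : K} (hx : ¬ ∃ k, orderOf x = p ^ k)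
    (ha : a ∈ φ.ker) (hc : Commute (π x) (π a)) : π a = 1 := by
  have hp : p.Prime := Fact.out
  have h0 : orderOf x ≠ 0 := (orderOf_pos x).ne'
  obtain ⟨r, hr, hrx, hrp⟩ : ∃ r, r.Prime ∧ r ∣ orderOf x ∧ r ≠ p := by
    by_contra! e
    exact hx ⟨_, Nat.eq_prime_pow_of_unique_prime_dvd h0 fun hd hd' => e _ hd hd'⟩
  have := Fact.mk hr
  have h1 : orderOf (x ^ (orderOf x / r)) = r := orderOf_pow_orderOf_div h0 hrx
  have h2 : Commute (π (x ^ (orderOf x / r))) (π a) := by rw [map_pow]; exact hc.pow_left _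
  generalize x ^ (orderOf x / r) = z at h1 h2
  have h3 : orderOf (φ z) = r := by
    refine orderOf_eq_prime (by rw [← map_pow, ← h1, pow_orderOf_eq_one, map_one]) fun e => ?_
    obtain ⟨k, hk⟩ := h.kerP ⟨z, e⟩
    have := orderOf_dvd_of_pow_eq_one (congrArg Subtype.val hk)
    rw [h1] at this
    exact hrp ((Nat.prime_dvd_prime_iff_eq hr hp).1 (hr.dvd_of_dvd_pow this))
  have h4 : φ z ^ p ≠ 1 := fun e => by
    have := orderOf_dvd_of_pow_eq_one e
    rw [h3] at this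
    exact hrp ((Nat.prime_dvd_prime_iff_eq hr hp).1 this)
  rcases hG (φ z) (h3 ▸ hr) (h3 ▸ hrp) with ⟨u, v, hu, hv, e⟩ | ⟨h5, h6⟩
  · exact h.fix_prod hu hv e h4 ha h2
  · exact h.fix_central h5 h6 h4 ha h2

/-! ### The three quotients -/

theorem mem_of_index {Q : Subgroup H} (hQ : IsPGroup p Q) [Finite H] (hi : ¬ p ∣ Q.index) {n : H}
    (hn : n ∈ 𝐍(Q)) (hp : n ^ p = 1) : n ∈ Q := by
  have h2 : IsPGroup p (zpowers n) := isPGroup_of_pow (by
    rintro _ ⟨k, rfl⟩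
    rw [← zpow_natCast, ← zpow_mul, mul_comm, zpow_mul, zpow_natCast, hp, one_zpow])
  exact (isSyl_top (hQ.toSylow hi)).le_of_le_normalizer' h2 le_top (zpowers_le.2 hn)
    (mem_zpowers n)

section SL
open Matrix
open scoped MatrixGroups
variable {F : Type*} [Field F] [CharP F p]

omit [Fact p.Prime] in
theorem unip {M : SL(2, F)} (h : M 0 0 + M 1 1 = 2) : M ^ p = 1 := by
  have hd := M.det_coe
  rw [det_fin_two] at hd
  have h1 : ∀ n : ℕ, (M : Matrix (Fin 2) (Fin 2) F) ^ n =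
      1 + (n : F) • ((M : Matrix (Fin 2) (Fin 2) F) - 1) := by
    intro n
    induction n with
    | zero => simp
    | succ n ih =>
      rw [pow_succ, ih]
      ext i j
      fin_cases i <;> fin_cases j <;> simp [mul_apply, Fin.sum_univ_two, one_apply]
      · linear_combination (n : F) * M 0 0 * h - (n : F) * hd
      · linear_combination (n : F) * M 0 1 * h
      · linear_combination (n : F) * M 1 0 * h
      · linear_combination (n : F) * M 1 1 * h - (n : F) * hd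
  apply Subtype.ext
  refine ((Matrix.SpecialLinearGroup.coe_pow M p).trans (h1 p)).trans ?_
  simp

omit [Fact p.Prime] in
theorem prod_SL {g : SL(2, F)} (hg : g ∉ center SL(2, F)) :
    ∃ u v : SL(2, F), u ^ p = 1 ∧ v ^ p = 1 ∧ g = u * v := by
  suffices ∃ w : SL(2, F), w 0 0 + w 1 1 = 2 ∧
      w 0 0 * g 0 0 + w 0 1 * g 1 0 + (w 1 0 * g 0 1 + w 1 1 * g 1 1) = 2 by
    obtain ⟨w, h1, h2⟩ := this
    exact ⟨w⁻¹, w * g, by rw [inv_pow, unip h1, inv_one],
      unip (by simpa [mul_apply, Fin.sum_univ_two] using h2), by group⟩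
  by_cases hc : g 1 0 = 0
  · by_cases hb : g 0 1 = 0
    · have had : g 0 0 - g 1 1 ≠ 0 := fun e => hg (mem_center_iff.2 fun x => by
        ext i j
        fin_cases i <;> fin_cases j <;> simp [mul_apply, Fin.sum_univ_two, hb, hc, mul_comm]
        · exact Or.inl (sub_eq_zero.1 e).symm
        · exact Or.inl (sub_eq_zero.1 e))
      obtain ⟨t, ht⟩ : ∃ t, t * (g 0 0 - g 1 1) = 2 - g 0 0 - g 1 1 := ⟨_, div_mul_cancel₀ _ had⟩
      refine ⟨⟨!![1 + t, -t; t, 1 - t], by rw [det_fin_two_of]; ring⟩, by simp; ring, ?_⟩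
      simp [hb, hc]
      linear_combination ht
    · obtain ⟨t, ht⟩ : ∃ t, t * g 0 1 = 2 - g 0 0 - g 1 1 := ⟨_, div_mul_cancel₀ _ hb⟩
      refine ⟨⟨!![1, 0; t, 1], by rw [det_fin_two_of]; ring⟩, by simp; ring, ?_⟩
      simp
      linear_combination ht
  · obtain ⟨t, ht⟩ : ∃ t, t * g 1 0 = 2 - g 0 0 - g 1 1 := ⟨_, div_mul_cancel₀ _ hc⟩
    refine ⟨⟨!![1, t; 0, 1], by rw [det_fin_two_of]; ring⟩, by simp; ring, ?_⟩
    simp
    linear_combination ht

omit [Fact p.Prime] in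
theorem good_SL : Good p SL(2, F) := fun x _ _ => by
  by_cases hx : x ∈ center SL(2, F)
  · exact Or.inr ⟨hx, fun y hy => prod_SL hy⟩
  · exact Or.inl (prod_SL hx)

end SL

theorem good_dih (r : ℕ) : Good 2 (DihedralGroup r) := fun x _ h2 => by
  rcases x with i | i
  · exact Or.inl ⟨.sr 0, .sr i, by simp [sq], by simp [sq], by simp⟩
  · exact absurd (DihedralGroup.orderOf_sr i) h2

theorem Good.of_equiv {H' : Type*} [Group H'] (h : Good p H) (e : H' ≃* H) : Good p H' := by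
  have key : ∀ y : H', (∃ u v : H, u ^ p = 1 ∧ v ^ p = 1 ∧ e y = u * v) →
      ∃ u v : H', u ^ p = 1 ∧ v ^ p = 1 ∧ y = u * v := by
    rintro y ⟨u, v, hu, hv, h1⟩
    exact ⟨e.symm u, e.symm v, by rw [← map_pow, hu, map_one], by rw [← map_pow, hv, map_one],
      by rw [← map_mul, ← h1, e.symm_apply_apply]⟩
  have hc : ∀ y : H', y ∈ center H' ↔ e y ∈ center H := fun y => by
    rw [mem_center_iff, mem_center_iff, e.surjective.forall]
    simp only [← map_mul, e.injective.eq_iff]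
  intro x h1 h2
  rw [← e.orderOf_eq] at h1 h2
  rcases h (e x) h1 h2 with h3 | ⟨h3, h4⟩
  · exact Or.inl (key x h3)
  · exact Or.inr ⟨(hc x).2 h3, fun y hy => key y (h4 _ (mt (hc y).2 hy))⟩

section Sz
open CF.BN.Suz
variable {F : Type*} [Field F] [Finite F] {T : Tits F} (D : SzData T H)
include D

theorem sz_ord {Q : Subgroup H} (hQ : ∀ a ∈ Q, a ^ 2 = 1) (hc : Nat.card Q = Nat.card F) {n : H}
    (hn : n ∈ 𝐍(Q)) (hp : n ^ 2 = 1) : n ∈ Q := by
  have := D.finite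
  obtain ⟨g, hg⟩ := D.exists_conj_le_U (isPGroup_of_pow hQ)
  have h1 : Q = (D.conj g).Z := eq_of_le_of_card_ge
    (fun a ha => ((D.conj g).mem_Z_iff_sq (hg ha)).2 (by rw [← sq, hQ a ha]))
    (by rw [hc, (D.conj g).card_Z])
  generalize D.conj g = E at h1
  subst h1
  have hn2 : n * n = 1 := by rw [← sq, hp]
  suffices ∃ z ∈ E.Z, z ≠ 1 ∧ n * z = z * n by
    obtain ⟨z, hz, h1, h2⟩ := this
    refine (E.mem_Z_iff_sq ?_).2 hn2
    rw [← E.centralizer_of_mem_Z hz h1]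
    exact mem_centralizer_singleton_iff.2 h2
  have h1 : E.u 0 1 ∈ E.Z := E.u_mem_Z_iff.2 rfl
  have h2 : E.u 0 1 ≠ 1 := fun e => one_ne_zero (E.u_eq_one.1 e).2
  generalize E.u 0 1 = z at h1 h2
  by_cases h3 : n * z = z * n
  · exact ⟨z, h1, h2, h3⟩
  have h4 := conj_mem_of_mem_normalizer hn h1
  have h5 : n⁻¹ = n := inv_eq_of_mul_eq_one_right hn2
  refine ⟨z * (n * z * n⁻¹), mul_mem h1 h4, fun e => h3 ?_, ?_⟩
  · have h6 : z * z = 1 := by rw [← sq, hQ z h1]
    have h7 : n * z * n⁻¹ = z := mul_left_cancel (e.trans h6.symm)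
    rw [← h7]; nth_rewrite 1 [h7]; rw [h7]; exact (mul_inv_eq_iff_eq_mul.1 h7)
  · rw [(E.commute_of_mem_Z h1 (E.Z_le_U h4)).eq]
    conv_rhs => rw [← (E.commute_of_mem_Z h1 (E.Z_le_U h4)).eq]
    rw [h5]
    calc _ = (n * n) * z * n * z := by group
      _ = z * (n * z * (n * n)) := by rw [hn2]; group
      _ = _ := by group

theorem good_sz {m : ℕ} (hF : Nat.card F = 2 ^ (2 * m + 1)) : Good 2 H := fun x h1 h2 => by
  have := D.finite
  suffices ∃ t, t * t = 1 ∧ t * x * t⁻¹ = x⁻¹ by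
    obtain ⟨t, h3, h4⟩ := this
    have h5 : t⁻¹ = t := inv_eq_of_mul_eq_one_right h3
    refine Or.inl ⟨t, t * x, by rw [sq, h3], ?_, by rw [← mul_assoc, h3, one_mul]⟩
    rw [h5] at h4
    rw [sq, ← mul_assoc, h4, inv_mul_cancel]
  have hx1 : x ≠ 1 := fun e => by rw [e, orderOf_one] at h1; exact Nat.not_prime_one h1
  have hodd : Odd (orderOf x) := h1.odd_of_ne_two h2
  rcases D.trichotomy x with ⟨g, hg⟩ | ⟨g, hg⟩ | hx
  · exact absurd hg ((D.conj g).not_mem_U_of_odd hx1 hodd)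
  · obtain ⟨t, rfl⟩ := (D.conj g).mem_H.1 hg
    exact ⟨_, (D.conj g).w_mul_w, (D.conj g).w_conj_h t⟩
  rcases Nat.eq_zero_or_pos m with rfl | hm
  · have h20 : Nat.card H = 20 := by rw [D.card_G, hF]; rfl
    have h5 : orderOf x = 5 := by
      have := hx.orderOf_dvd
      rw [hF] at this
      exact (Nat.prime_dvd_prime_iff_eq h1 Nat.prime_five).1 this
    have := Fact.mk Nat.prime_five
    have hP : IsPGroup 5 (zpowers x) := IsPGroup.of_card (n := 1) (by rw [Nat.card_zpowers, h5]; rfl)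
    have hi : (zpowers x).index = 4 := by
      have := (zpowers x).card_mul_index
      rw [Nat.card_zpowers, h5, h20] at this
      omega
    let P := hP.toSylow (by rw [hi]; decide)
    have h6 : Nat.card (Sylow 5 H) = 1 := by
      have a1 := card_sylow_modEq_one 5 H
      have a2 := P.card_dvd_index
      rw [show (P : Subgroup H).index = 4 from hi] at a2
      have a3 := Nat.le_of_dvd (by norm_num) a2
      unfold Nat.ModEq at a1
      omega
    have := (Nat.card_eq_one_iff_unique.1 h6).1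
    have hn : (zpowers x).Normal := P.normal_of_subsingleton
    have h7 := hn.conj_mem x (mem_zpowers x) (D.u 0 1)
    have h8 : Commute (D.u 0 1 * x * (D.u 0 1)⁻¹) x := by
      obtain ⟨k, hk⟩ := h7
      rw [← hk]; exact (Commute.refl x).zpow_left k
    have h9 : (D.u 0 1)⁻¹ = D.u 0 1 := inv_eq_of_mul_eq_one_right (D.u_zero_sq 1)
    refine ⟨D.u 0 1, D.u_zero_sq 1, eq_inv_of_mul_eq_one_left ?_⟩
    by_contra e
    refine D.not_mem_U_of_odd e (Odd.of_dvd_nat hodd (orderOf_dvd_of_mem_zpowers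
      (mul_mem h7 (mem_zpowers x)))) ?_
    rw [← D.centralizer_of_mem_Z (D.u_mem_Z_iff.2 rfl : D.u 0 1 ∈ D.Z)
      (fun e => one_ne_zero (D.u_eq_one.1 e).2), mem_centralizer_singleton_iff]
    conv_rhs => rw [h8.eq]
    have := D.u_zero_sq 1
    rw [h9]
    generalize D.u 0 1 = t at this
    calc _ = t * x * t * x * t := by group
      _ = _ := by group
  · have h8 : 8 ≤ Nat.card F := by
      rw [hF]; exact Nat.pow_le_pow_right (n := 2) (i := 3) (by norm_num) (by omega)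
    have hr := sq_two_pow hF
    obtain ⟨v, hv, h4⟩ := hx.exists_orderOf_four hr h8
    have h5 : v * v * (v * v) = 1 := by rw [← pow_orderOf_eq_one v, h4]; simp [pow_succ, mul_assoc]
    refine ⟨v * v, h5, hx.conj_eq_inv (mul_mem hv hv) (fun e => ?_) h5
      (mem_centralizer_singleton_iff.2 rfl)⟩
    have a1 := (Odd.of_dvd_nat hx.odd_card_centralizer (orderOf_dvd_natCard (⟨_, e⟩ :
      centralizer ({x} : Set H))))
    rw [orderOf_mk, ← sq, orderOf_pow' _ two_ne_zero, h4] at a1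
    exact absurd a1 (by decide)

end Sz

end CF.FrL
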