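import Cfsg.Agent.PLocal.HomD
import Cfsg.Agent.S2476
import Cfsg.Agent.S2366
import Cfsg.Agent.S2283

/-! `PSL₃(q)` and `PSU₃(q)`, `q` odd, are not homogeneous. -/

set_option autoImplicit false

open Subgroup CF.Transfer Matrix

namespace CF.Hmg

theorem eq_scalar_of_comm {F : Type*} [Field F] (h2 : (2 : F) ≠ 0)
    {N g : Matrix (Fin 3) (Fin 3) F} (h3 : N ^ 3 = 0) (hN : N ^ 2 ≠ 0) (hc : g * N = N * g)
    (hg : g * g = 1) : ∃ a : F, g = a • 1 := by
  obtain ⟨v, hv⟩ : ∃ v : Fin 3 → F, (N ^ 2) *ᵥ v ≠ 0 := by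
    by_contra! h
    exact hN (Matrix.toLin'.injective (LinearMap.ext fun v => by
      rw [toLin'_apply, h v, map_zero, LinearMap.zero_apply]))
  have ind : ∀ a b c : F, a • v + b • N *ᵥ v + c • (N ^ 2) *ᵥ v = 0 → a = 0 ∧ b = 0 ∧ c = 0 := by
    intro a b c h
    have e3 : N ^ 2 * N = 0 := by rw [← pow_succ, h3]
    have e3' : N * N ^ 2 = 0 := by rw [← pow_succ', h3]
    have e4 : N ^ 2 * N ^ 2 = 0 := by rw [← pow_add, show 2 + 2 = 3 + 1 by rfl, pow_succ, h3, zero_mul]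
    have h1 := congrArg ((N ^ 2) *ᵥ ·) h
    simp only [mulVec_add, mulVec_smul, mulVec_mulVec, e3, e4, zero_mulVec, smul_zero, add_zero,
      mulVec_zero] at h1
    obtain rfl := (smul_eq_zero.1 h1).resolve_right hv
    have h1 := congrArg (N *ᵥ ·) h
    simp only [mulVec_add, mulVec_smul, mulVec_mulVec, e3', zero_mulVec, smul_zero, add_zero,
      mulVec_zero, zero_smul, zero_add, ← pow_two] at h1
    obtain rfl := (smul_eq_zero.1 h1).resolve_right hv
    simp only [zero_smul, zero_add] at h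
    exact ⟨rfl, rfl, (smul_eq_zero.1 h).resolve_right hv⟩
  have li : LinearIndependent F ![v, N *ᵥ v, (N ^ 2) *ᵥ v] := by
    rw [Fintype.linearIndependent_iff]
    intro c hc i
    have := ind (c 0) (c 1) (c 2) (by simpa [Fin.sum_univ_three] using hc)
    fin_cases i
    exacts [this.1, this.2.1, this.2.2]
  let B := basisOfLinearIndependentOfCardEqFinrank li (by simp)
  have hB : ∀ i, B i = ![v, N *ᵥ v, (N ^ 2) *ᵥ v] i := fun i => by simp [B]
  obtain ⟨a, b, c, e⟩ : ∃ a b c : F, g *ᵥ v = a • v + b • N *ᵥ v + c • (N ^ 2) *ᵥ v :=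
    ⟨B.repr (g *ᵥ v) 0, B.repr (g *ᵥ v) 1, B.repr (g *ᵥ v) 2, by
      conv_lhs => rw [← B.sum_repr (g *ᵥ v), Fin.sum_univ_three, hB, hB, hB]
      rfl⟩
  have e1 : g *ᵥ N *ᵥ v = a • N *ᵥ v + b • (N ^ 2) *ᵥ v := by
    rw [mulVec_mulVec, hc, ← mulVec_mulVec, e]
    simp only [mulVec_add, mulVec_smul, mulVec_mulVec, ← pow_two, ← pow_succ', h3, zero_mulVec,
      smul_zero, add_zero]
  have e2 : g *ᵥ (N ^ 2) *ᵥ v = a • (N ^ 2) *ᵥ v := by
    rw [pow_two, ← mulVec_mulVec, mulVec_mulVec _ g, hc, ← mulVec_mulVec, e1]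
    simp only [mulVec_add, mulVec_smul, mulVec_mulVec, ← pow_two, ← pow_succ', h3, zero_mulVec,
      smul_zero, add_zero]
  have e4 := congrArg (g *ᵥ ·) e
  simp only [mulVec_add, mulVec_smul, e1, e2] at e4
  rw [mulVec_mulVec, hg, one_mulVec, e] at e4
  obtain ⟨p1, p2, p3⟩ := ind (a * a - 1) (2 * a * b) (2 * a * c + b * b) (by
    linear_combination (norm := module) -e4)
  have ha : a ≠ 0 := by rintro rfl; simp at p1
  obtain rfl : b = 0 := by simpa [h2, ha] using p2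
  obtain rfl : c = 0 := by simpa [h2, ha] using p3
  refine ⟨a, Matrix.toLin'.injective (B.ext fun i => ?_)⟩
  rw [hB]
  fin_cases i
  · simpa [smul_mulVec] using e
  · simpa [smul_mulVec] using e1
  · simpa [smul_mulVec] using e2

theorem not_hom_quot {Γ : Type*} [Group Γ] [Finite Γ] {p : ℕ} [hp : Fact p.Prime] (hp2 : p ≠ 2)
    {u : Γ} (hu : u ^ p = 1) (hc : ∀ g, g ^ 2 = 1 → g * u = u * g → g = 1)
    (hx : ∃ x : Γ ⧸ center Γ, orderOf x = 2 * p) : ¬ Hom (Γ ⧸ center Γ) := by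
  intro h
  have hZ : ∀ z ∈ center Γ, z ^ 2 = 1 → z = 1 := fun z hz e => hc z e (mem_center_iff.1 hz u).symm
  have key : ∀ s : Γ ⧸ center Γ, orderOf s = 2 → s * u = u * s → False := by
    intro s hs e
    obtain ⟨s, rfl⟩ := QuotientGroup.mk_surjective s
    obtain ⟨y, -, ⟨j, hj⟩, hy⟩ := exists_pElt_lift (p := 2) (QuotientGroup.mk' (center Γ))
      (isOfFinOrder_of_finite s) (k := 1) hs
    replace hy : (y : Γ ⧸ center Γ) = s := hy
    rw [← hy] at hs e
    have h1 : y ^ 2 ∈ center Γ := (QuotientGroup.eq_one_iff _).1 (by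
      rw [QuotientGroup.mk_pow, ← hs, pow_orderOf_eq_one])
    have h2 : ∀ k, (y ^ 2) ^ 2 ^ k = 1 → y ^ 2 = 1 := fun k => by
      induction k with
      | zero => simp
      | succ k ih => exact fun e => ih (hZ _ (pow_mem h1 _) (by rw [← pow_mul, ← pow_succ, e]))
    have h3 := h2 j (by rw [← pow_mul, mul_comm, pow_mul, ← hj, pow_orderOf_eq_one, one_pow])
    have h4 : u⁻¹ * (y * u * y⁻¹) ∈ center Γ := QuotientGroup.eq.1 (by simp [e])
    have h5 := conj_pow_eq (k := y) (g := u) (a := u⁻¹ * (y * u * y⁻¹)) (by group)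
      (mem_center_iff.1 h4 y) 2
    rw [h3, one_mul, inv_one, mul_one, left_eq_mul] at h5
    rw [hc y h3 (mul_inv_eq_iff_eq_mul.1 (inv_mul_eq_one.1 (hZ _ h4 h5)).symm)] at hs
    simp at hs
  obtain ⟨x, hx⟩ := hx
  have h1 : orderOf (x ^ p) = 2 := by
    rw [orderOf_pow_of_dvd hp.out.ne_zero (hx ▸ dvd_mul_left _ _), hx,
      Nat.mul_div_cancel _ hp.out.pos]
  have h2 : orderOf (x ^ 2) = p := by
    rw [orderOf_pow_of_dvd two_ne_zero (hx ▸ dvd_mul_right _ _), hx,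
      Nat.mul_div_cancel_left _ two_pos]
  by_cases h3 : (u : Γ ⧸ center Γ) = 1
  · exact key _ h1 (by simp [h3])
  obtain ⟨α, hα⟩ := h.exists_of_orderOf (h2.trans (orderOf_eq_prime (x := (u : Γ ⧸ center Γ))
    (by rw [← QuotientGroup.mk_pow, hu]; rfl) h3).symm)
  refine key (α (x ^ p)) (by rw [MulEquiv.orderOf_eq, h1]) ?_
  rw [← hα, ← map_mul, ← map_mul, (Commute.pow_pow_self x p 2).eq]

theorem not_hom_sl3 {F : Type*} [Field F] {p : ℕ} [hp : Fact p.Prime] [CharP F p] (hp2 : p ≠ 2)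
    {Γ : Type*} [Group Γ] [Finite Γ] (ρ : Γ →* SpecialLinearGroup (Fin 3) F)
    (hρ : Function.Injective ρ) {u : Γ} (h3 : ((ρ u).1 - 1) ^ 3 = 0) (hN : ((ρ u).1 - 1) ^ 2 ≠ 0)
    (hx : ∃ x : Γ ⧸ center Γ, orderOf x = 2 * p) : ¬ Hom (Γ ⧸ center Γ) := by
  have h2 : (2 : F) ≠ 0 := fun e => hp2 ((Nat.prime_dvd_prime_iff_eq hp.out Nat.prime_two).1
    ((CharP.cast_eq_zero_iff F p 2).1 (by exact_mod_cast e)))
  refine not_hom_quot hp2 (u := u) (hρ (Subtype.ext ?_)) (fun g hg hc => hρ (Subtype.ext ?_)) hx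
  · have := sub_pow_char_of_commute p (Commute.one_right (ρ u).1)
    obtain ⟨k, hk⟩ := Nat.exists_eq_add_of_le (show 3 ≤ p by have := hp.out.two_le; omega)
    rw [one_pow, hk, pow_add, h3, zero_mul, ← hk] at this
    simpa using (sub_eq_zero.1 this.symm)
  · have hm : ∀ a b, (ρ a).1 * (ρ b).1 = (ρ (a * b)).1 := fun a b => by rw [map_mul]; rfl
    have hg' : (ρ g).1 * (ρ g).1 = 1 := by
      rw [hm, ← pow_two, hg, map_one]; rfl
    obtain ⟨a, ha⟩ := eq_scalar_of_comm h2 h3 hN (g := (ρ g).1) (by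
      rw [mul_sub, sub_mul, hm, hm, hc, mul_one, one_mul]) hg'
    have d := (ρ g).2
    rw [ha] at hg' d
    have e1 : a * a = 1 := by simpa using congrFun (congrFun hg' 0) 0
    have e2 : a = 1 := by
      simp only [det_smul, Fintype.card_fin, det_one, mul_one] at d
      linear_combination d - a * e1
    rw [ha, e2]; simp

theorem two_mul_dvd_div {p t : ℕ} (ht : 2 ∣ t) : 2 * p ∣ p * t / Nat.gcd 3 t := by
  rw [Nat.mul_div_assoc _ (Nat.gcd_dvd_right _ _), mul_comm]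
  refine Nat.mul_dvd_mul_left p ((Nat.Coprime.dvd_mul_right (k := 2) (n := Nat.gcd 3 t)
    (Nat.Coprime.coprime_dvd_right (Nat.gcd_dvd_left _ _) (by decide))).1 ?_)
  rwa [Nat.div_mul_cancel (Nat.gcd_dvd_right _ _)]

theorem ne_two_of_odd {F : Type*} [Field F] [Fintype F] (h : Odd (Fintype.card F)) {p : ℕ}
    [CharP F p] : p ≠ 2 := by
  rintro rfl
  obtain ⟨n, -, hn⟩ := FiniteField.card F 2
  rw [hn] at h
  exact (Nat.not_even_iff_odd.2 h) (even_two.pow_of_ne_zero n.ne_zero)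

theorem not_hom_psl3 {F : Type*} [Field F] [Fintype F] (h : Odd (Fintype.card F)) :
    ¬ Hom (ProjectiveSpecialLinearGroup (Fin 3) F) := by
  obtain ⟨p, hp⟩ := CharP.exists F
  have : Fact p.Prime := ⟨CharP.char_is_prime F p⟩
  refine not_hom_sl3 (ne_two_of_odd h) (MonoidHom.id _) Function.injective_id
    (u := ⟨!![1, 1, 0; 0, 1, 1; 0, 0, 1], by simp [det_fin_three]⟩) ?_ (fun e => ?_) ?_
  · change ((!![1, 1, 0; 0, 1, 1; 0, 0, 1] : Matrix _ _ F) - 1) ^ 3 = 0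
    ext i j
    fin_cases i <;> fin_cases j <;> simp [pow_succ, Matrix.mul_apply, Fin.sum_univ_three, one_apply]
  · change ((!![1, 1, 0; 0, 1, 1; 0, 0, 1] : Matrix _ _ F) - 1) ^ 2 = 0 at e
    simpa [pow_succ, Matrix.mul_apply, Fin.sum_univ_three, one_apply]
      using congrFun (congrFun e 0) 2
  · refine (Set.ext_iff.1 (Cfsg.Agent.S2476.result (F := F) p) (2 * p)).2
      (Or.inr (Or.inr (Or.inr (Or.inl (two_mul_dvd_div ?_)))))
    obtain ⟨k, hk⟩ := h
    omega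

theorem not_hom_psu3 {F : Type*} [Field F] [Fintype F] {q : ℕ} (hF : Fintype.card F = q ^ 2)
    (h : Odd q) : ¬ Hom (Cfsg.PSU 3 F q) := by
  obtain ⟨p, hp⟩ := CharP.exists F
  have : Fact p.Prime := ⟨CharP.char_is_prime F p⟩
  have hp2 : p ≠ 2 := ne_two_of_odd (F := F) (hF ▸ h.pow)
  have h1 : 1 < q ^ 2 := hF ▸ Fintype.one_lt_card
  have h3 : 3 ≤ q := by
    obtain ⟨k, rfl⟩ := h
    rcases k with _ | k
    · simp at h1
    · omega
  obtain ⟨u, -, ⟨hu, hN⟩, -⟩ := Cfsg.Agent.S2283.result q h3 hF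
  refine not_hom_sl3 hp2 (Subgroup.subtype _) (subtype_injective _) (u := u) ?_ hN ?_
  · have := Matrix.aeval_self_charpoly ((u : SpecialLinearGroup (Fin 3) F).1 - 1)
    rw [show ((u : SpecialLinearGroup (Fin 3) F).1 - 1).charpoly = Polynomial.X ^ 3 by
      simpa [sub_eq_zero] using (Matrix.isNilpotent_charpoly_sub_pow_of_isNilpotent hu).eq_zero]
      at this
    simpa using this
  · refine (Set.ext_iff.1 (Cfsg.Agent.S2366.result (F := F) p hp2 q hF) (2 * p)).2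
      (Or.inl (Or.inl (Or.inr (two_mul_dvd_div ?_))))
    exact h.add_one.two_dvd

end CF.Hmg
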