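import Cfsg.Agent.PLocal.HomD
import Cfsg.Agent.GW.Gam
import Cfsg.Agent.Phan.Aut2
import Cfsg.Agent.S2475
import Cfsg.Agent.S0813
import Cfsg.Agent.S0815
import Cfsg.Agent.S0280
import Cfsg.Agent.S2119
import Cfsg.Agent.S2060
import Cfsg.Agent.Small.O7920

/-! Homogeneous groups of type `L₂(q)`; `A₇`, `M₁₁` and `U₃(4)` are not homogeneous. -/

set_option autoImplicit false

open Subgroup CF.Transfer Matrix CF.Classical CF.GW
open scoped MatrixGroups

namespace CF.Hmg

variable {F : Type*} [Field F] [Fintype F]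

theorem tau_aut (h2 : (2 : F) ≠ 0) (α : PSL(2, F) ≃* PSL(2, F)) :
    ∃ σ : RingAut F, ∀ x, tau (pslEquiv F (α x) : PGL(2, F)) = σ (tau (pslEquiv F x : PGL(2, F))) := by
  obtain ⟨γ, hγ⟩ := (conjNormal_Lg_bijective h2).2 (MulAut.congr (lgEquiv F) α)
  refine ⟨γ.right, fun x => ?_⟩
  have h1 : γ * SemidirectProduct.inl (pslEquiv F x : PGL(2, F)) * γ⁻¹ =
      SemidirectProduct.inl (pslEquiv F (α x) : PGL(2, F)) := by
    have := congrArg (fun β : MulAut (Lg F) => (β (lgEquiv F x) : GamL F)) hγ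
    simp only [MulAut.conjNormal_apply, MulAut.congr_apply, MulEquiv.trans_apply,
      MulEquiv.symm_apply_apply] at this
    exact this
  rw [conj_inl] at h1
  rw [← SemidirectProduct.inl_injective h1, tau_conj, tau_pact]

omit [Fintype F] in
theorem ringAut_apply [Fintype F] (hp : (Fintype.card F).Prime) (σ : RingAut F) (a : F) :
    σ a = a := by
  obtain ⟨b, rfl⟩ := (ZMod.ringEquivOfPrime F hp rfl).surjective a
  exact RingHom.congr_fun (Subsingleton.elim ((σ : F →+* F).comp (ZMod.ringEquivOfPrime F hp rfl))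
    (ZMod.ringEquivOfPrime F hp rfl : ZMod (Fintype.card F) →+* F)) b

theorem psl2_prime (hp : (Fintype.card F).Prime) (h3 : 3 < Fintype.card F)
    (h : ∀ x : PSL(2, F), Odd (orderOf x) → ∃ α : PSL(2, F) ≃* PSL(2, F), α x = x ^ 2) :
    Fintype.card F = 5 ∨ Fintype.card F = 7 := by
  have := Fact.mk hp
  have : CharP F (Fintype.card F) := charP_of_card_eq_prime rfl
  have ho := hp.odd_of_ne_two (by omega)
  have h2 := two_ne_zero_of_odd ho
  have key : ∀ n, Odd n → (∃ x : PSL(2, F), orderOf x = n) → n ∣ 3 ∨ n ∣ Fintype.card F := by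
    rintro _ hn ⟨x, rfl⟩
    obtain ⟨α, hα⟩ := h x hn
    obtain ⟨σ, hσ⟩ := tau_aut h2 α
    have e := hσ x
    rw [hα, ringAut_apply hp, map_pow, SubmonoidClass.coe_pow, tau_sq] at e
    rw [← (pslEquiv F).orderOf_eq, ← Subgroup.orderOf_coe, orderOf_dvd_iff_pow_eq_one,
      orderOf_dvd_iff_pow_eq_one]
    generalize (pslEquiv F x : PGL(2, F)) = g at e
    rcases mul_eq_zero.1 (show (tau g - 1) * (tau g - 4) = 0 by linear_combination e) with e | e
    · exact Or.inl (pow_three_eq_one_iff_tau.2 (Or.inr (sub_eq_zero.1 e)))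
    · by_cases h1 : g = 1
      · simp [h1]
      have h4 : tau g = 4 := sub_eq_zero.1 e
      have := isConj_of_tau_eq (h := aff 1 1 one_ne_zero) h1 (by simp [aff_eq_one_iff])
        (by rw [h4, show (4 : F) = 2 * 2 by norm_num]; exact mul_ne_zero h2 h2)
        (by rw [h4, aff, tau_pgl]; norm_num)
      refine Or.inr (isConj_one_left.1 ?_)
      simpa [aff_one_pow, aff_one_zero] using this.pow (Fintype.card F)
  have sp := Set.ext_iff.1 (Cfsg.Agent.S2475.result (F := F) (Fintype.card F) h3)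
  obtain ⟨k, hk⟩ := ho
  have hg : Nat.gcd 2 (Fintype.card F - 1) = 2 := Nat.gcd_eq_left ⟨k, by omega⟩
  rw [hg] at sp
  have hd : ∀ n, 1 < n → n < Fintype.card F → n ∣ 3 ∨ n ∣ Fintype.card F → n = 3 := by
    rintro n h1 h2 (h | h)
    · exact ((Nat.dvd_prime Nat.prime_three).1 h).resolve_left h1.ne'
    · rcases (Nat.dvd_prime hp).1 h with h | h <;> omega
  rcases Nat.even_or_odd k with hk2 | hk2
  · have := hd (k + 1) (by omega) (by omega) (key _ hk2.add_one ((sp _).2
      (Or.inr (Or.inr (by rw [show (Fintype.card F + 1) / 2 = k + 1 by omega])))))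
    omega
  · have := hd k (by omega) (by omega) (key _ hk2 ((sp _).2
      (Or.inr (Or.inl (by rw [show (Fintype.card F - 1) / 2 = k by omega])))))
    omega

/-- the upper unitriangular matrices -/
def uni (F : Type*) [Field F] : Multiplicative F →* SL(2, F) :=
  MonoidHom.mk' (fun b => sl2 1 b.toAdd 0 1 (by simp)) fun a b => Subtype.ext (by
    change !![1, (a * b).toAdd; 0, 1] = !![1, a.toAdd; 0, 1] * !![1, b.toAdd; 0, 1]
    simp [add_comm])

omit [Fintype F] in
theorem eq_one_of_uni {b : Multiplicative F} (h : uni F b ∈ center SL(2, F)) : b = 1 := by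
  obtain ⟨r, -, hr⟩ := Matrix.SpecialLinearGroup.mem_center_iff.1 h
  have : b.toAdd = 0 := by
    simpa using (congrFun (congrFun (show _ = !![1, b.toAdd; 0, 1] from hr) 0) 1).symm
  exact Multiplicative.toAdd.injective this

theorem prime_card {Γ : Type*} [Group Γ] [Finite Γ] (h : Hom Γ) (ι : Multiplicative F →* Γ)
    (hι : ∀ b, ι b ∈ center Γ → b = 1) (ho : Odd (Fintype.card F)) (h3 : 3 < Fintype.card F)
    (hA : Nat.card (MulAut Γ) ∣ Nat.card (MulAut PSL(2, F))) : (Fintype.card F).Prime := by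
  obtain ⟨p, hp⟩ := CharP.exists F
  obtain ⟨⟨f, hf⟩, hp', hq⟩ := FiniteField.card F p
  have := Fact.mk hp'
  replace hq : Fintype.card F = p ^ f := hq
  have hi : Function.Injective ι :=
    (injective_iff_map_eq_one ι).2 fun b hb => hι b (hb ▸ one_mem _)
  have h1 := (h.sq_dvd_of_ea (p := p) (P := ι.range) ⟨by
    rintro _ ⟨a, rfl⟩ _ ⟨b, rfl⟩; rw [← map_mul, ← map_mul, mul_comm], by
    rintro _ ⟨a, rfl⟩
    rw [← map_pow, show a ^ p = 1 from Multiplicative.toAdd.injective (by simp), map_one]⟩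
    ((eq_bot_iff_forall _).2 (by
      rintro _ ⟨⟨b, rfl⟩, hb⟩; rw [hι b hb, map_one]))).trans (Nat.mul_dvd_mul_left p hA)
  rw [← Nat.card_congr (MonoidHom.ofInjective hi).toEquiv, Nat.card_congr Multiplicative.toAdd,
    Cfsg.Agent.S0813.result p f hf hq 2 le_rfl (fun _ => by omega), card_PGL_two,
    Nat.card_eq_fintype_card, hq, if_pos rfl, one_mul] at h1
  obtain ⟨k, rfl⟩ := Nat.exists_eq_add_one_of_ne_zero hf.ne'
  have hpos : 0 < p ^ (k + 1) := pow_pos hp'.pos _
  have h4 : p ^ k ∣ (k + 1) * ((p ^ (k + 1)) ^ 2 - 1) :=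
    Nat.dvd_of_mul_dvd_mul_left (Nat.mul_pos hp'.pos hpos) (by
      generalize (p ^ (k + 1)) ^ 2 - 1 = m at h1
      rw [show p * p ^ (k + 1) * p ^ k = (p ^ (k + 1)) ^ 2 by ring,
        show p * p ^ (k + 1) * ((k + 1) * m) = p * ((k + 1) * (p ^ (k + 1) * m)) by ring]
      exact h1)
  have h5 : p ^ k ∣ k + 1 := (Nat.Coprime.pow_left k (hp'.coprime_iff_not_dvd.2 fun e => hp'.not_dvd_one
    ((Nat.dvd_sub_iff_right (pow_pos hpos 2) (dvd_pow (dvd_pow_self p (by omega)) two_ne_zero)).1
      e))).dvd_of_dvd_mul_right h4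
  have hp3 : 3 ≤ p := by
    have := hp'.two_le
    have : p ≠ 2 := by
      rintro rfl
      exact (Nat.not_even_iff_odd.2 (hq ▸ ho)) (even_two.pow_of_ne_zero (by omega))
    omega
  have h6 : k = 0 := by
    by_contra hk
    have h7 := (Nat.pow_le_pow_left hp3 k).trans (Nat.le_of_dvd (by omega) h5)
    have : ∀ n, n + 2 < 3 ^ (n + 1) := fun n => by
      induction n with
      | zero => simp
      | succ n ih => rw [pow_succ]; omega
    have := this (k - 1)
    rw [show k - 1 + 1 = k by omega] at this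
    omega
  rw [hq, h6]; simpa using hp'

theorem psl2_hom (h : Hom PSL(2, F)) (hZ : center PSL(2, F) = ⊥) (ho : Odd (Fintype.card F))
    (h3 : 3 < Fintype.card F) : Fintype.card F = 5 ∨ Fintype.card F = 7 := by
  refine psl2_prime (prime_card h ((QuotientGroup.mk' _).comp (uni F)) (fun b hb => ?_) ho h3
    dvd_rfl) h3 fun x hx => h.exists_of_orderOf
      ((Nat.coprime_two_right.2 hx).orderOf_pow).symm
  rw [hZ, mem_bot] at hb
  exact eq_one_of_uni ((QuotientGroup.eq_one_iff _).1 hb)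

theorem sl2_hom [Group.IsPerfect SL(2, F)] (h : Hom SL(2, F)) (ho : Odd (Fintype.card F))
    (h3 : 3 < Fintype.card F) : Fintype.card F = 5 := by
  have hp := prime_card h (uni F) (fun b => eq_one_of_uni) ho h3
    (card_dvd_of_injective _ quotAut_center_injective)
  refine (psl2_prime hp h3 fun x hx => ?_).resolve_right fun h7 => ?_
  · obtain ⟨x, rfl⟩ := QuotientGroup.mk_surjective x
    obtain ⟨y, -, hy, e⟩ := exists_coprime_lift (p := 2) (QuotientGroup.mk' (center SL(2, F)))
      (isOfFinOrder_of_finite x) (Nat.coprime_two_right.2 hx)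
    obtain ⟨α, hα⟩ := h.exists_of_orderOf hy.orderOf_pow.symm
    refine ⟨CF.Fgs2.quotAut _ α, ?_⟩
    rw [← show (y : PSL(2, F)) = x from e, CF.Fgs2.quotAut_mk, hα]
    rfl
  · have e7 : (7 : F) = 0 := by simpa [h7] using FiniteField.cast_card_eq_zero F
    let x : SL(2, F) := sl2 1 1 1 2 (by norm_num)
    have h4 : x ^ 4 = -1 := Subtype.ext (by
      change (!![1, 1; 1, 2] : Matrix _ _ F) ^ 4 = -1
      ext i j
      fin_cases i <;> fin_cases j <;>
        simp [pow_succ, Matrix.mul_apply, Fin.sum_univ_two] <;>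
        first | linear_combination 2 * e7 | linear_combination 3 * e7 | linear_combination 5 * e7)
    have h8 : orderOf x = 2 ^ 3 := orderOf_eq_prime_pow (n := 2) (by
      rw [show 2 ^ 2 = 4 by rfl, h4]
      intro e
      have := congrFun (congrFun (congrArg Subtype.val e) 0) 0
      simp at this
      exact two_ne_zero_of_odd ho (by linear_combination -this)) (by
      rw [show 2 ^ (2 + 1) = 4 * 2 by rfl, pow_mul, h4]; simp)
    obtain ⟨α, hα⟩ := h.exists_of_orderOf (Nat.Coprime.orderOf_pow (y := x) (m := 5)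
      (by rw [h8]; decide)).symm
    obtain ⟨g, τ, hg⟩ := CF.Phan.aut_sl2 α
    have e1 : (α x).1 = g.1 * x.1.map τ * g⁻¹.1 := by
      rw [← hg x, mul_assoc, Units.mul_inv, mul_one]
    have e2 := congrArg Matrix.trace e1
    rw [trace_mul_cycle, Units.inv_mul, one_mul, hα, pow_succ, h4] at e2
    change Matrix.trace ((-1 : Matrix _ _ F) * !![1, 1; 1, 2]) =
      Matrix.trace ((!![1, 1; 1, 2] : Matrix _ _ F).map τ) at e2
    simp [trace_fin_two, map_ofNat] at e2
    exact one_ne_zero (α := F) (by linear_combination e7 + e2)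

variable {G : Type*} [Group G] [Finite G]

theorem Hom.cube_dvd' (h : Hom G) [Group.IsPerfect G] {S : Type*} [Group S]
    (e : G ⧸ center G ≃* S) {p : ℕ} [Fact p.Prime] (hd : p ^ 2 ∣ Nat.card S)
    (hZ : ¬ p ∣ Nat.card (center G)) : p ^ 3 ∣ Nat.card (MulAut S) := by
  rw [← Nat.card_congr (MulAut.congr e).toEquiv]
  exact (h.cube_dvd ((Nat.card_congr e.toEquiv ▸ hd).trans (card_quotient_dvd_card _)) hZ).trans
    (card_dvd_of_injective _ quotAut_center_injective)

theorem not_hom_A7 [Group.IsPerfect G] (e : G ⧸ center G ≃* alternatingGroup (Fin 7))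
    (hZ : ¬ 3 ∣ Nat.card (center G)) : ¬ Hom G := fun h => by
  have := h.cube_dvd' e (p := 3) (by rw [nat_card_alternatingGroup]; simp; decide) hZ
  rw [← Nat.card_eq_of_bijective _ (Cfsg.Agent.S2119.result 7 (by omega) (by omega)),
    Nat.card_perm] at this
  simp at this
  exact absurd this (by decide)

omit [Finite G] in
theorem card_mulAut (h : center G = ⊥) :
    Nat.card (MulAut G) = Nat.card (Cfsg.Out G) * Nat.card G := by
  rw [card_eq_card_quotient_mul_card_subgroup (Cfsg.Inn G), ← Nat.card_congr (MonoidHom.ofInjective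
    (f := (MulAut.conj : G →* MulAut G)) ((MonoidHom.ker_eq_bot_iff _).1 (eq_bot_iff.2 fun g hg =>
      h.le (mem_center_iff.2 fun x =>
        (mul_inv_eq_iff_eq_mul.1 (MulEquiv.ext_iff.1 hg x :)).symm)))).toEquiv]

theorem not_hom_7920 [IsSimpleGroup G] (hZ : center G = ⊥) (hc : Nat.card G = 7920) :
    ¬ Hom G := fun h => by
  obtain ⟨e⟩ := CF.Small.M11_of_card hc
  have := h.cube_dvd (p := 3) (by rw [hc]; decide) (by simp [hZ])
  rw [Nat.card_congr (MulAut.congr e).toEquiv, card_mulAut ((eq_bot_iff_forall _).2 fun x hx =>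
    (map_eq_one_iff _ e.symm.injective).1 ((eq_bot_iff_forall _).1 hZ _ (mem_center_iff.2 fun y =>
      e.injective (by simpa using mem_center_iff.1 hx (e y))))),
    Cfsg.Agent.S2060.result, ← Nat.card_congr e.toEquiv, hc] at this
  exact absurd this (by decide)

theorem not_hom_U34 (hF : Fintype.card F = 16) (e : G ≃* Cfsg.PSU 3 F 4) (hZ : center G = ⊥) :
    ¬ Hom G := fun h => by
  have : Fact (Nat.Prime 5) := ⟨by decide⟩
  have hc : Nat.card (Cfsg.PSU 3 F 4) = 62400 := by
    have := Cfsg.Agent.S0280.result (F := F) (q := 4) hF 3 (by omega)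
    simp [Finset.prod_range_succ] at this
    omega
  have := h.cube_dvd (p := 5) (by rw [Nat.card_congr e.toEquiv, hc]; decide) (by simp [hZ])
  rw [Nat.card_congr (MulAut.congr e).toEquiv,
    Cfsg.Agent.S0815.result (q := 4) 2 2 (by omega) rfl hF 3 le_rfl (by omega), hc] at this
  exact absurd this (by decide)

end CF.Hmg
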