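import Mathlib
import Cfsg.Agent.S3888
import Cfsg.Agent.BG2.P4c
import Cfsg.Agent.Fus.Pearl
import Cfsg.Agent.Fgs2.Yoshida

/-! Sylow `p`-subgroups of rank two of perfect groups with an isolated element. -/

set_option autoImplicit false

namespace CF.IsoR2

open Subgroup CF.BG CF.BG2 CF.Blk
open scoped commutatorElement

variable {G : Type*} [Group G] [Finite G] {p : ℕ} {P A H W : Subgroup G} {x w : G}

/-- an abelian normal subgroup of index at most `p`, derived group of exponent `p` -/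
structure AB (p : ℕ) (P A : Subgroup G) (x : G) : Prop where
  nA : A ⊴ P
  ab : Abel A
  hx : x ∈ P
  xp : x ^ p = 1
  sup : P ≤ A ⊔ zpowers x
  der : ⁅P, P⁆ ≤ 𝛀 p A

omit [Finite G] in
theorem AB.map {G' : Type*} [Group G'] (h : AB p P A x) {f : G →* G'}
    (hf : Function.Injective f) : AB p (P.map f) (A.map f) (f x) where
  nA := (normalIn_map_iff hf).2 h.nA
  ab := h.ab.map f
  hx := mem_map_of_mem f h.hx
  xp := by rw [← map_pow, h.xp, map_one]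
  sup := by
    rw [← MonoidHom.map_zpowers, ← Subgroup.map_sup]; exact map_mono h.sup
  der := by rw [← map_commutator, ← map_Om p A hf]; exact map_mono h.der

theorem ab_of_gen {x y z u v : G} (h : closure ({x, y, z} : Set G) = ⊤) (xp : x ^ p = 1)
    (yp : y ^ p = 1) (c : y * z = z * y) (hu : u ∈ zpowers z) (up : u ^ p = 1)
    (hv : v ∈ zpowers y) (e1 : x⁻¹ * y * x = y * u) (e2 : x⁻¹ * z * x = v * z) :
    AB p ⊤ (zpowers y ⊔ zpowers z) x := by
  have hy : y ∈ zpowers y ⊔ zpowers z := mem_sup_left (mem_zpowers y)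
  have hz : z ∈ zpowers y ⊔ zpowers z := mem_sup_right (mem_zpowers z)
  have ab : Abel (zpowers y ⊔ zpowers z) := (abel_zpowers y).sup (abel_zpowers z) (by
    rw [cent_zpowers, zpowers_le, mem_cent1]; exact c)
  have hn : x ∈ 𝐍 (zpowers y ⊔ zpowers z) := by
    rw [← inv_mem_iff]
    refine mem_norm_of_cj_le ?_
    rw [cj_sup, cj_zpowers, cj_zpowers, inv_inv, e1, e2]
    exact sup_le (zpowers_le.2 (mul_mem hy (mem_sup_right hu)))
      (zpowers_le.2 (mul_mem (mem_sup_left hv) hz))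
  have sup : (⊤ : Subgroup G) ≤ (zpowers y ⊔ zpowers z) ⊔ zpowers x := by
    rw [← h, closure_le]
    rintro a (rfl | rfl | rfl)
    · exact mem_sup_right (mem_zpowers _)
    · exact mem_sup_left hy
    · exact mem_sup_left hz
  have nA : (zpowers y ⊔ zpowers z) ⊴ ⊤ :=
    ⟨le_top, sup.trans (sup_le (le_norm_self _) (zpowers_le.2 hn))⟩
  refine ⟨nA, ab, mem_top x, xp, sup, ?_⟩
  haveI : (𝛀 p (zpowers y ⊔ zpowers z)).Normal := normalIn_top.1 (nA.Om p)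
  set f := QuotientGroup.mk' (𝛀 p (zpowers y ⊔ zpowers z)) with hf
  have k : ∀ a, f a = 1 ↔ a ∈ 𝛀 p (zpowers y ⊔ zpowers z) := fun a => QuotientGroup.eq_one_iff a
  have fy : f y = 1 := (k y).2 (mem_Om hy yp)
  have fv : f v = 1 := by
    obtain ⟨i, rfl⟩ := hv
    rw [map_zpow, fy, one_zpow]
  have xz : f x * f z = f z * f x := by
    have := congrArg f e2
    rw [map_mul, map_mul, map_mul, fv, one_mul, map_inv] at this
    calc f x * f z = f x * ((f x)⁻¹ * f z * f x) := by rw [this]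
      _ = _ := by group
  have cen : ∀ a, (∀ b ∈ ({x, y, z} : Set G), f a * f b = f b * f a) → ∀ b, f a * f b = f b * f a :=
    fun a ha b => by
      have : (⊤ : Subgroup G) ≤ (𝐂₁ (f a)).comap f := by
        rw [← h, closure_le]
        intro b hb
        exact mem_cent1.2 (ha b hb).symm
      exact (mem_cent1.1 (this (mem_top b))).symm
  refine commutator_le.2 fun a _ b _ => (k _).1 ?_
  rw [map_commutatorElement, commutatorElement_eq_one_iff_mul_comm]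
  refine cen a (fun d hd => (cen d ?_ a).symm) b
  rintro e (rfl | rfl | rfl) <;> rcases hd with rfl | rfl | rfl <;>
    first | rfl | exact xz | exact xz.symm | simp [fy]

theorem tri_top (hp : p.Prime) (h2 : p ≠ 2) (k : PiGrp {p} (⊤ : Subgroup G))
    (rk : pRank p (⊤ : Subgroup G) ≤ 2) : Meta (⊤ : Subgroup G) ∨ (∃ A x, AB p (⊤ : Subgroup G) A x) ∨
      (p = 3 ∧ MC p (⊤ : Subgroup G)) := by
  haveI := Fact.mk hp
  have e := k.card_eq
  rw [card_top'] at e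
  set n := logn p (Nat.card G) with hn
  rcases Cfsg.Agent.S3888.result h2 n e ((pRankLE_top_iff hp).2 rk) with h | ⟨n3, x, y, z, h, xp, yp,
    zp, xz, yz, e1⟩ | ⟨n4, s, x, y, z, -, h, xp, yp, zp, yz, e1, e2⟩ | ⟨p3, n2, h⟩
  · exact Or.inl (meta_top.2 h)
  · refine Or.inr (Or.inl ⟨_, _, ab_of_gen h xp yp yz (pow_mem (mem_zpowers z) _) ?_ (one_mem _) e1 ?_⟩)
    · rw [← pow_mul, ← pow_succ, show n - 3 + 1 = n - 2 by omega, zp]
    · rw [mul_assoc, ← xz]; group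
  · refine Or.inr (Or.inl ⟨_, _, ab_of_gen h xp yp yz (pow_mem (mem_zpowers z) _) ?_
      (mem_zpowers y) e1 e2⟩)
    rw [← pow_mul, mul_assoc, ← pow_succ, show n - 3 + 1 = n - 2 by omega, mul_comm, pow_mul, zp,
      one_pow]
  · by_cases n3 : 3 ≤ n
    · exact Or.inr (Or.inr ⟨p3, by rw [card_top']; exact n3, by rw [card_top']; exact h⟩)
    by_cases c : Cyc (⊤ : Subgroup G)
    · exact Or.inl (meta_of_cyc c)
    have l : logn p (♯(⊤ : Subgroup G)) ≤ 2 := by rw [card_top']; omega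
    obtain ⟨E, hE⟩ := exists_elem (two_le_pRank hp h2 k c)
    have e2 : E = ⊤ := k.eq_of_logn_le le_top (by rw [hE.log]; exact l)
    subst e2
    exact Or.inr (Or.inl ⟨⊤, 1, NormalIn.refl _, hE.abel, one_mem _, one_pow _, le_sup_left,
      by rw [der_eq_bot.2 hE.abel]; exact bot_le⟩)

theorem tri (hp : p.Prime) (h2 : p ≠ 2) (k : PiGrp {p} P) (rk : pRank p P ≤ 2) :
    Meta P ∨ (∃ A x, AB p P A x) ∨ (p = 3 ∧ MC p P) := by
  have k' : PiGrp {p} (⊤ : Subgroup P) := by unfold PiGrp; rw [card_top']; exact k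
  rcases tri_top hp h2 k' (by rw [pRank_coe]; exact rk) with h | ⟨A, x, h⟩ | ⟨e, h⟩
  · exact Or.inl (meta_iff.2 (meta_top.1 h))
  · have := h.map P.subtype_injective
    rw [map_top_subtype] at this
    exact Or.inr (Or.inl ⟨_, _, this⟩)
  · refine Or.inr (Or.inr ⟨e, ?_, ?_⟩)
    · have := h.1; rwa [card_top'] at this
    · have := h.2
      rw [card_top'] at this
      rw [← top_subtype_lowerCentralSeries]
      exact fun e => this ((map_eq_bot_iff_of_injective _ P.subtype_injective).1 e)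

theorem AB.logn_le (h : AB p P A x) (hp : p.Prime) : logn p (♯P) ≤ logn p (♯A) + 1 := by
  have h1 := logn_card_le (p := p) h.sup
  have h2 := logn_sup p (H := A) (K := zpowers x) (Or.inr (zpowers_le.2 (h.nA.norm h.hx)))
  have h3 := logn_le_one_of_cyc_exp hp (cyc_zpowers x) (abelem_zpowers hp h.xp).pow
  omega

theorem AB.cyc (h : AB p P A x) (hp : p.Prime) (h2 : p ≠ 2) (k : PiGrp {p} P) (rk : pRank p P ≤ 2)
    (na : ¬ Abel P) : Cyc (𝐙 P) := by
  by_contra c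
  obtain ⟨E, hE⟩ := exists_elem (two_le_pRank hp h2 (k.le inf_le_left) c)
  have m := (hE.mono inf_le_left).max_of_pRank rk
  have hx : x ∈ 𝐂 P := (hE.le (m.mem hp h.hx (cent_symm (hE.le.trans inf_le_right) h.hx) h.xp)).2
  exact na (Abel.mono (h.ab.sup (abel_zpowers x) (cent_symm
    ((zpowers_le.2 hx).trans (cent_anti h.nA.le)))) h.sup)

/-! ### control of transfer -/

theorem lcs_two_le_of_cyc (hp : p.Prime) (k : PiGrp {p} P) (c : Cyc ⁅P, P⁆) (hW : W ≤ P)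
    (d : ⁅P, P⁆ ≤ W) : P.lowerCentralSeries 2 ≤ 𝚽 W := by
  obtain ⟨a, ha⟩ := c.exists_gen
  have aW : a ∈ W := d (ha ▸ mem_zpowers a)
  have h1 : a ^ p ∈ 𝚽 W := (k.le hW).pow_mem_Phi aW
  have nW : P ≤ 𝐍 (𝚽 W) := le_norm_Phi (norm_of_der_le hW d)
  show ⁅⁅P, P⁆, P⁆ ≤ 𝚽 W
  rw [← ha, commutator_comm]
  have : P ≤ centMod (zpowers a) (𝚽 W) := fun b hb => by
    obtain ⟨t, ht⟩ := exists_conj_eq_zpow hp (k.elt (hW aW)) (k.elt hb)
      (ha ▸ norm_der P (le_norm_self P hb))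
    refine mem_centMod.2 ⟨nW hb, ?_⟩
    rintro u ⟨i, rfl⟩
    have : ⁅b, a ^ i⁆ = ((a ^ p) ^ t) ^ i := by
      rw [commutatorElement_def, ← conj_zpow, ht, ← zpow_natCast, ← zpow_mul, ← zpow_mul,
        ← zpow_mul, ← zpow_sub]
      congr 1; ring
    show ⁅b, a ^ i⁆ ∈ _
    rw [this]
    exact zpow_mem (zpow_mem h1 t) i
  exact (le_centMod.1 this).2

theorem lcs_two_le_of_small (k : PiGrp {p} P) (rk : pRank p P ≤ 2) (hW : W ⊴ P)
    (i : logn p (♯P) ≤ logn p (♯W) + 1) (h : 𝚽 W ≠ ⊥ → P.lowerCentralSeries 2 ≤ 𝚽 W) :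
    P.lowerCentralSeries 2 ≤ 𝚽 W := by
  by_cases e : 𝚽 W = ⊥
  · have := ((k.le hW.le).Phi_eq_bot.1 e).logn_le_pRank hW.le
    rw [lcs_eq_bot k (r := 1) (by omega)]
    exact bot_le
  · exact h e

theorem AB.logn_lcs (h : AB p P A x) (hp : p.Prime) (k : PiGrp {p} P) (rk : pRank p P ≤ 2) :
    logn p (♯(P.lowerCentralSeries 2)) ≤ 1 := by
  have h1 := ((h.ab.abelem_Om hp).le h.der).logn_le_pRank (der_le P)
  have h2 := logn_comm_le k (der_normal P)
  show logn p (♯⁅⁅P, P⁆, P⁆) ≤ 1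
  omega

theorem lcs_le_Phi (hp : p.Prime) (h2 : p ≠ 2) (k : PiGrp {p} (⊤ : Subgroup G))
    (rk : pRank p (⊤ : Subgroup G) ≤ 2) (hW : IsCoatom W) :
    (⊤ : Subgroup G).lowerCentralSeries (p - 1) ≤ 𝚽 W := by
  haveI := Fact.mk hp
  have kG : IsPGroup p G := k.isPGroup.of_equiv topEquiv
  have nW : W ⊴ ⊤ := normalIn_top.2 (CF.Fgs1.normal_of_isCoatom kG hW)
  have iW : W.relIndex ⊤ = p := by rw [relIndex_top_right]; exact CF.Fgs1.index_eq_of_isCoatom kG hW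
  have l := logn_relIndex_prime hp le_top iW
  have d : ⁅(⊤ : Subgroup G), ⊤⁆ ≤ W :=
    der_le_of_logn_le_two k nW.norm (by rw [iW, logn_self hp]; omega)
  have p3 : 2 ≤ p - 1 := by have := hp.two_le; omega
  have an : (⊤ : Subgroup G).lowerCentralSeries (p - 1) ≤ (⊤ : Subgroup G).lowerCentralSeries 2 :=
    Subgroup.lowerCentralSeries_antitone _ p3
  rcases tri_top hp h2 k rk with h | ⟨A, x, h⟩ | ⟨e, h⟩
  · exact an.trans (lcs_two_le_of_cyc hp k h.cyc_der le_top d)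
  · have l2 := h.logn_lcs hp k rk
    have c := cent_of_logn_le_one k (lcs_normal ⊤ 2) l2
    refine an.trans (lcs_two_le_of_small k rk nW l.le fun e => ?_)
    by_cases e2 : (⊤ : Subgroup G).lowerCentralSeries 2 = ⊥
    · rw [e2]; exact bot_le
    have na : ¬ Abel (⊤ : Subgroup G) := fun a => e2 (by
      show ⁅⁅(⊤ : Subgroup G), ⊤⁆, ⊤⁆ = ⊥
      rw [der_eq_bot.2 a, commutator_bot_left])
    have cy := h.cyc hp h2 k rk na
    have kZ : PiGrp {p} (𝐙 (⊤ : Subgroup G)) := k.le inf_le_left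
    have h3 := cy.Om_le kZ (le_inf le_top c) e2
    have h4 := cy.Om_le kZ inf_le_right (k.nil.inf_center_ne_bot nW.Phi e)
    have h5 := (cy.elem_Om' kZ (ne_bot_mono e2 (le_inf le_top c))).log
    rw [← (k.le le_top).eq_of_logn_le h3 (by omega)]
    exact h4.trans inf_le_left
  · refine an.trans (lcs_two_le_of_small k rk nW l.le fun e1 => lcs_le k nW.Phi (r := 1) ?_)
    by_cases n5 : 5 ≤ logn p (♯(⊤ : Subgroup G))
    · subst e
      have m : CF.Fgs2.MaxC 3 (logn 3 (♯(⊤ : Subgroup G))) G :=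
        ⟨by rw [← k.card_eq, card_top'], h.1, h.2⟩
      have h3 := CF.Fus.rank_two_of_maxC m n5 W
      have h4 : (𝚽 W).relIndex W = (frattini W).index := by
        rw [relIndex, subgroupOf, comap_map_eq_self_of_injective W.subtype_injective]
      have h5 := logn_card_eq_add (p := 3) (Phi_le W)
      have h6 : logn 3 ((𝚽 W).relIndex W) ≤ 2 := by
        have h7 := ((k.le (le_top : W ≤ ⊤)).relIndex (𝚽 W)).eq_pow_logn (relIndex_ne_zero' _ _)
        rw [← h4, h7] at h3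
        exact (Nat.pow_le_pow_iff_right (by norm_num)).1 h3
      omega
    · have := ((k.le (le_top : 𝚽 W ≤ ⊤)).logn_pos).2 e1
      omega

omit [Finite G] in
theorem iter_mem (x z : G) (n : ℕ) :
    (fun y : G => y⁻¹ * z⁻¹ * y * z)^[n] x ∈ (⊤ : Subgroup G).lowerCentralSeries n := by
  induction n with
  | zero => exact mem_top _
  | succ n ih =>
    rw [Function.iterate_succ_apply']
    have := commutator_mem_commutator (inv_mem ih) (mem_top z⁻¹)
    rwa [commutatorElement_def, inv_inv, inv_inv] at this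

/-- the normalizer of a Sylow subgroup of rank at most two controls transfer -/
theorem transfer [Fact p.Prime] (h2 : p ≠ 2) (S : Sylow p G) (rk : pRank p (S : Subgroup G) ≤ 2) :
    (S : Subgroup G) ⊓ _root_.commutator G =
      (S : Subgroup G) ⊓ ⁅𝐍 (S : Subgroup G), 𝐍 (S : Subgroup G)⁆ := by
  have hp : p.Prime := Fact.out
  by_contra h
  have k := (syl_sylow_top S).pi
  obtain ⟨x, hx, z, hz, W, hW, -, h1⟩ := CF.Fgs2.exists_iter_comm S (W := S) ⟨le_rfl, fun g hg =>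
    eq_of_card_eq hg (card_map (conj_inj g))⟩ h
  refine h1 ⟨(fun y : S => y⁻¹ * (⟨z, hz⟩ : S)⁻¹ * y * ⟨z, hz⟩)^[p - 1] ⟨x, hx⟩,
    lcs_le_Phi hp h2 (by unfold PiGrp; rw [card_top']; exact k) (by rw [pRank_coe]; exact rk) hW
      (iter_mem _ _ _), ?_⟩
  generalize p - 1 = n
  induction n with
  | zero => rfl
  | succ n ih =>
    rw [Function.iterate_succ_apply', Function.iterate_succ_apply', ← ih]
    rfl

theorem comm_eq_of_le_der (h : Syl p P (𝐍 P)) (e : P ≤ ⁅𝐍 P, 𝐍 P⁆) :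
    ∃ H, H ≤ 𝐍 P ∧ PiGrp {p}ᶜ H ∧ ⁅P, H⁆ = P := by
  obtain ⟨H, s, hH⟩ := h.exists_compl le_rfl
  refine ⟨H, s.norm, hH.pi, eq_of_le_sup_Phi (comm_le_left s.norm) ((le_inf le_rfl e).trans
    (h.focal fun x hx g hg _ => ?_))⟩
  rw [← s.sup] at hg
  obtain ⟨a, ha, b, hb, rfl⟩ := (mem_sup_norm' s.norm).1 hg
  have hy : b * x * b⁻¹ ∈ P := conj_mem_of_norm (s.norm hb) hx
  have : x⁻¹ * (a * b * x * (a * b)⁻¹) = ⁅x⁻¹, b⁆ * ⁅(b * x * b⁻¹)⁻¹, a⁆ := by
    simp only [commutatorElement_def]; group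
  rw [this]
  exact mul_mem (mem_sup_left (commutator_mem_commutator (inv_mem hx) hb))
    (mem_sup_right (h.pi.der_le_Phi (commutator_mem_commutator (inv_mem hy) ha)))

/-! ### the action of the complement -/

theorem cent_le_der (k : PiGrp {p} P) (n : H ≤ 𝐍 P) (kH : PiGrp {p}ᶜ H) (e : ⁅P, H⁆ = P) :
    P ⊓ 𝐂 H ≤ ⁅P, P⁆ := by
  have nP := (der_normal P).norm
  have nH := n.trans (norm_der P)
  have := (abel_qt_der P).comm_inf_cent (qt_norm _ n) (coprime_qt _ (PiNat.coprime' kH k))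
  rw [← qt_comm nP nH, e] at this
  refine (qt_eq_bot (inf_le_left.trans nP)).1 (eq_bot_mono this (le_inf (qt_mono _ inf_le_left) ?_))
  exact qt_cent _ inf_le_right

theorem AB.exp (h : AB p P A x) (hp : p.Prime) (h2 : p ≠ 2) (k : PiGrp {p} P) (rk : pRank p P ≤ 2)
    (na : ¬ Abel P) (n : H ≤ 𝐍 P) (kH : PiGrp {p}ᶜ H) (e : ⁅P, H⁆ = P) (hw : w ∈ 𝐙 P)
    (wH : w ∈ 𝐂 H) (w1 : w ≠ 1) (wp : w ^ p = 1) : ∀ g ∈ P, g ^ p = 1 := by
  have cy := h.cyc hp h2 k rk na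
  have kZ : PiGrp {p} (𝐙 P) := k.le inf_le_left
  have hZ : H ≤ 𝐂 (𝐙 P) := (center_abel P).cent_of_Om kZ (n.trans (norm_center P))
    (PiNat.coprime' kH kZ) (by
      rw [← cy.eq_Om (elem_zpowers' hp hw wp w1)]; exact cent_symm (zpowers_le.2 wH))
  have eO := (h.ab.abelem_Om hp).pow
  have dA : ⁅P, P⁆ ≤ A := h.der.trans (Om_le p A)
  have pw : ∀ a ∈ A, a ^ p ∈ 𝐙 P := fun a ha => by
    refine ⟨pow_mem (h.nA.le ha) p, cent_anti h.sup ?_⟩
    rw [cent_sup, cent_zpowers]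
    refine ⟨h.ab (pow_mem ha p), mem_cent1.2 ?_⟩
    have hc : ⁅x, a⁆ ∈ ⁅P, P⁆ := commutator_mem_commutator h.hx (h.nA.le ha)
    have h1 : x * a * x⁻¹ = ⁅x, a⁆ * a := by simp only [commutatorElement_def]; group
    have h3 : x * a ^ p * x⁻¹ = a ^ p := by
      rw [← conj_pow, h1, (show Commute ⁅x, a⁆ a from h.ab.mul_comm (dA hc) ha).mul_pow,
        eO _ (h.der hc), one_mul]
    rw [← mul_inv_eq_iff_eq_mul.1 h3]
  have fx : ∀ u ∈ 𝐙 P, ∀ b ∈ H, b * u * b⁻¹ = u := fun u hu b hb => by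
    rw [← mem_cent.1 (hZ hb) u hu]; group
  by_cases c : ⁅P, P⁆ ≤ 𝐂 P
  · have sm : SmallCl p P := Or.inl ⟨h2, c⟩
    have mp := fun u hu v hv =>
      sm.mul_pow_of_der_le hp k (h.der.trans (Om_mono p h.nA.le)) (u := u) (v := v) hu hv
    have pw' : ∀ g ∈ P, g ^ p ∈ 𝐙 P := fun g hg => by
      obtain ⟨a, ha, b, hb, rfl⟩ := (mem_sup_norm' (zpowers_le.2 (h.nA.norm h.hx))).1 (h.sup hg)
      rw [mp _ (h.nA.le ha) _ (zpowers_le.2 h.hx hb), (abelem_zpowers hp h.xp).pow b hb, mul_one]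
      exact pw a ha
    have : P ≤ 𝛀 p P := by
      rw [← e, commutator_comm]
      refine (commutator_le.2 fun b hb g hg => ?_).trans (by rw [commutator_comm, e])
      have hy : b * g * b⁻¹ ∈ P := conj_mem_of_norm (n hb) hg
      refine mem_Om (mul_mem hy (inv_mem hg)) ?_
      rw [commutatorElement_def, mp _ hy _ (inv_mem hg), conj_pow, fx _ (pw' g hg) b hb, inv_pow,
        mul_inv_cancel]
    exact fun g hg => sm.exp_Om hp k g (this hg)
  exfalso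
  have l := h.logn_le hp
  have hB : A = P ⊓ 𝐂 ⁅P, P⁆ := by
    have h1 : A ≤ P ⊓ 𝐂 ⁅P, P⁆ := le_inf h.nA.le (h.ab.cent le_rfl dA)
    have h3 : P ⊓ 𝐂 ⁅P, P⁆ < P := lt_of_le_of_ne inf_le_left fun e =>
      c (cent_symm (e.symm.le.trans inf_le_right))
    have := k.logn_lt h3
    exact (k.le inf_le_left).eq_of_logn_le h1 (by omega)
  have nA : H ≤ 𝐍 A := hB ▸ norm_inf_cent n (n.trans (norm_der P))
  have kA := k.le h.nA.le
  have h4 : A ≤ 𝛀 p A := by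
    refine (comm_sup_inf_cent nA (PiNat.coprime' kH kA) (Or.inr kA.sol)).symm.le.trans (sup_le ?_
      (((inf_le_inf_right _ h.nA.le).trans (cent_le_der k n kH e)).trans h.der))
    rw [commutator_comm]
    refine commutator_le.2 fun b hb g hg => ?_
    have hy : b * g * b⁻¹ ∈ A := conj_mem_of_norm (nA hb) hg
    refine mem_Om (mul_mem hy (inv_mem hg)) ?_
    rw [commutatorElement_def, (show Commute (b * g * b⁻¹) g⁻¹ from
      h.ab.mul_comm hy (inv_mem hg)).mul_pow, conj_pow, fx _ (pw g hg) b hb, inv_pow, mul_inv_cancel]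
  have h5 := ((h.ab.abelem_Om hp).le h4).logn_le_pRank h.nA.le
  exact c ((center_eq_der_of_logn_three k (by omega) na).1.symm.le.trans inf_le_right)

theorem line_act {L V : Subgroup G} {b : G} (h : Elem 3 1 L V) (hb : b ∈ 𝐍 L) :
    (∀ v ∈ L, b * v * b⁻¹ = v) ∨ ∀ v ∈ L, b * v * b⁻¹ = v⁻¹ := by
  classical
  obtain ⟨v, v1, hv, rfl⟩ := h.exists_gen
  have o := h.ab.orderOf hv v1
  have := conj_mem_of_norm hb hv
  rw [mem_zpowers_iff_mem_range_orderOf, o, Finset.mem_image] at this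
  obtain ⟨i, hi, e⟩ := this
  have h3 := h.ab.pow v hv
  have : i = 0 ∨ i = 1 ∨ i = 2 := by simp at hi; omega
  rcases this with rfl | rfl | rfl
  · exact absurd (by rw [pow_zero] at e; simpa using e.symm) v1
  · left
    rintro _ ⟨j, rfl⟩
    show b * v ^ j * b⁻¹ = v ^ j
    rw [← conj_zpow, ← e, pow_one]
  · right
    rintro _ ⟨j, rfl⟩
    show b * v ^ j * b⁻¹ = (v ^ j)⁻¹
    rw [← conj_zpow, ← e, ← inv_zpow, eq_inv_of_mul_eq_one_left (show v ^ 2 * v = 1 by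
      rw [← pow_succ, h3])]

theorem exists_inv {L V B : Subgroup G} (hV : Elem 3 2 V V) (n : B ≤ 𝐍 V) (kB : PiGrp {3}ᶜ B)
    (c : V ⊓ 𝐂 B = ⊥) (h : Elem 3 1 L V) (nL : B ≤ 𝐍 L) : ∃ t ∈ B, ∀ v ∈ V, t * v * t⁻¹ = v⁻¹ := by
  obtain ⟨M, d, nM⟩ := hV.ab.exists_compl_inv n h.le nL (PiNat.coprime' kB h.pi)
  have hM : Elem 3 1 M V := elem_one Nat.prime_three d.right_le (by
    have := d.card; rw [h.card, hV.card] at this; omega)
  have ex : ∀ {X}, Elem 3 1 X V → B ≤ 𝐍 X → ∃ b ∈ B, ∀ v ∈ X, b * v * b⁻¹ = v⁻¹ := fun hX nX => by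
    by_contra e
    push Not at e
    refine hX.ne_bot (eq_bot_mono c (le_inf hX.le fun v hv => mem_cent.2 fun b hb => ?_))
    rcases line_act hX (nX hb) with f | f
    · exact mul_inv_eq_iff_eq_mul.1 (f v hv)
    · obtain ⟨u, hu, e⟩ := e b hb
      exact absurd (f u hu) e
  have fin : ∀ t, (∀ v ∈ L, t * v * t⁻¹ = v⁻¹) → (∀ v ∈ M, t * v * t⁻¹ = v⁻¹) →
      ∀ v ∈ V, t * v * t⁻¹ = v⁻¹ := fun t h1 h2 v hv => by
    obtain ⟨a, ha, b, hb, rfl⟩ := d.sdprod.exists_mul hv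
    calc t * (a * b) * t⁻¹ = t * a * t⁻¹ * (t * b * t⁻¹) := by group
      _ = (b * a)⁻¹ := by rw [h1 a ha, h2 b hb, mul_inv_rev]
      _ = _ := by rw [hV.abel.mul_comm (h.le ha) (hM.le hb)]
  obtain ⟨a, ha, h1⟩ := ex h nL
  obtain ⟨b, hb, h2⟩ := ex hM nM
  rcases line_act hM (nM ha) with h3 | h3
  · rcases line_act h (nL hb) with h4 | h4
    · refine ⟨a * b, mul_mem ha hb, fin _ (fun v hv => ?_) fun v hv => ?_⟩
      · rw [← h1 v hv]; nth_rw 2 [← h4 v hv]; group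
      · rw [← h3 _ (inv_mem hv), ← h2 v hv]; group
    · exact ⟨b, hb, fin _ h4 h2⟩
  · exact ⟨a, ha, fin _ h1 h3⟩

omit [Finite G] in
theorem norm_lcs (P : Subgroup G) (i : ℕ) : 𝐍 P ≤ 𝐍 (P.lowerCentralSeries i) := by
  induction i with
  | zero => exact le_rfl
  | succ i ih => exact norm_commutator ih le_rfl

theorem mc_inv (k : PiGrp {3} P) (m : MC 3 P) (n4 : 4 ≤ logn 3 (♯P)) (n : H ≤ 𝐍 P)
    (kH : PiGrp {3}ᶜ H) (e : ⁅P, H⁆ = P) : ∃ t ∈ H, ∀ a ∈ P, t * a * t⁻¹ * a ∈ 𝚽 P := by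
  have hp := Nat.prime_three
  have zc := m.logn_center k
  have nc : ¬ Cyc P := fun c => by
    have := logn_card_le (p := 3) (le_inf le_rfl c.abel : P ≤ 𝐙 P); omega
  obtain ⟨E, hE, nE⟩ := exists_normal_elem_two hp (by norm_num) k nc
  have hn : logn 3 (♯P) - 3 + 1 = logn 3 (♯P) - 2 := by omega
  have e1 : P.lowerCentralSeries (logn 3 (♯P) - 4 + 1) = E := by
    refine hE.pi.eq_of_logn_le (lcs_le k nE (by rw [hE.log]; omega)) ?_
    rw [hE.log]
    exact le_logn_lcs k _ 1 (by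
      rw [show logn 3 (♯P) - 4 + 1 + 1 = logn 3 (♯P) - 2 by omega]; exact m.2)
  have nE' : H ≤ 𝐍 E := e1 ▸ n.trans (norm_lcs P _)
  have i := relIndex_cent_elem_two hE k nE.norm fun c => by
    have := logn_card_le (p := 3) (le_inf hE.le (cent_symm c) : E ≤ 𝐙 P)
    rw [hE.log] at this; omega
  have nM : P ⊓ 𝐂 E ⊴ P := normalIn_inf_cent nE.norm
  have i' : (P ⊓ 𝐂 E).relIndex P = 3 := by rw [inf_relIndex_left]; exact i
  have lM := logn_relIndex_prime hp inf_le_left i'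
  have hM : 𝚽 P ≤ P ⊓ 𝐂 E := (k.abelem_qt_iff nM.norm).1
    (abelem_of_card hp (by rw [card_qt nM.norm, i']))
  have l1 := logn_Phi k nc
  have l2 : logn 3 (♯P) - 3 + 1 ≤ logn 3 (♯⁅P, P⁆) := le_logn_lcs k 1 _ (by
    rw [show 1 + (logn 3 (♯P) - 3) = logn 3 (♯P) - 2 by omega]; exact m.2)
  have l3 := logn_card_le (p := 3) k.der_le_Phi
  have nP := (Phi_normal P).norm
  have nH := n.trans (norm_Phi P)
  have l4 := logn_qt (p := 3) (Phi_normal P)
  have l5 := logn_qt (p := 3) ((Phi_normal P).of_le hM inf_le_left)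
  have ab := k.abelem_qt_Phi
  obtain ⟨τ, hτ, h⟩ := exists_inv (V := qt (𝚽 P) P) (L := qt (𝚽 P) (P ⊓ 𝐂 E)) (B := qt (𝚽 P) H)
    ⟨le_rfl, ab, by omega⟩ (qt_norm _ n) (kH.qt _) (by
      have := ab.abel.comm_inf_cent (qt_norm _ n) (coprime_qt _ (PiNat.coprime' kH k))
      rwa [← qt_comm nP nH, e] at this)
    ⟨qt_mono _ inf_le_left, ab.le (qt_mono _ inf_le_left), by omega⟩ (qt_norm _ (norm_inf_cent n nE'))
  obtain ⟨t, ht, tn, rfl⟩ := mem_qt.1 hτ
  refine ⟨t, ht, fun a ha => ?_⟩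
  have h1 := nP (conj_mem_of_norm (n ht) ha)
  rw [← qe_eq_one (mul_mem h1 (nP ha)), qe_mul h1 (nP ha), qe_conj tn (nP ha),
    h _ (qe_mem_qt ha (nP ha)), inv_mul_cancel]

theorem mc_odd (k : PiGrp {3} P) (m : MC 3 P) {t : G} (n : t ∈ 𝐍 P) (kt : PiElt {3}ᶜ t)
    (h : ∀ a ∈ P, t * a * t⁻¹ * a ∈ 𝚽 P) (hw : w ∈ 𝐙 P) (wt : t * w * t⁻¹ = w) (w1 : w ≠ 1)
    (wp : w ^ 3 = 1) : Odd (logn 3 (♯P)) := by
  have hp := Nat.prime_three
  have nP := (Phi_normal P).norm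
  have nt : t ∈ 𝐍 (𝚽 P) := norm_Phi P n
  have n2 : zpowers (t ^ 2) ≤ 𝐍 P := zpowers_le.2 (pow_mem n 2)
  have c2 : zpowers (t ^ 2) ≤ 𝐂 P := by
    refine cent_of_comm_le_Phi n2 (PiNat.coprime' (kt.pow 2).zpowers k) ?_
    rw [commutator_comm]
    refine (le_centMod.1 (zpowers_le.2 (mem_centMod.2 ⟨pow_mem nt 2, fun a ha => ?_⟩))).2
    have h1 := h _ (conj_mem_of_norm n ha)
    have h2 := h a ha
    have : ⁅t ^ 2, a⁆ = t * (t * a * t⁻¹) * t⁻¹ * (t * a * t⁻¹) * (a * (t * a * t⁻¹ * a) * a⁻¹)⁻¹ := by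
      simp only [commutatorElement_def, pow_two]; group
    rw [this]
    exact mul_mem h1 (inv_mem (conj_mem_of_norm (nP ha) h2))
  let φ : P →* P := (P.normalizerMonoidHom ⟨t, n⟩ : MulAut P).toMonoidHom
  have hφ : ∀ a : P, (φ a : G) = t * a * t⁻¹ := fun a => rfl
  have cp : ∀ a : P, a ^ (♯P - 1) = a⁻¹ := fun a => eq_inv_of_mul_eq_one_left (by
    rw [← pow_succ, Nat.sub_add_cancel (card_pos' P), pow_card_eq_one'])
  have gen : closure {a : P | φ a = a ^ (♯P - 1)} = ⊤ := by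
    refine map_injective P.subtype_injective ?_
    rw [map_top_subtype]
    refine eq_of_le_sup_Phi (map_subtype_le _) fun a ha => ?_
    have h1 : a⁻¹ * (t * a * t⁻¹) ∈ P := mul_mem (inv_mem ha) (conj_mem_of_norm n ha)
    have h2 : a = a⁻¹ * (t * a * t⁻¹) * (a * (t * a * t⁻¹ * a)⁻¹ * a⁻¹ * a ^ 3) := by group
    rw [h2]
    refine mul_mem (mem_sup_left ⟨⟨_, h1⟩, subset_closure ?_, rfl⟩) (mem_sup_right (mul_mem
      (conj_mem_of_norm (nP ha) (inv_mem (h a ha))) (k.pow_mem_Phi ha)))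
    show φ _ = _
    rw [cp]
    refine Subtype.ext ?_
    have h3 := mem_cent.1 (c2 (mem_zpowers _)) a ha
    show t * (a⁻¹ * (t * a * t⁻¹)) * t⁻¹ = (a⁻¹ * (t * a * t⁻¹))⁻¹
    calc _ = t * a⁻¹ * t⁻¹ * (t ^ 2 * a * (t ^ 2)⁻¹) := by simp only [pow_two]; group
      _ = _ := by rw [← h3]; group
  have hl : w ∈ P.lowerCentralSeries (logn 3 (♯P) - 2) := m.center_eq k ▸ hw
  rw [← top_subtype_lowerCentralSeries] at hl
  obtain ⟨u, hu, rfl⟩ := hl
  have h3 := CF.Fgs2.scalar_lcs φ gen (fun s hs => hs) _ u hu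
  have hb : CF.Fgs2.LC P (logn 3 (♯P) - 2 + 1) = ⊥ := by
    have := lcs_eq_bot k (r := logn 3 (♯P) - 2) (by omega)
    rw [← top_subtype_lowerCentralSeries] at this
    exact (map_eq_bot_iff_of_injective _ P.subtype_injective).1 this
  rw [← QuotientGroup.mk_pow, QuotientGroup.eq, hb, mem_bot, inv_mul_eq_one,
    show φ u = u from Subtype.ext wt] at h3
  have o : orderOf u = 3 := orderOf_eq_of_pow hp (Subtype.ext wp) fun e => w1 (by rw [e]; rfl)
  have h4 : 1 ≡ (♯P - 1) ^ (logn 3 (♯P) - 2 + 1) [MOD 3] := by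
    have := pow_eq_pow_iff_modEq.1 ((pow_one u).trans h3)
    rwa [o] at this
  have h5 : ♯P - 1 ≡ 2 [MOD 3] := by
    have h6 : 3 ∣ ♯P := (logn_pos (card_ne_zero' P)).1 (by have := m.1; omega) |>.2
    have := card_pos' P
    unfold Nat.ModEq; omega
  by_contra h7
  obtain ⟨j, hj⟩ : Odd (logn 3 (♯P) - 2 + 1) := by
    obtain ⟨j, hj⟩ := Nat.not_odd_iff_even.1 h7
    have := m.1
    exact ⟨j - 1, by omega⟩
  have h8 := h4.trans (h5.pow _)
  rw [hj, pow_succ, pow_mul] at h8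
  have h9 : (2 ^ 2) ^ j * 2 ≡ 1 ^ j * 2 [MOD 3] := ((show 2 ^ 2 ≡ 1 [MOD 3] by decide).pow j).mul_right 2
  rw [one_pow] at h9
  exact absurd (h8.trans h9) (by decide)

theorem core (hp : p.Prime) (h2 : p ≠ 2) (k : PiGrp {p} P) (rk : pRank p P ≤ 2) (n : H ≤ 𝐍 P)
    (kH : PiGrp {p}ᶜ H) (e : ⁅P, H⁆ = P) (hw : w ∈ 𝐙 P) (wH : w ∈ 𝐂 H) (w1 : w ≠ 1)
    (wp : w ^ p = 1) : (¬ Abel P ∧ logn p (♯P) = 3 ∧ ∀ g ∈ P, g ^ p = 1) ∨
      (p = 3 ∧ MC p P ∧ 4 ≤ logn p (♯P) ∧ Odd (logn p (♯P))) := by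
  have na : ¬ Abel P := fun a =>
    w1 (eq_one_of_mem_bot (der_eq_bot.2 a) (cent_le_der k n kH e ⟨hw.1, wH⟩))
  have n3 : ¬ logn p (♯P) ≤ 2 := fun l => na (abel_of_logn_le_two k l)
  have ab : ∀ A x, AB p P A x → ¬ Abel P ∧ logn p (♯P) = 3 ∧ ∀ g ∈ P, g ^ p = 1 := fun A x h => by
    have h1 := h.exp hp h2 k rk na n kH e hw wH w1 wp
    have := logn_le_three_of_exp hp k rk h1
    exact ⟨na, by omega, h1⟩
  rcases tri hp h2 k rk with h | ⟨A, x, h⟩ | ⟨p3, h⟩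
  · exact absurd (h.abel_of_comm_eq hp h2 k n kH e) na
  · exact Or.inl (ab A x h)
  by_cases n4 : 4 ≤ logn p (♯P)
  · subst p3
    obtain ⟨t, ht, h1⟩ := mc_inv k h n4 n kH e
    exact Or.inr ⟨rfl, h, n4, mc_odd k h (n ht) (kH.elt ht) h1 hw
      (mul_inv_eq_iff_eq_mul.2 (mem_cent.1 wH t ht)) w1 wp⟩
  by_cases o : logn p (♯(𝛀 p P)) ≤ 2
  · have nc : ¬ Cyc P := fun c => na c.abel
    obtain ⟨c1, c2⟩ := center_eq_der_of_logn_three k (by omega) na
    exact absurd ((meta_of_der_le hp h2 k (c1.symm.le.trans inf_le_right) c2.le (k.le (der_le P))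
      le_rfl o).abel_of_comm_eq hp h2 k n kH e) na
  · have h1 : 𝛀 p P = P := k.eq_of_logn_le (Om_le p P) (by omega)
    have sm : SmallCl p P :=
      Or.inl ⟨h2, (center_eq_der_of_logn_three k (by omega) na).1.symm.le.trans inf_le_right⟩
    exact Or.inl ⟨na, by omega, fun g hg => sm.exp_Om hp k g (h1.symm ▸ hg)⟩

/-- a perfect group of `p`-rank at most two whose Sylow normalizer centralizes an element of
order `p` -/
theorem main [Fact p.Prime] (h2 : p ≠ 2) (hG : _root_.commutator G = ⊤) (S : Sylow p G)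
    (rk : pRank p (S : Subgroup G) ≤ 2) (hw : w ∈ (S : Subgroup G)) (o : orderOf w = p)
    (c : 𝐍 (S : Subgroup G) ≤ 𝐂₁ w) :
    (Cfsg.IsExtraspecial p (S : Subgroup G) ∧ ♯(S : Subgroup G) = p ^ 3 ∧
      ∀ y ∈ (S : Subgroup G), y ^ p = 1) ∨ (p = 3 ∧ ∃ k : ℕ, 2 ≤ k ∧ ♯(S : Subgroup G) = 3 ^ (2 * k + 1) ∧
      ∃ _ : Group.IsNilpotent (S : Subgroup G), Group.nilpotencyClass (S : Subgroup G) = 2 * k) := by
  have hp : p.Prime := Fact.out
  have s := syl_sylow_top S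
  have h := transfer h2 S rk
  rw [hG, inf_top_eq] at h
  obtain ⟨H, n, kH, e⟩ := comm_eq_of_le_der (s.of_le (le_norm_self _) le_top) (h.le.trans inf_le_right)
  have w1 : w ≠ 1 := fun e => hp.one_lt.ne (by rw [← o, e, orderOf_one])
  rcases core hp h2 s.pi rk n kH e ⟨hw, le_cent1_iff.1 ((le_norm_self _).trans c)⟩
    (le_cent1_iff.1 (n.trans c)) w1 (o ▸ pow_orderOf_eq_one w) with ⟨na, l, h1⟩ | ⟨p3, m, n4, j, hj⟩
  · have hc : ♯(S : Subgroup G) = p ^ 3 := by rw [s.pi.card_eq, l]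
    exact Or.inl ⟨CF.Fus.extraspecial_of_cube hc fun a => na (Abel.of_comm a), hc, h1⟩
  · subst p3
    have hc : ♯(S : Subgroup G) = 3 ^ (2 * j + 1) := by rw [s.pi.card_eq, hj]
    refine Or.inr ⟨rfl, j, by omega, hc, s.pi.nil, ?_⟩
    refine (CF.Fgs2.nilpotencyClass_eq_iff hc (by omega)).2 fun e => m.2 ?_
    rw [← top_subtype_lowerCentralSeries, hj, e, Subgroup.map_bot]

end CF.IsoR2
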