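import Mathlib
import Cfsg.Agent.Fgs1.Blk2
import Cfsg.Agent.BG2.P4c
import Cfsg.Agent.Fus.Pearl
import Cfsg.Agent.Transfer.Tate

/-! Groups with a Sylow subgroup of maximal class. -/

set_option autoImplicit false

namespace CF.McS

open Subgroup CF.BG CF.BG2 CF.Blk
open CF.Fgs2 (LC MaxC twoStep)
open scoped commutatorElement

universe u

section Uniform

variable {G : Type*} [Group G] [Finite G] {p n : ℕ}

theorem exists_notMem [hp : Fact p.Prime] (hG : IsPGroup p G) {ι : Type*}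
    (s : Finset ι) (K : ι → Subgroup G) (hK : ∀ i ∈ s, K i ≠ ⊤) (hs : s.card ≤ p) :
    ∃ g, ∀ i ∈ s, g ∉ K i := by
  classical
  rcases s.eq_empty_or_nonempty with rfl | ⟨j, hj⟩
  · exact ⟨1, by simp⟩
  by_contra hc
  push Not at hc
  letI := Fintype.ofFinite G
  have h1 : (Finset.univ.erase 1 : Finset G) ⊆
      s.biUnion fun i => (Finset.univ.filter (· ∈ K i)).erase 1 := by
    intro g hg
    obtain ⟨i, hi, hg'⟩ := hc g
    simp only [Finset.mem_biUnion, Finset.mem_filter, Finset.mem_univ, true_and, Finset.mem_erase]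
    exact ⟨i, hi, (Finset.mem_erase.1 hg).1, hg'⟩
  have h2 := (Finset.card_le_card h1).trans Finset.card_biUnion_le
  have h3 : ∀ i ∈ s, p * ((Finset.univ.filter (· ∈ K i)).erase 1).card ≤ Nat.card G - p := by
    intro i hi
    have := Nat.le_of_dvd Nat.card_pos (CF.Fgs2.mul_card_dvd_of_lt hG (lt_top_iff_ne_top.2 (hK i hi)))
    rw [card_top] at this
    have e : (Finset.univ.filter (· ∈ K i)).card = Nat.card (K i) := by
      rw [Nat.card_eq_fintype_card, Fintype.card_subtype]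
    rw [Finset.card_erase_of_mem (by simp), e, Nat.mul_sub, mul_one, mul_comm]
    omega
  have h4 : p * ∑ i ∈ s, ((Finset.univ.filter (· ∈ K i)).erase 1).card ≤ s.card * (Nat.card G - p) := by
    rw [Finset.mul_sum]
    exact (Finset.sum_le_card_nsmul _ _ _ h3).trans (le_of_eq (smul_eq_mul _ _))
  rw [Finset.card_erase_of_mem (Finset.mem_univ _), Finset.card_univ, ← Nat.card_eq_fintype_card] at h2
  have h5 : p ≤ Nat.card G := by
    have := Nat.le_of_dvd Nat.card_pos (CF.Fgs2.mul_card_dvd_of_lt hG (lt_top_iff_ne_top.2 (hK j hj)))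
    rw [card_top] at this
    have h6 : 0 < Nat.card (K j) := Nat.card_pos
    nlinarith
  have h6 := hp.out.two_le
  have h7 := (Nat.mul_le_mul_left p h2).trans (h4.trans (Nat.mul_le_mul_right _ hs))
  have := Nat.le_of_mul_le_mul_left h7 (by omega)
  omega

theorem twoStep_le [hp : Fact p.Prime] (h : MaxC p n G) {i : ℕ} (hi : 1 ≤ i) (hn : i + p - 1 ≤ n - 3) :
    twoStep (LC G (i + p - 1)) (LC G (i + p - 1 + 2)) ≤ twoStep (LC G i) (LC G (i + 2)) := by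
  have hp2 := hp.out.two_le
  obtain ⟨M, -, -, -, -, hM⟩ := h.exists_fund (by omega)
  obtain ⟨q, hq⟩ : ∃ q, p = q + 2 := ⟨p - 2, by omega⟩
  intro s hs x hx
  have b0 := CF.Fus.comm_LC_self h hi
  have b1 : ∀ g ∈ ⁅LC G i, LC G i⁆, g ^ p ∈ LC G (i + 1 + p) := fun g hg =>
    CF.Fgs2.LC_anti (by omega) (h.pow_mem_LC (by omega) g (b0 hg))
  have b2 : (LC G i).lowerCentralSeries (p - 1) ≤ LC G (i + 1 + p) := by
    rw [show p - 1 = q + 1 by omega]
    exact (CF.Fgs2.lcs_le_LC le_rfl b0 q).trans (CF.Fgs2.LC_anti (by nlinarith))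
  have hy : ⁅x, s⁆ ∈ LC G (i + 1) := CF.Fgs2.comm_mem_LC_succ hx s
  have h1 := CF.Fgs2.pow_comm_congr hp.out b1 b2 (inv_mem hx) (s := s)
    (by rw [inv_inv]; exact CF.Fgs2.LC_anti (by omega) hy)
  have h2 := hs _ (h.pow_mem_LC hi x hx)
  rw [show i + p - 1 + 2 = i + 1 + p by omega] at h2
  rw [inv_inv, inv_pow, inv_inv, mul_mem_cancel_right h2, inv_mem_iff] at h1
  by_contra h3
  exact hM (i + 1) (by omega) (by omega) _ hy h3 h1

theorem exists_uniform [hp : Fact p.Prime] (h : MaxC p n G) {T : Subgroup G} (h1 : T ≠ ⊤)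
    (h2 : LC G 1 ≤ T) : ∃ x, x ∉ T ∧ logn p (♯(𝐂₁ x)) ≤ 2 := by
  classical
  have hp2 := hp.out.two_le
  have h3 := h.three
  obtain ⟨x, hx⟩ := exists_notMem h.isP ((Finset.range p).filter fun i => i ≤ n - 3)
    (fun i => if i = 0 then T else twoStep (LC G i) (LC G (i + 2))) (by
      intro i hi
      split_ifs with h0
      · exact h1
      · exact h.twoStep_ne_top (h.ne_bot_iff.2 (by simp at hi; omega)))
    ((Finset.card_filter_le _ _).trans (by simp))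
  have xT : x ∉ T := by simpa using hx 0 (by simp; omega)
  have key : ∀ i, 1 ≤ i → i ≤ n - 3 → x ∉ twoStep (LC G i) (LC G (i + 2)) := by
    intro i
    induction i using Nat.strong_induction_on with
    | _ i ih =>
      intro a b
      by_cases c : i < p
      · have := hx i (by simp; omega)
        rwa [if_neg (by omega)] at this
      · have := twoStep_le h (i := i - p + 1) (by omega) (by omega)
        rw [show i - p + 1 + p - 1 = i by omega] at this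
        exact fun e => ih _ (by omega) (by omega) (by omega) (this e)
  refine ⟨x, xT, ?_⟩
  have k := piGrp_top hp.out h.isP
  have a1 : 𝐂₁ x ⊓ LC G 1 ≤ LC G (n - 2) := by
    rintro c ⟨hc, hc1⟩
    have : ∀ i, i ≤ n - 3 → c ∈ LC G (i + 1) := by
      intro i
      induction i with
      | zero => exact fun _ => hc1
      | succ i ih =>
        intro hi
        by_contra e
        exact key (i + 1) (by omega) hi (h.mem_twoStep_of (by omega) (ih (by omega)) e (by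
          rw [commutatorElement_eq_one_iff_mul_comm.2 (mem_cent1.1 hc)]; exact one_mem _))
    have := this (n - 3) le_rfl
    rwa [show n - 3 + 1 = n - 2 by omega] at this
  have a2 : 𝐂₁ x ⊔ LC G 1 ≠ ⊤ := fun e => h.leftCent_ne_top (fun e => xT (h2 e)) (by
    refine eq_top_iff.2 (e.symm.le.trans ?_)
    refine sup_le (fun c hc y hy => ?_) fun c hc y _ => ?_
    · rw [commutatorElement_eq_one_iff_mul_comm.2 (mem_cent.1 (cent_zpowers x ▸ hc) y hy)]
      exact one_mem _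
    · rw [← commutatorElement_inv]
      exact inv_mem (CF.Fgs2.comm_mem_LC_succ hc y))
  have l1 := k.logn_lt (lt_top_iff_ne_top.2 a2)
  have l2 := logn_card_le (p := p) a1
  have l3 := logn_sup p (H := 𝐂₁ x) (K := LC G 1) (Or.inl (le_top.trans (lcs_normal ⊤ 1).norm))
  rw [card_top', h.card, logn_pow hp.out] at l1
  rw [h.card_LC (by omega) (by omega), logn_pow hp.out] at l2
  rw [h.card_LC (r := 1) le_rfl (by omega), logn_pow hp.out] at l3
  omega

end Uniform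

variable {G : Type u} [Group G] [Finite G] {p : ℕ} {D K L M N P T Y : Subgroup G} {x : G}

theorem relIndex_cent1_le (h : ∀ g ∈ D, ⁅g, x⁆ ∈ K) : (𝐂₁ x).relIndex D ≤ ♯K := by
  refine Nat.card_le_card_of_injective (fun q : D ⧸ (𝐂₁ x).subgroupOf D =>
    (⟨⁅(q.out : G), x⁆, h _ q.out.2⟩ : K)) fun a b e => ?_
  rw [← a.out_eq', ← b.out_eq', QuotientGroup.eq, mem_subgroupOf, mem_cent1]
  have e := congrArg Subtype.val e
  simp only [commutatorElement_def, mul_left_inj] at e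
  simp only [coe_mul, coe_inv]
  calc _ = (a.out : G)⁻¹ * ((b.out : G) * x * (b.out : G)⁻¹) * b.out := by group
    _ = _ := by rw [← e]; group

theorem logn_qt_cent (hp : p.Prime) (k : PiGrp {p} P) (hK : K ⊴ P) (hx : x ∈ P) :
    logn p (♯(qt K P ⊓ 𝐂₁ (qe K x))) ≤ logn p (♯(P ⊓ 𝐂₁ x)) := by
  set D := qp K (qt K P ⊓ 𝐂₁ (qe K x)) with hD
  have h1 : D ≤ P := qp_le_of_le_qt hK inf_le_left
  have h2 : (𝐂₁ x).relIndex D ≤ ♯K := relIndex_cent1_le fun g hg => by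
    have gn := hK.norm (h1 hg)
    have xn := hK.norm hx
    rw [← qe_eq_one (hK.norm (der_le P (commutator_mem_commutator (h1 hg) hx))), qe_comm gn xn,
      commutatorElement_eq_one_iff_mul_comm]
    exact mem_cent1.1 (mem_qp.1 hg).2.2
  have h3 := logn_inf_add (p := p) (𝐂₁ x) D
  have h4 := logn_qp (p := p) (qt K P ⊓ 𝐂₁ (qe K x))
  have h5 := logn_card_le (p := p) (le_inf (inf_le_right.trans h1) inf_le_left : 𝐂₁ x ⊓ D ≤ P ⊓ 𝐂₁ x)
  have h6 : logn p ((𝐂₁ x).relIndex D) ≤ logn p (♯K) := by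
    rw [(k.le hK.le).card_eq, ((k.le h1).relIndex _).eq_pow_logn (relIndex_ne_zero' _ _)] at h2
    exact (Nat.pow_le_pow_iff_right hp.one_lt).1 h2
  rw [← hD] at h4
  omega

theorem logn_cent_aux (hp : p.Prime) (m : ℕ) : ∀ {G : Type u} [Group G] [Finite G]
    {L P : Subgroup G} {x : G}, ♯P < m → Syl p P L → x ∈ P → x ∉ ⁅L, L⁆ →
      logn p (♯(P ⊓ 𝐂₁ x)) ≤ 2 → logn p (♯(L ⊓ 𝐂₁ x)) ≤ 2 := by
  induction m with
  | zero => intro G _ _ L P x h; omega
  | succ m ih =>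
  intro G _ _ L P x hm s hx xd l
  have k := s.pi
  by_cases a : x ∈ 𝐂 P
  · rw [inf_eq_left.2 (le_cent1_iff.2 a), s.logn_eq rfl] at l
    exact (logn_card_le inf_le_left).trans l
  have na : ¬ Abel P := fun e => a (e hx)
  by_contra hl
  have xX : x ∈ P ⊓ 𝐂₁ x := ⟨hx, self_mem_cent1 x⟩
  have zX : 𝐙 P < P ⊓ 𝐂₁ x := lt_of_le_of_ne (inf_le_inf_left _ (cent_le_cent1 hx))
    fun e => a (e.symm ▸ xX : x ∈ 𝐙 P).2
  have kX : PiGrp {p} (P ⊓ 𝐂₁ x) := k.inf_left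
  have lz := kX.logn_lt zX
  have dz := k.nil.inf_center_ne_bot (der_normal P) fun e => na (der_eq_bot.1 e)
  have zd : 𝐙 P ≤ ⁅L, L⁆ := by
    have h1 := (k.le (inf_le_right.trans inf_le_left : ⁅P, P⁆ ⊓ 𝐙 P ≤ P)).logn_pos.2 dz
    rw [← (k.le inf_le_left).eq_of_logn_le (inf_le_right : ⁅P, P⁆ ⊓ 𝐙 P ≤ _) (by omega)]
    exact inf_le_left.trans (der_mono s.le)
  have lz1 := (k.le (inf_le_left : 𝐙 P ≤ P)).logn_pos.2 (ne_bot_mono dz inf_le_right)
  have eX : 𝐙 P ⊔ zpowers x = P ⊓ 𝐂₁ x := by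
    have h1 : 𝐙 P ⊔ zpowers x ≤ P ⊓ 𝐂₁ x := sup_le zX.le (zpowers_le.2 xX)
    have h2 : 𝐙 P < 𝐙 P ⊔ zpowers x := lt_of_le_of_ne le_sup_left fun e =>
      a (e.symm ▸ (mem_sup_right (mem_zpowers x)) : x ∈ 𝐙 P).2
    have := (kX.le h1).logn_lt h2
    exact kX.eq_of_logn_le h1 (by omega)
  obtain ⟨Y₀, s0, h0⟩ := exists_syl_le (inf_le_inf_right _ s.le : (P ⊓ 𝐂₁ x) ≤ L ⊓ 𝐂₁ x) kX
  have l0 := s0.logn_eq rfl
  have hY := s0.pi.nil.lt_inf_norm (lt_of_le_of_ne h0 fun e => by rw [← e] at l0; omega)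
  set Y := Y₀ ⊓ 𝐍 (P ⊓ 𝐂₁ x)
  have kY : PiGrp {p} Y := s0.pi.inf_left
  have lY := kY.logn_lt hY
  have YL : Y ≤ L ⊓ 𝐂₁ x := inf_le_left.trans s0.le
  have nX : (P ⊓ 𝐂₁ x) ⊴ Y := ⟨hY.le, inf_le_right⟩
  by_cases c : Y ≤ 𝐂 (P ⊓ 𝐂₁ x)
  swap
  · have h1 := logn_comm_le kY nX
    have h2 := cent_of_logn_le_one kY (comm_normalIn nX) (by omega)
    have h3 : (P ⊓ 𝐂₁ x) ⊓ 𝐂 Y < (P ⊓ 𝐂₁ x) := lt_of_le_of_ne inf_le_left fun e =>
      c (cent_symm (e.symm.le.trans inf_le_right))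
    have h4 := kX.logn_lt h3
    have h5 := (kX.le (comm_le_left nX.norm)).logn_pos.2 fun e => c (comm_eq_bot'.1 e)
    have h6 := (kX.le inf_le_left).eq_of_logn_le (le_inf (comm_le_left nX.norm) h2) (by omega)
    have h7 : x ∈ (P ⊓ 𝐂₁ x) ⊓ 𝐂 Y := ⟨xX, le_cent1_iff.1 (YL.trans inf_le_right)⟩
    rw [← h6] at h7
    exact xd (commutator_mono (inf_le_left.trans s.le) (YL.trans inf_le_left) h7)
  have PC : P ≤ L ⊓ 𝐂 (𝐙 P) := le_inf s.le (cent_symm inf_le_right)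
  have nZ : 𝐙 P ⊴ L ⊓ 𝐂 (𝐙 P) := ⟨inf_le_left.trans PC, inf_le_right.trans (cent_le_norm _)⟩
  have nP := center_normal P
  have h1 := ih (L := qt (𝐙 P) (L ⊓ 𝐂 (𝐙 P))) (P := qt (𝐙 P) P) (x := qe (𝐙 P) x)
    (by have := card_qt_lt nP (ne_bot_mono dz inf_le_right); omega)
    ((s.of_le PC inf_le_left).qt nZ.norm) (qe_mem_qt hx (nP.norm hx)) (fun e => xd (by
      rw [← qt_comm nZ.norm nZ.norm] at e
      exact (qe_mem_qt_iff (nP.norm hx) zd).1 (qt_mono _ (der_mono inf_le_left) e)))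
    ((logn_qt_cent hp k nP hx).trans l)
  set D := qp (𝐙 P) (qt (𝐙 P) (L ⊓ 𝐂 (𝐙 P)) ⊓ 𝐂₁ (qe (𝐙 P) x)) with hD
  have lD : logn p (♯D) ≤ 3 := by rw [hD, logn_qp]; omega
  have YC : Y ≤ L ⊓ 𝐂 (𝐙 P) := le_inf (YL.trans inf_le_left) (c.trans (cent_anti zX.le))
  have YD : Y ≤ D := (qt_le_iff (YC.trans nZ.norm)).1 (le_inf (qt_mono _ YC) (by
    rw [← cent_zpowers, ← qt_zpowers (nP.norm hx)]
    exact qt_cent _ (by rw [cent_zpowers]; exact YL.trans inf_le_right)))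
  have nD : D ≤ 𝐍 (P ⊓ 𝐂₁ x) := by
    rw [← eX, ← qp_qt (zpowers_le.2 (nP.norm hx)), qt_zpowers (nP.norm hx)]
    exact qp_norm (inf_le_right.trans ((cent_zpowers _).symm.le.trans (cent_le_norm _)))
  have hR := k.nil.lt_inf_norm (lt_of_le_of_ne (inf_le_left : (P ⊓ 𝐂₁ x) ≤ P) fun e =>
    a (le_cent1_iff.1 (e.symm.le.trans inf_le_right)))
  have RD : P ⊓ 𝐍 (P ⊓ 𝐂₁ x) ≤ D := (qt_le_iff (inf_le_left.trans nP.norm)).1 (le_inf
    (qt_mono _ (inf_le_left.trans PC)) (by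
      have h2 := logn_qt (p := p) (nP.of_le zX.le inf_le_left)
      have h3 := cent_of_logn_le_one ((k.le (inf_le_left : P ⊓ 𝐍 (P ⊓ 𝐂₁ x) ≤ P)).qt (𝐙 P))
        ((⟨hR.le, inf_le_right⟩ : (P ⊓ 𝐂₁ x) ⊴ P ⊓ 𝐍 (P ⊓ 𝐂₁ x)).qt _) (by omega)
      exact le_cent1_iff.2 (h3 (qe_mem_qt xX (nP.norm hx)))))
  obtain ⟨g, hg, h2⟩ := (syl_of_logn YD kY (by omega)).syl_le_cj RD k.inf_left
  have h3 := h2.trans (cj_le_of_norm ((normalIn_inf_cent nD).norm hg) (le_inf YD c))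
  exact hR.not_ge (le_inf inf_le_left (h3.trans (inf_le_right.trans (cent_le_cent1 xX))))

theorem logn_cent (hp : p.Prime) (s : Syl p P L) (hx : x ∈ P) (xd : x ∉ ⁅L, L⁆)
    (l : logn p (♯(P ⊓ 𝐂₁ x)) ≤ 2) : logn p (♯(L ⊓ 𝐂₁ x)) ≤ 2 :=
  logn_cent_aux hp _ (Nat.lt_succ_self _) s hx xd l

theorem le_of_constrained (hp : p.Prime) (s : Syl p P ⊤) (hM : M ⊴ ⊤) (kM : PiGrp {p} M)
    (c : 𝐂 M ≤ M) (hx : x ∈ P) (xM : x ∉ M) (l : logn p (♯(P ⊓ 𝐂₁ x)) ≤ 2) (kY : PiGrp {p} Y)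
    (hY : Y ≤ 𝐂₁ x) : Y ≤ P := by
  have k := s.pi
  have MP := s.le_of_normal hM kM
  have key : ∀ A, A ≤ P ⊔ Y → PiGrp {p}ᶜ A → A ≤ 𝐂 M := fun A hA kA => by
    obtain ⟨K, -, ⟨h1, h2, h3⟩, mx⟩ := exists_maximal
      (P := fun K => K ≤ M ∧ P ⊔ Y ≤ 𝐍 K ∧ A ≤ 𝐂 K) (H := ⊥)
      ⟨bot_le, (NormalIn.bot _).norm, by simp⟩
    by_contra e
    have nP : P ≤ 𝐍 K := le_sup_left.trans h2
    have nY : Y ≤ 𝐍 K := le_sup_right.trans h2
    have nM : M ≤ 𝐍 K := MP.trans nP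
    have hb : qt K M ≠ ⊥ := fun e' => e (h3.trans (cent_anti ((qt_eq_bot nM).1 e')))
    have l1 := (logn_qt_cent hp k ⟨h1.trans MP, nP⟩ hx).trans l
    have xn := nP hx
    have h4 : qt K M ⊓ 𝐂₁ (qe K x) < qt K P ⊓ 𝐂₁ (qe K x) :=
      lt_of_le_of_ne (inf_le_inf_right _ (qt_mono _ MP)) fun e' => xM ((qe_mem_qt_iff xn h1).1
        (e'.symm ▸ ⟨qe_mem_qt hx xn, self_mem_cent1 _⟩ : qe K x ∈ qt K M ⊓ 𝐂₁ (qe K x)).1)
    have l2 := (k.qt K).inf_left.logn_lt h4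
    have h5 := (k.qt K).inf_cent_ne_bot (kM.qt K) (qt_norm K (le_top.trans hM.norm)) hb
    have l3 := (kM.qt K).inf_left.logn_pos.2 h5
    have h6 := (kM.qt K).inf_left.eq_of_logn_le
      (inf_le_inf_left _ (cent_le_cent1 (qe_mem_qt hx xn)) :
        qt K M ⊓ 𝐂 (qt K P) ≤ qt K M ⊓ 𝐂₁ (qe K x)) (by omega)
    set U := qt K M ⊓ 𝐂₁ (qe K x) with hU
    have c1 : U ≤ 𝐂 (qt K P) := h6.symm.le.trans inf_le_right
    have n2 : qt K Y ≤ 𝐍 U := by
      rw [hU, ← cent_zpowers, ← qt_zpowers xn]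
      exact norm_inf_cent (qt_norm K (le_top.trans hM.norm))
        (qt_norm K (norm_of_cent (by rw [cent_zpowers]; exact hY)))
    have kU : PiGrp {p} U := (kM.qt K).inf_left
    have c2 : U ≤ 𝐂 (qt K Y) := (kY.qt K).cent_of_prime hp (by
      rw [kU.card_eq, show logn p (♯U) = 1 by rw [← h6] at l2 ⊢; omega, pow_one]) n2
    have c3 : U ≤ 𝐂 (qt K (P ⊔ Y)) := by rw [qt_sup nP nY]; exact le_cent_sup c1 c2
    have h7 : ⁅qp K U, A⁆ ≤ K := (qt_cent_iff (qp_le_norm U) (hA.trans h2)).1 (by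
      rw [qt_qp]; exact c3.trans (cent_anti (qt_mono _ hA)))
    have h8 := mx (qp K U) ⟨qp_le_of_le_qt ⟨h1, nM⟩ inf_le_left, norm_qp h2 (norm_of_cent' c3),
      cent_of_stable (PiNat.coprime' kA (kM.le h1)) h7 h3⟩ (le_qp U)
    rw [qp_eq_self.1 h8] at h6
    exact h5 h6
  have : PiGrp {p} (P ⊔ Y) := piGrp_of_forall_elt fun g hg => by
    obtain ⟨y, z, -, hz, h1, h2, rfl⟩ := exists_piPart {p} g
    have h3 := key _ (zpowers_le.2 (zpowers_le.2 hg hz)) h2.zpowers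
    rw [(kM.elt (c (h3 (mem_zpowers z)))).eq_one h2, mul_one]
    exact h1
  exact le_sup_right.trans (s.eq_of_le le_sup_left le_top this).symm.le

theorem exists_unif (hp : p.Prime) (k : PiGrp {p} P) (m : MC p P) (h : T < P) (d : ⁅P, P⁆ ≤ T) :
    ∃ x ∈ P, x ∉ T ∧ logn p (♯(P ⊓ 𝐂₁ x)) ≤ 2 := by
  haveI := Fact.mk hp
  obtain ⟨x, h1, h2⟩ := exists_uniform ((CF.Fus.maxC_iff k.card_eq m.1).2 m.2) (T := T.subgroupOf P)
    (fun e => h.not_ge (subgroupOf_eq_top.1 e)) (fun a ha => d (by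
      have := mem_map_of_mem P.subtype ha
      rwa [CF.Fus.map_LC] at this))
  refine ⟨x, x.2, h1, ?_⟩
  have := map_inf_cent1 (A := ⊤) (x := x) P.subtype_injective
  rw [top_inf_eq, map_top_subtype] at this
  rw [← card_map P.subtype_injective, this] at h2
  exact h2

theorem le_der_of_logn (k : PiGrp {p} P) (m : MC p P) (h : T ⊴ P)
    (l : logn p (♯T) + 2 ≤ logn p (♯P)) : T ≤ ⁅P, P⁆ := by
  by_cases e : T = ⊥
  · rw [e]; exact bot_le
  have kT := k.le h.le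
  have l1 := kT.logn_pos.2 e
  have := m.1
  by_cases l2 : logn p (♯T) + 2 = logn p (♯P)
  · exact ((kT.eq_of_logn_le (der_le_of_logn_le_two k h.norm (by
      have := logn_card_eq_add (p := p) h.le; omega)) (by
        have := le_logn_lcs k 1 (logn p (♯P) - 3) (by
          rw [show 1 + (logn p (♯P) - 3) = logn p (♯P) - 2 by omega]; exact m.2)
        exact le_trans (by omega) this))).symm.le
  have h1 := lcs_le k h (r := logn p (♯P) - logn p (♯T) - 2) (by omega)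
  have h2 := le_logn_lcs k (logn p (♯P) - logn p (♯T) - 2 + 1) (logn p (♯T) - 1) (by
    rw [show logn p (♯P) - logn p (♯T) - 2 + 1 + (logn p (♯T) - 1) = logn p (♯P) - 2 by omega]
    exact m.2)
  rw [← kT.eq_of_logn_le h1 (by omega)]
  exact Subgroup.lowerCentralSeries_antitone P (show 1 ≤ _ by omega)

theorem pi_of_le_Phi (hp : p.Prime) (s : Syl p P ⊤) (hN : N ⊴ ⊤) (h : P ⊓ N ≤ 𝚽 P)
    (h0 : 𝐎 {p}ᶜ (⊤ : Subgroup G) = ⊥) : PiGrp {p} N := by
  haveI := Fact.mk hp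
  have nL : N ⊔ P ≤ 𝐍 N := le_top.trans hN.norm
  obtain ⟨Q, hQ⟩ := (s.of_le le_sup_right (le_top : N ⊔ P ≤ ⊤)).exists_sylow
  haveI := (normalIn_sup_left (le_sup_right.trans nL)).normal
  have h1 : (N.subgroupOf (N ⊔ P)).index = p ^ logn p (N.relIndex P) := by
    rw [← relIndex, relIndex_sup_norm' (Or.inl (le_sup_right.trans nL))]
    exact (s.pi.relIndex N).eq_pow_logn (relIndex_ne_zero' _ _)
  have h2 := CF.Transfer.hasNPC_of_inf_pResidual_le_frattini Q (by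
    refine (inf_le_inf_left _ (CF.Transfer.pResidual_le_of_index h1)).trans ?_
    rw [← map_le_map_iff_of_injective (N ⊔ P).subtype_injective,
      ← CF.Coprime.frattiniOf_map_of_injective _ (N ⊔ P).subtype_injective, hQ]
    exact le_trans ((map_inf_le _ _ _).trans (inf_le_inf hQ.le (map_subgroupOf le_sup_left).le)) h)
  have h3 := ((npc_iff hp).2 h2).mono (le_sup_left : N ≤ N ⊔ P)
  unfold NPC at h3
  rw [eq_bot_mono h0 (O_le_O_of_normal hN _)] at h3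
  exact h3.pi'_of_eq_bot.of_compl_compl

theorem normal_le (hp : p.Prime) (s : Syl p P ⊤) (m : MC p P) (h0 : 𝐎 {p}ᶜ (⊤ : Subgroup G) = ⊥)
    (hr : ∀ N : Subgroup G, N.Normal → N.index.Coprime p → N = ⊤)
    (h : ∀ x ∈ P, ¬ logn p (♯(𝐂₁ x)) ≤ 2) (hN : N ⊴ ⊤) (h1 : N ≠ ⊤) : N ≤ ⁅P, P⁆ := by
  have k := s.pi
  have sT := s.inf_normal hN
  have nT : P ⊓ N ⊴ P := normalIn_inf_left (le_top.trans hN.norm)
  have lt : P ⊓ N < P := lt_of_le_of_ne inf_le_left fun e => h1 (hr N (normalIn_top.1 hN) (by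
    rw [← relIndex_top_right]
    exact (piNat_compl_single_iff_coprime hp).1 (s.idx_of_le (e.symm.le.trans inf_le_right))))
  have l := k.logn_lt lt
  by_cases c : logn p (♯(P ⊓ N)) + 2 ≤ logn p (♯P)
  · have h2 := le_der_of_logn k m nT c
    have h3 := pi_of_le_Phi hp s hN (h2.trans k.der_le_Phi) h0
    exact (le_inf (s.le_of_normal hN h3) le_rfl).trans h2
  exfalso
  have l2 := logn_card_eq_add (p := p) nT.le
  obtain ⟨x, hx, xT, h2⟩ := exists_unif hp k m lt (der_le_of_logn_le_two k nT.norm (by omega))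
  have xN : x ∉ N := fun e => xT ⟨hx, e⟩
  have nn : ∀ X : Subgroup G, X ≤ 𝐍 N := fun X => le_top.trans hN.norm
  have l3 := logn_qt (p := p) hN
  have l4 := s.logn_eq rfl
  have l5 := sT.logn_eq rfl
  have sub : ∀ X, PiGrp {p} X → x ∈ X → X ≤ N ⊔ zpowers x := fun X kX hX => by
    have a1 := logn_card_le (p := p) (qt_mono N (le_top : X ≤ ⊤))
    have a2 := (kX.le (zpowers_le.2 hX)).qt N |>.logn_pos.2 fun e =>
      xN ((qt_eq_bot (nn _)).1 e (mem_zpowers x))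
    rw [← qt_le_qt_iff (nn _) (nn _),
      (kX.qt N).eq_of_logn_le (qt_mono N (zpowers_le.2 hX)) (by omega)]
  have h3 := logn_cent hp (s.of_le (le_sup_right : P ≤ N ⊔ P) le_top) hx (fun e => xN (by
    refine (abel_qt_iff (nn _)).1 (Abel.mono (abel_zpowers (qe N x)) ?_) e
    rw [← qt_zpowers (nn _ (mem_top x)), qt_le_qt_iff (nn _) (nn _)]
    exact sup_le le_sup_left (sub P k hx))) h2
  obtain ⟨Y, sY, hY⟩ := exists_syl_le (zpowers_le.2 (self_mem_cent1 x)) (k.elt hx).zpowers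
  have h4 := logn_card_le (p := p) (le_inf ((sub Y sY.pi (hY (mem_zpowers x))).trans
    (sup_le_sup_left (zpowers_le.2 hx) N)) sY.le)
  exact h x hx (by rw [← sY.logn_eq rfl]; omega)

theorem main (hp : p.Prime) (s : Syl p P ⊤) (m : MC p P) (h0 : 𝐎 {p}ᶜ (⊤ : Subgroup G) = ⊥)
    (hr : ∀ N : Subgroup G, N.Normal → N.index.Coprime p → N = ⊤)
    (h : ∀ x ∈ P, ¬ logn p (♯(𝐂₁ x)) ≤ 2) : Cfsg.IsQuasisimple G ∧ ♯(center G) ≤ p := by
  have k := s.pi
  have n3 := m.1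
  have lz := m.logn_center k
  have na : ¬ Abel P := fun a => by
    have := logn_card_le (p := p) (le_inf le_rfl a : P ≤ 𝐙 P); omega
  have l1 := logn_Phi k fun c => na c.abel
  have l2 := logn_card_le (p := p) k.der_le_Phi
  have nl := fun N => normal_le (N := N) hp s m h0 hr h
  have nP : ¬ P ⊴ ⊤ := fun n => by
    obtain ⟨W, h1, h2, h3⟩ := (k.le (show ⊤ ≤ P by
      by_contra e
      have := logn_card_le (p := p) (nl P n fun e' => e e'.ge); omega)).exists_normal n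
        (r := logn p (♯P) - 1) (by omega)
    have := logn_card_le (p := p) (nl W h2 fun e => by
      have := logn_card_le (p := p) (le_top.trans e.ge : P ≤ W); omega)
    omega
  have hM := O_normal {p} (⊤ : Subgroup G)
  have kM := O_pi {p} (⊤ : Subgroup G)
  have MP := s.le_of_normal hM kM
  have nl' : ∀ N, N ⊴ ⊤ → N ≠ ⊤ → N ≤ 𝐎 {p} (⊤ : Subgroup G) := fun N a b =>
    le_O a (k.le ((nl N a b).trans (der_le P)))
  have Md := nl _ hM fun e => nP (by rw [eq_top_iff.2 (e.ge.trans MP)]; exact NormalIn.refl _)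
  have c : 𝐂 (𝐎 {p} (⊤ : Subgroup G)) = ⊤ := by
    by_contra e
    obtain ⟨x, hx, xT, h2⟩ := exists_unif hp k m
      (lt_of_le_of_ne (der_le P) fun e => by rw [e] at l2; omega) le_rfl
    obtain ⟨Y, sY, -⟩ := exists_syl_le (zpowers_le.2 (self_mem_cent1 x)) (k.elt hx).zpowers
    have := logn_card_le (p := p) (le_inf (le_of_constrained hp s hM kM
      (nl' _ ⟨le_top, norm_cent hM.norm⟩ e) hx (fun e => xT (Md e)) h2 sY.pi sY.le) sY.le)
    exact h x hx (by rw [← sY.logn_eq rfl]; omega)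
  have zc : ∀ {N : Subgroup G}, N ≤ center G ↔ N ≤ 𝐂 (⊤ : Subgroup G) := by
    intro N; rw [coe_top, centralizer_univ]
  have z1 : center G ≠ ⊤ := fun e => na ((le_top.trans (zc.1 e.ge)).trans (cent_anti le_top))
  have z2 := nl _ (normalIn_top.2 inferInstance) z1
  refine ⟨⟨⟨?_⟩, ?_⟩, ?_⟩
  · by_contra e
    exact nP (normalIn_of_der_le le_top ((nl _ (der_normal ⊤) e).trans (der_le P)))
  · haveI : Nontrivial (G ⧸ center G) := QuotientGroup.nontrivial_iff.2 z1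
    refine ⟨fun N hN => ?_⟩
    by_cases e : N.comap (QuotientGroup.mk' (center G)) = ⊤
    · exact Or.inr (comap_injective (QuotientGroup.mk'_surjective _) (by rw [e, comap_top]))
    · refine Or.inl (comap_injective (QuotientGroup.mk'_surjective _) (le_antisymm ?_ (comap_mono bot_le)))
      rw [MonoidHom.comap_bot, QuotientGroup.ker_mk']
      exact (nl' _ (normalIn_top.2 (hN.comap _)) e).trans (zc.2 (cent_symm c.ge))
  · have h1 : center G ≤ 𝐙 P := le_inf (z2.trans (der_le P)) ((zc.1 le_rfl).trans (cent_anti le_top))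
    have := card_le_pow_of_logn (k.le (h1.trans inf_le_left)) ((logn_card_le h1).trans lz) hp
    rwa [pow_one] at this

end CF.McS
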