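import Cfsg.Agent.PLocal.MnI

/-! Pushing up with a group of automorphisms of odd order. -/

set_option autoImplicit false

namespace CF.FF

open Cfsg Subgroup CF.Loc Function
open scoped commutatorElement MatrixGroups Pointwise

section
variable {G H : Type*} [Group G] [Group H] {B V X Y Z Z₁ Z₂ : Subgroup G} {b x : G} {f : G →* H}

/-- the intrinsic properties of the centre of the `2`-core of a rank one block -/
@[mk_iff np_iff] structure NP (B V Z : Subgroup G) : Prop where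
  le : V ≤ B
  nV : B ≤ 𝐍(V)
  zc : 𝐙[B] ≤ V
  ab : V ≤ 𝐂(V)
  sq : ∀ v ∈ V, v * v = 1
  card : Nat.card V * Nat.card ↥(B ⊓ 𝐂(V)) = Nat.card B * Nat.card ↥𝐙[B]
  ti : ∀ v ∈ V, ∀ b ∈ B, ⁅b, v⁆ ∈ Z → v ∈ B ⊓ 𝐂(B) ∨ b ∈ B ⊓ 𝐂(V)
  cc : ∀ c ∈ B ⊓ 𝐂(V), c * c ∈ Z ∧ ∀ d ∈ B ⊓ 𝐂(V), ⁅c, d⁆ ∈ Z

theorem np_map (hf : Injective f) : NP (B.map f) (V.map f) (Z.map f) ↔ NP B V Z := by
  have k : ∀ {K : Subgroup G} {P : H → Prop}, (∀ x ∈ K.map f, P x) ↔ ∀ x ∈ K, P (f x) :=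
    ⟨fun c x hx => c _ (mem_map_of_mem f hx), fun c _ ⟨x, hx, e⟩ => e ▸ c x hx⟩
  have n : B.map f ≤ 𝐍(V.map f) ↔ B ≤ 𝐍(V) := k.trans (forall₂_congr fun _ _ => mem_norm_map hf)
  rw [np_iff, np_iff, n]
  simp only [← map_inf_cent hf, map_le_map_iff_of_injective hf, cent_map_iff hf, k, ← map_mul, map_eq_one_iff f hf,
    card_map_of_injective hf, ← map_commutatorElement, mem_map_iff_mem hf]

variable [Finite G] (h : NP B V Z)
include h

theorem NP.dec (h' : NP B X Y) (e : Nat.card X = Nat.card V) (c : ¬ X ≤ 𝐂(V)) (hb : b ∈ B) :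
    ∃ x ∈ X, ∃ c ∈ B ⊓ 𝐂(V), x * c = b := by
  have n : B ⊓ 𝐂(V) ≤ 𝐍(X) := inf_le_left.trans h'.nV
  refine (mem_sup_of_le_normalizer n).1 ((eq_of_le_of_card_le (sup_le h'.le inf_le_left) ?_).ge hb)
  obtain ⟨w, hw, w0⟩ := SetLike.not_le_iff_exists.1 (mt le_centralizer_comm.1 c)
  have := card_le_card_of_le (fun x hx => (h'.ti x hx.1 w (h.le hw) (by rw [cm_one (hx.2.2 w hw)]; exact one_mem _)).resolve_right
    fun e => w0 e.2 : X ⊓ (B ⊓ 𝐂(V)) ≤ 𝐙[B])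
  refine Nat.le_of_mul_le_mul_right ?_ (Nat.card_pos (α := ↥𝐙[B]))
  rw [← h.card, ← e, ← card_sup_mul_card_inf' n]
  exact Nat.mul_le_mul_left _ this

theorem NP.uniq (h₁ : NP B X Z₁) (h₂ : NP B Y Z₂) (e₁ : Nat.card X = Nat.card V) (e₂ : Nat.card Y = Nat.card V)
    (c₁ : ¬ X ≤ 𝐂(V)) (c₂ : ¬ Y ≤ 𝐂(V)) : Y ≤ X := fun y hy => by
  have dec : ∀ b ∈ B, ∃ x ∈ X, ∃ w ∈ V, ∃ c ∈ B ⊓ 𝐂(V), c ∈ 𝐂(X) ∧ x * (w * c) = b := fun b hb => by
    obtain ⟨x, hx, c, hc, rfl⟩ := h.dec h₁ e₁ c₁ hb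
    obtain ⟨w, hw, c, hc', rfl⟩ := h₁.dec h e₁.symm (mt le_centralizer_comm.1 c₁) hc.1
    exact ⟨x, hx, w, hw, c, ⟨hc'.1, (Subgroup.mul_mem_cancel_left _ (h.ab hw)).1 hc.2⟩, hc'.2, rfl⟩
  by_cases y0 : y ∈ 𝐂(V)
  · obtain ⟨w, hw, w0⟩ := SetLike.not_le_iff_exists.1 (mt le_centralizer_comm.1 c₂)
    exact h₁.zc ((h₂.ti y hy w (h.le hw) (by rw [cm_one (y0 w hw)]; exact one_mem _)).resolve_right fun e => w0 e.2)
  obtain ⟨x, hx, w, hw, c, hc, hc', rfl⟩ := dec y (h₂.le hy)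
  have m : w ∈ 𝐙[B] := (h.ti w hw x (h₁.le hx) (by
    have := h₂.sq _ hy
    rw [show x * (w * c) * (x * (w * c)) = x * w * (c * x) * (w * c) by group, ← hc' x hx, show x * w * (x * c) * (w * c) =
      x * w * x * (c * w) * c by group, ← hc.2 w hw, show x * w * x * (w * c) * c = x * w * x * w * (c * c) by group,
      mul_eq_one_iff_eq_inv] at this
    rw [commutatorElement_def, inv_eq_of_mul_eq_one_right (h₁.sq x hx), inv_eq_of_mul_eq_one_right (h.sq w hw), this]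
    exact inv_mem (h.cc c hc).1)).resolve_right fun e => y0 (mul_mem e.2 (mul_mem (h.ab hw) hc.2))
  refine mul_mem hx (h₁.zc (mul_mem m ⟨hc.1, fun b hb => ?_⟩))
  obtain ⟨x', hx', w', hw', d, hd, hd', rfl⟩ := dec b hb
  suffices d * c = c * d by rw [mul_assoc, mul_assoc, this, ← mul_assoc w', hc.2 w' hw', mul_assoc, ← mul_assoc, hc' x' hx', mul_assoc]
  have e : ⁅x * (w * c), d⁆ = ⁅c, d⁆ := by
    have k : ∀ a, a * c = c * a → a * d = d * a → ∀ z, ⁅z, d⁆ = ⁅c, d⁆ → ⁅a * z, d⁆ = ⁅c, d⁆ := fun a a1 a2 z e => by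
      have := ((Commute.mul_right a1 a2).mul_right (Commute.inv_right a1)).mul_right (Commute.inv_right a2)
      rw [commutatorElement_mul_left_eq_conj_mul, e, cm_one a2, mul_one, mul_inv_eq_iff_eq_mul]
      exact this
    exact k x (hc' x hx) (hd' x hx) _ (k w (hc.2 w hw) (hd.2 w hw) c rfl)
  obtain ⟨u, hu, d', h', rfl⟩ := h₂.dec h e₂.symm (mt le_centralizer_comm.1 c₂) hd.1
  have e' : ⁅x * (w * c), u * d'⁆ = ⁅x * (w * c), u⁆ := by
    rw [commutatorElement_mul_right_eq_mul_conj, cm_one (h'.2 _ hy), mul_one, mul_inv_cancel_right]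
  have := (h.ti u hu _ (h₂.le hy) (e' ▸ e ▸ (h.cc c hc).2 _ hd)).resolve_right fun e => y0 e.2
  rw [e', cm_one (this.2 _ (h₂.le hy))] at e
  exact (commutatorElement_eq_one_iff_mul_comm.1 e.symm).symm

theorem NP.odd {γ : MulAut G} (hB : γ • B = B) {k : ℕ} (hk : Odd k) (c : γ ^ k • V ≤ 𝐂(V)) : γ • V ≤ 𝐂(V) := by
  by_contra c'
  have k : ∀ {V Z}, NP B V Z → NP B (γ • V) (γ • Z) := fun h => hB ▸ (np_map (f := γ.toMonoidHom) γ.injective).2 h
  have e : ∀ V : Subgroup G, Nat.card ↥(γ • V) = Nat.card V := fun V => card_map_of_injective γ.injective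
  have : γ ^ 2 ∈ MulAction.stabilizer (MulAut G) V := ((pow_two γ ▸ mul_smul γ γ V).trans (eq_of_le_of_card_le ((k h).uniq (k (k h)) h
    (e _) (e _).symm (mt (cent_map_iff (f := γ.toMonoidHom) γ.injective).1 c') (mt le_centralizer_comm.1 c'))
      ((e _).trans (e _)).le).symm :)
  obtain ⟨j, rfl⟩ := hk
  rw [pow_succ', mul_smul, pow_mul, show (γ ^ 2) ^ j • V = V from pow_mem this j] at c
  exact c' c

end

universe u
variable {G : Type u} [Group G] [Finite G] {L B M X T K : Subgroup G}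

theorem RKD.np (r : RKD 2 L B M X) (l : B ≤ T) : NP B 𝐕[2](L) (𝐂(𝐑[2](L)) ⊓ T) := by
  obtain ⟨F, _, _, ρ, ψ, n, -⟩ := r.pan.nat
  have c := (r.two rfl).2
  have sq := fun v hv => (pow_two v).symm.trans ((isElementaryAbelian_iff.1 r.eaV).2 v hv)
  refine ⟨r.pan.V_le, n.le.trans n.norm, r.pan.zc_le, V_ab 2 L, sq, by rw [r.pan.cent_V, r.pan.card_V], fun v hv b hb e =>
    or_iff_not_imp_right.2 fun k => ⟨r.pan.V_le hv, n.mem_cent hb (fun e => k ⟨hb, e⟩) hv (r.pan.V_inf_cent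
      ⟨cm_mem (n.norm (n.le hb)) hv, e.1⟩)⟩, fun a ha => ⟨⟨fun g hg => ?_, l (mul_mem ha.1 ha.1)⟩, fun d hd =>
        ⟨cent_comm ((core_le_cent 2 L).trans (centralizer_anti c)) rfl (c.trans inf_le_right)
          (commutator_mem_commutator (r.pan.cent_V.le ha) (r.pan.cent_V.le hd)), l (commutator_le_self B
            (commutator_mem_commutator ha.1 hd.1))⟩⟩⟩
  have m := comm_mem_zp ((commutator_mono le_rfl (zpowers_le.2 hg)).trans c) (r.pan.cent_V.le ha)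
  rw [← mul_inv_eq_iff_eq_mul, show g * (a * a) * g⁻¹ = g * a * g⁻¹ * (g * a * g⁻¹) by group, comm_conj_eq, mul_assoc, ← mul_assoc a,
    ← ha.2 _ m, ← mul_assoc, ← mul_assoc, sq _ m, one_mul]

/-- Stellmacher's pushing up theorem for automorphism groups of odd order. -/
theorem Hy.odd (h : Hy 2 K T M) (u : UMax T (K ⊓ M) K) (A : Subgroup (MulAut T)) (hA : Odd (Nat.card A)) :
    ∃ U ≤ T, U ≠ ⊥ ∧ K ≤ 𝐍(U) ∧ ∀ a ∈ A, a • U.subgroupOf T = U.subgroupOf T := by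
  obtain ⟨L, l, -, -, X, r⟩ := h.rk u
  have lB := baumann_le 2 T
  have lV := r.pan.V_le.trans lB
  have b : Bx 2 K 𝐁[2](T) 𝐑[2](L) := h.bx r.bk ((pResidualOf_le 2 L).trans l)
  have i := T.subtype_injective
  have n : NP (𝐁[2](T).subgroupOf T) (𝐕[2](L).subgroupOf T) ((𝐂(𝐑[2](L)) ⊓ T).subgroupOf T) := (np_map i).1 (by
    rw [map_subgroupOf_eq_of_le lB, map_subgroupOf_eq_of_le lV, map_subgroupOf_eq_of_le inf_le_right]; exact r.np lB)
  have eB : ∀ γ : MulAut T, γ • 𝐁[2](T).subgroupOf T = 𝐁[2](T).subgroupOf T := characteristic_iff_map_eq.1 baumann_char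
  have : (MulAut.conj : T →* MulAut T).range.Normal := ⟨by
    rintro _ ⟨s, rfl⟩ a; exact ⟨a s, by ext x; simp⟩⟩
  let Γ := (MulAut.conj : T →* MulAut T).range ⊔ A
  let U : Subgroup T := ⨆ γ : Γ, γ.1 • 𝐕[2](L).subgroupOf T
  have inv : ∀ γ ∈ Γ, γ • U = U := fun γ hγ => (Subgroup.map_iSup γ.toMonoidHom _).trans
    ((Equiv.mulLeft (⟨γ, hγ⟩ : Γ)).iSup_congr fun δ => mul_smul γ δ.1 _)
  have lU : 𝐕[2](L) ≤ U.map T.subtype := (map_subgroupOf_eq_of_le lV).ge.trans (map_mono (le_iSup_of_le 1 (one_smul _ _).ge))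
  have cU : U ≤ 𝐁[2](T).subgroupOf T ⊓ 𝐂(𝐕[2](L).subgroupOf T) := iSup_le fun ⟨γ, hγ⟩ => le_inf
    ((map_mono (comap_mono r.pan.V_le)).trans (eB γ).le) (n.odd (eB γ) hA (by
    obtain ⟨s, hs, a, ha, rfl⟩ := mem_sup_of_normal_left.1 hγ
    obtain ⟨t, e⟩ : (s * a) ^ Nat.card A ∈ (MulAut.conj : T →* MulAut T).range := by
      rw [← QuotientGroup.eq_one_iff, QuotientGroup.mk_pow, QuotientGroup.mk_mul, (QuotientGroup.eq_one_iff s).2 hs, one_mul,
        ← QuotientGroup.mk_pow, show a ^ Nat.card A = 1 from congrArg Subtype.val (pow_card_eq_one' (x := (⟨a, ha⟩ : A)))]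
      rfl
    rw [← e, ← cent_map_iff i, map_subgroupOf_eq_of_le lV]
    have e1 : map T.subtype (MulAut.conj t • 𝐕[2](L).subgroupOf T) = cj[t.1] 𝐕[2](L) := by
      conv_rhs => rw [← map_subgroupOf_eq_of_le lV]
      exact (map_map _ _ (MulAut.conj t).toMonoidHom).trans (map_map _ (MulAut.conj t.1).toMonoidHom T.subtype).symm
    have z : 𝐕[2](L) ⊓ 𝐂(L) ≤ 𝐂(𝐁[2](T)) := inf_le_right.trans (centralizer_anti r.pan.syl.le)
    have nB := cj_eq_self (norm_baumann 2 T (le_normalizer t.2))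
    have w := r.W ▸ b.W_le_V
    rw [e1]
    conv_lhs => rw [← r.pan.W_sup, cj_sup]
    refine sup_le (le_centralizer_comm.1 (r.pan.W_sup.ge.trans (sup_le ((w.trans (U_ab 2 K)).trans (centralizer_anti
      (cj_le_of_mem_normalizer (norm_U 2 K (le_normalizer (h.syl.le t.2))) w))) (z.trans (centralizer_anti
        ((cj_mono _ (r.pan.W_le.trans r.pan.V_le)).trans nB.le)))))) ((cj_mono _ z).trans ?_)
    rw [cj_centralizer, nB]; exact centralizer_anti r.pan.V_le))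
  refine ⟨U.map T.subtype, map_subtype_le U, fun e => r.pan.W_nt (r.pan.W_le.trans (lU.trans (e.le.trans bot_le))), ?_,
    fun a ha => by rw [subgroupOf, comap_map_eq_self_of_injective i, inv a (mem_sup_right ha)]⟩
  have : U.Normal := ⟨fun x hx t => (inv _ (mem_sup_left ⟨t, rfl⟩)).le (mem_map_of_mem _ hx)⟩
  refine (u.eq_of_not_le le_sup_right (sup_le b.le h.syl.le) fun c => r.not_le h.BM (le_sup_left.trans (c.trans inf_le_right))).ge.trans
    (sup_le (le_normalizer_iff_commutator_le_left.2 ?_) (le_normalizer_map_subtype U))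
  refine (commutator_mono ((map_mono cU).trans ?_) le_rfl).trans ((r.two rfl).2.trans lU)
  rw [map_inf_cent i, map_subgroupOf_eq_of_le lB, map_subgroupOf_eq_of_le lV, r.pan.cent_V]

end CF.FF
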