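import Cfsg.Agent.Perm.Plane3

/-! Ovals in projective planes of odd order: tangents, perspectivities and Baer involutions fixing an oval. -/

set_option autoImplicit false

open scoped Classical

namespace CF.Oval

open MulAction Subgroup CF.Perm

variable {P L : Type*} {I : P → L → Prop} {n m : ℕ} {O Y : Set P} {p q r X C D E : P} {l k a b : L}
variable {G : Type*} [Group G] [MulAction G P] {g s t u v α β γ : G}

/-- setwise stabiliser -/
def St (G : Type*) [Group G] [MulAction G P] (Y : Set P) : Subgroup G where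
  carrier := {g | ∀ p, g • p ∈ Y ↔ p ∈ Y}
  one_mem' p := by rw [one_smul]
  mul_mem' h1 h2 p := by rw [mul_smul, h1, h2]
  inv_mem' {g} h p := by rw [← h, smul_inv_smul]

/-- the action of the stabiliser on the set -/
def res (Y : Set P) : St G Y →* Equiv.Perm Y :=
  MonoidHom.mk' (fun g => (toPerm g.1).subtypePerm g.2) fun _ _ => Equiv.ext fun _ => Subtype.ext (mul_smul ..)

theorem mem_St [Finite P] (h : ∀ p ∈ Y, g • p ∈ Y) : g ∈ St G Y := fun p => ⟨fun e => by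
  obtain ⟨x, hx, e'⟩ := ((Set.toFinite Y).surjOn_iff_bijOn_of_mapsTo h).2
    (((Set.toFinite Y).injOn_iff_bijOn_of_mapsTo h).1 (MulAction.injective g).injOn) e
  exact MulAction.injective g e' ▸ hx, h p⟩

theorem card_fp (hg : g ∈ St G Y) :
    Nat.card (Function.fixedPoints (res Y ⟨g, hg⟩)) = {p | p ∈ Y ∧ g • p = p}.ncard :=
  Nat.card_congr (β := {p | p ∈ Y ∧ g • p = p}) ⟨fun x => ⟨x.1.1, x.1.2, congrArg Subtype.val x.2⟩,
    fun x => ⟨⟨x.1, x.2.1⟩, Subtype.ext x.2.2⟩, fun _ => rfl, fun _ => rfl⟩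

theorem fix_mod [Finite P] {r : ℕ} [Fact r.Prime] (hg : g ∈ St G Y) (h : g ^ r = 1) :
    Y.ncard ≡ {p | p ∈ Y ∧ g • p = p}.ncard [MOD r] := by
  rw [← card_fp hg]
  exact ncard_fixedBy_modEq (α := Y) (g := res Y ⟨g, hg⟩)
    (by rw [← map_pow, ← map_one (res (G := G) Y)]; exact congrArg _ (Subtype.ext h))

/-- the sign of the action on `Y` -/
noncomputable def sg [Finite P] (Y : Set P) : St G Y →* ℤˣ :=
  (@Equiv.Perm.sign Y _ (Fintype.ofFinite Y)).comp (res Y)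

theorem four_mod [Finite P] (hg : g ∈ St G Y) (h : g * g = 1) (h1 : sg Y ⟨g, hg⟩ = 1) :
    Y.ncard % 4 = {p | p ∈ Y ∧ g • p = p}.ncard % 4 := by
  letI := Fintype.ofFinite Y
  have h2 := fix_mod (r := 2) hg (by rwa [pow_two])
  have h3 : {p | p ∈ Y ∧ g • p = p}.ncard ≤ Y.ncard := Set.ncard_le_ncard fun _ e => e.1
  have h4 := Equiv.Perm.sign_of_pow_two_eq_one (σ := res Y ⟨g, hg⟩) (by
    rw [← map_pow, ← map_one (res (G := G) Y)]; exact congrArg _ (Subtype.ext (by rwa [pow_two])))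
  rw [← Nat.card_eq_fintype_card, ← Nat.card_eq_fintype_card, card_fp] at h4
  have h5 := (neg_one_pow_eq_one_iff_even (by decide)).1 (h4.symm.trans h1)
  rw [Nat.even_iff, Nat.card_coe_set_eq] at h5
  rw [Nat.ModEq] at h2
  omega

/-- an element of order four whose square acts freely -/
theorem four_dvd [Finite P] (hg : g ∈ St G Y) (h : g * g * (g * g) = 1) (h1 : ∀ p ∈ Y, (g * g) • p ≠ p) :
    Y.ncard % 4 = 0 := by
  rw [four_mod (mul_mem hg hg) h ((map_mul (sg Y) ⟨g, hg⟩ ⟨g, hg⟩).trans (Int.units_mul_self _)),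
    Set.eq_empty_of_forall_notMem (s := {p | p ∈ Y ∧ (g * g) • p = p}) fun p e => h1 p e.1 e.2]
  simp

/-- an oval in a plane of odd order -/
structure Ov (I : P → L → Prop) (n : ℕ) (O : Set P) : Prop extends PP I n where
  odd : Odd n
  card : O.ncard = n + 1
  arc : ∀ {l p q r}, p ∈ O → q ∈ O → r ∈ O → I p l → I q l → I r l → p = q ∨ p = r ∨ q = r

/-- tangent lines -/
def Tn (I : P → L → Prop) (O : Set P) (p : P) (l : L) : Prop := p ∈ O ∧ I p l ∧ ∀ q ∈ O, I q l → q = p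

namespace Ov

variable (o : Ov I n O)
include o

theorem three : 3 ≤ n := by
  have := o.two
  have := Nat.odd_iff.1 o.odd
  omega

theorem exists_ne (p q r : P) : ∃ x ∈ O, x ≠ p ∧ x ≠ q ∧ x ≠ r := by
  by_contra! e
  have := o.finP
  have h1 := Set.ncard_le_ncard (s := O) (t := {p, q, r}) fun x hx => by
    by_contra! e'
    simp only [Set.mem_insert_iff, Set.mem_singleton_iff, not_or] at e'
    exact e'.2.2 (e x hx e'.1 e'.2.1)
  have h2 := Set.ncard_insert_le p ({q, r} : Set P)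
  have h3 := Set.ncard_insert_le q ({r} : Set P)
  have := Set.ncard_singleton r
  have := o.card
  have := o.three
  omega

theorem tn_ex (hp : p ∈ O) : ∃! l, Tn I O p l := by
  have := o.finP
  have := o.finL
  choose f f1 f2 using o.join p
  have h1 : (f '' (O \ {p})).ncard = n := by
    rw [Set.InjOn.ncard_image, Set.ncard_diff_singleton_of_mem hp, o.card]; rfl
    exact fun x hx y hy e => ((o.arc hp hx.1 hy.1 (f1 x) (f2 x) (e ▸ f2 y)).resolve_left
      fun e => hx.2 e.symm).resolve_left fun e => hy.2 e.symm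
  have h2 : {l | Tn I O p l} = {l | I p l} \ f '' (O \ {p}) := Set.ext fun l =>
    ⟨fun e => ⟨e.2.1, fun ⟨x, hx, e'⟩ => hx.2 (e.2.2 x hx.1 (e' ▸ f2 x))⟩, fun e =>
      ⟨hp, e.1, fun q hq e' => by_contra fun e'' => e.2 ⟨q, ⟨hq, e''⟩, o.eqL e'' (f2 q) (f1 q) e' e.1⟩⟩⟩
  have h3 : {l | Tn I O p l}.ncard = 1 := by
    rw [h2, Set.ncard_diff (by rintro _ ⟨x, -, rfl⟩; exact f1 x), h1, o.cardP]; omega
  obtain ⟨l, hl⟩ := Set.ncard_eq_one.1 h3
  exact ⟨l, hl.ge rfl, fun k hk => hl.le hk⟩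

theorem tn_eq (h1 : Tn I O p l) (h2 : Tn I O p k) : l = k := (o.tn_ex h1.1).unique h1 h2

theorem other (hp : p ∈ O) (h1 : I p l) (h : ¬ Tn I O p l) : ∃ q ∈ O, I q l ∧ q ≠ p := by
  by_contra! e
  exact h ⟨hp, h1, e⟩

/-- a point off the oval on a tangent lies on a second tangent -/
theorem second (h1 : Tn I O p l) (hX : I X l) (e : X ∉ O) : ∃ q k, Tn I O q k ∧ I X k ∧ q ≠ p := by
  have := o.finP
  choose f f1 f2 using o.join X
  have h2 : ∀ D : O, ∃ E : O, I E.1 (f D) ∧ (E = D → Tn I O D (f D)) := fun D => by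
    by_cases h : Tn I O D (f D)
    · exact ⟨D, f2 D, fun _ => h⟩
    · obtain ⟨q, h2, h3, h4⟩ := o.other D.2 (f2 D) h
      exact ⟨⟨q, h2⟩, h3, fun e => absurd (congrArg Subtype.val e) h4⟩
  choose i i1 i2 using h2
  have h3 : ∀ D : O, f (i D) = f D := fun D =>
    o.eqL (fun e' : X = i D => e (e' ▸ (i D).2)) (f1 _) (f2 _) (f1 _) (i1 D)
  have h4 : Function.Involutive i := fun D => by
    by_cases h : i D = D
    · rw [h, h]
    rcases o.arc D.2 (i D).2 (i (i D)).2 (f2 D) (i1 D) (h3 D ▸ i1 _) with e' | e' | e'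
    · exact absurd (Subtype.ext e'.symm) h
    · exact Subtype.ext e'.symm
    · exact absurd (Subtype.ext ((i2 _ (Subtype.ext e'.symm)).2.2 D D.2 (h3 D ▸ f2 D)).symm) h
  have h5 := ncard_fixedBy_modEq (α := O) (p := 2) (g := h4.toPerm) (by rw [pow_two]; exact Equiv.ext h4)
  by_contra! h6
  have h7 : fixedBy O h4.toPerm = {⟨p, h1.1⟩} := Set.ext fun D =>
    ⟨fun e' => Subtype.ext (h6 _ _ (i2 D e') (f1 _)), fun e' => by
      obtain rfl : D = ⟨p, h1.1⟩ := e'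
      exact Subtype.ext (h1.2.2 _ (i _).2
        (o.eqL (fun e' : X = p => e (e' ▸ h1.1)) (f1 p) (f2 p) hX h1.2.1 ▸ i1 ⟨p, h1.1⟩))⟩
  rw [h7, Set.ncard_singleton, Nat.card_coe_set_eq, o.card, Nat.ModEq] at h5
  have := Nat.odd_iff.1 o.odd
  omega

/-- Qvist: no three tangents are concurrent -/
theorem qvist (h1 : Tn I O p l) (h2 : Tn I O q k) (h3 : Tn I O r a) (e1 : I X l) (e2 : I X k) (e3 : I X a) :
    p = q ∨ p = r ∨ q = r := by
  have := o.finP
  refine or_iff_not_imp_left.2 fun n1 => or_iff_not_imp_left.2 fun n2 => ?_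
  have h4 : ∀ D, ∃ Z, D ∈ O → ∃ t, Tn I O D t ∧ I Z t ∧ I Z l := fun D => by
    by_cases hD : D ∈ O
    · obtain ⟨t, ht⟩ := (o.tn_ex hD).exists
      obtain ⟨Z, h5⟩ := o.meet t l
      exact ⟨Z, fun _ => ⟨t, ht, h5⟩⟩
    · exact ⟨D, fun e => absurd e hD⟩
  choose f hf using h4
  have h5 : ∀ {D t Z}, Tn I O D t → D ≠ p → I Z t → I Z l → f D = Z := fun {D t Z} h5 h6 h7 h8 => by
    obtain ⟨t', h9, h10, h11⟩ := hf D h5.1
    exact o.eqP (fun e : t = l => h6 (h1.2.2 D h5.1 (e ▸ h5.2.1))) (o.tn_eq h9 h5 ▸ h10) h7 h11 h8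
  have h6 : Set.InjOn f (O \ {p}) := by
    refine (Set.ncard_image_iff).1 (le_antisymm Set.ncard_image_le ?_)
    rw [Set.ncard_diff_singleton_of_mem h1.1, o.card, Nat.add_sub_cancel, ← o.card_ne h1.2.1]
    refine Set.ncard_le_ncard fun Z hZ => ?_
    obtain ⟨D, t, h6, h7, h8⟩ := o.second h1 hZ.1 fun e => hZ.2 (h1.2.2 Z e hZ.1)
    exact ⟨D, ⟨h6.1, h8⟩, h5 h6 h8 h7 hZ.1⟩
  exact h6 ⟨h2.1, Ne.symm n1⟩ ⟨h3.1, Ne.symm n2⟩
    ((h5 h2 (Ne.symm n1) e2 e1).trans (h5 h3 (Ne.symm n2) e3 e1).symm)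

variable [MulAction G L] (h : CP G I n)
include h

omit o in
theorem tn_smul (hg : g ∈ St G O) (h1 : Tn I O p l) : Tn I O (g • p) (g • l) :=
  ⟨(hg p).2 h1.1, h.inv g h1.2.1, fun q hq e => by
    rw [← h1.2.2 (g⁻¹ • q) ((inv_mem hg q).2 hq) ((h.inv_iff g).1 (by rwa [smul_inv_smul])), smul_inv_smul]⟩

theorem tn_fix (hg : g ∈ St G O) (h1 : Tn I O p l) (e : g • p = p) : g • l = l :=
  o.tn_eq (e ▸ tn_smul h hg h1) h1

/-- a collineation fixing the oval pointwise is trivial -/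
theorem eq_one (hg : ∀ p ∈ O, g • p = p) : g = 1 := by
  have := o.finP
  have h0 : g ∈ St G O := mem_St fun p hp => (hg p hp).symm ▸ hp
  have h1 : ∀ D ∈ O, ∀ l, I D l → g • l = l := fun D hD l hl => by
    by_cases e : Tn I O D l
    · exact o.tn_fix h h0 e (hg D hD)
    · obtain ⟨q, h1, h2, h3⟩ := o.other hD hl e
      exact h.fixL h3 h2 hl (hg q h1) (hg D hD)
  refine h.faithP g fun X => ?_
  choose f f1 f2 using o.join X
  obtain ⟨p, hp, -⟩ := o.exists_ne X X X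
  obtain ⟨q, hq, e1, -⟩ := o.exists_ne p p p
  obtain ⟨r, hr, e2, e3, -⟩ := o.exists_ne p q q
  by_cases e : f p = f q
  · exact h.fixP (fun e' : f p = f r => by
      rcases o.arc hp hq hr (f2 p) (e ▸ f2 q) (e' ▸ f2 r) with e | e | e
      exacts [e1 e.symm, e2 e.symm, e3 e.symm]) (f1 p) (f1 r) (h1 p hp _ (f2 p)) (h1 r hr _ (f2 r))
  · exact h.fixP e (f1 p) (f1 q) (h1 p hp _ (f2 p)) (h1 q hq _ (f2 q))

theorem ext (hg : ∀ p ∈ O, g • p = s • p) : g = s :=
  inv_mul_eq_one.1 (o.eq_one h fun p hp => by rw [mul_smul, ← hg p hp, inv_smul_smul])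

/-- on a fixed line through a fixed point of the oval, the oval points are fixed -/
theorem fix_of_line (hg : g ∈ St G O) (hp : p ∈ O) (hq : q ∈ O) (h1 : I p l) (h2 : I q l) (e : g • l = l)
    (e' : g • p = p) : g • q = q := by
  rcases o.arc hp hq ((hg q).2 hq) h1 h2 (h.invL e h2) with e1 | e1 | e1
  · exact e1 ▸ e'
  · exact (MulAction.injective g (e'.trans e1)) ▸ e'
  · exact e1.symm

theorem sq_fix (hg : g ∈ St G O) (hq : q ∈ O) (h2 : I q l) (e : g • l = l) : (g * g) • q = q := by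
  rw [mul_smul]
  rcases o.arc hq ((hg q).2 hq) ((hg _).2 ((hg q).2 hq)) h2 (h.invL e h2) (h.invL e (h.invL e h2)) with e1 | e1 | e1
  · rw [← e1, ← e1]
  · exact e1.symm
  · rw [← MulAction.injective g e1, ← MulAction.injective g e1]

theorem ce_notMem (hg : g ∈ St G O) (h1 : g ≠ 1) (hX : Ax (flip I) g X) : X ∉ O := fun e =>
  h1 (o.eq_one h fun p hp => let ⟨l, h2, h3⟩ := o.join X p
    o.fix_of_line h hg e hp h2 h3 (hX l h2) (h.ce_fix hX))

theorem sq_of_ce (hg : g ∈ St G O) (hX : Ax (flip I) g X) : g * g = 1 :=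
  o.eq_one h fun p hp => let ⟨l, h2, h3⟩ := o.join X p
    o.sq_fix h hg hp h3 (hX l h2)

theorem hm_tn (hg : α ∈ St G O) (e : Hm I C a α) (hp : p ∈ O) (h1 : α • p = p) (h2 : I p l) (h3 : I C l) :
    Tn I O p l := ⟨hp, h2, fun q hq h4 => by_contra fun h5 => by
  have h6 : ∀ x ∈ O, α • x = x → I x a := fun x hx e' =>
    (h.hm_fix e e').resolve_left fun e' => o.ce_notMem h hg e.2.2.1 e.2.1.2 (e' ▸ hx)
  exact e.1 (o.eqL h5 h4 h2 (h6 q hq (o.fix_of_line h hg hp hq h2 h4 (e.2.1.2 l h3) h1)) (h6 p hp h1) ▸ h3)⟩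

theorem hm_ax (hg : α ∈ St G O) (e : Hm I C a α) (hp : p ∈ O) (h1 : α • p = p) : I p a :=
  (h.hm_fix e h1).resolve_left fun e' => o.ce_notMem h hg e.2.2.1 e.2.1.2 (e' ▸ hp)

/-- a homology is determined by its centre -/
theorem eq_of_ce (hα : α ∈ St G O) (hβ : β ∈ St G O) (e : Hm I C a α) (e' : Hm I C b β) : α = β :=
  o.ext h fun p hp => by
    obtain ⟨l, h1, h2⟩ := o.join C p
    have h3 := h.invL (e.2.1.2 l h1) h2
    have h4 := h.invL (e'.2.1.2 l h1) h2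
    rcases o.arc hp ((hα p).2 hp) ((hβ p).2 hp) h2 h3 h4 with e1 | e1 | e1
    · rw [← e1, (o.hm_tn h hα e hp e1.symm h2 h1).2.2 _ ((hβ p).2 hp) h4]
    · rw [← e1, (o.hm_tn h hβ e' hp e1.symm h2 h1).2.2 _ ((hα p).2 hp) h3]
    · exact e1

omit o in
theorem ce_fix_of_comm (e : Hm I C a α) (hc : g * α = α * g) : g • C = C :=
  h.ce_eq e.2.2.1 (by simpa [hc] using (h.tg_conj e.2.1 g).2) e.2.1.2

omit o in
theorem ax_fix_of_comm (e : Hm I C a α) (hc : g * α = α * g) : g • a = a :=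
  ce_fix_of_comm h.dual e.flip hc

/-- a homology is determined by its axis -/
theorem eq_of_ax (hα : α ∈ St G O) (hβ : β ∈ St G O) (e : Hm I C a α) (e' : Hm I D a β) : α = β := by
  obtain ⟨Z, hZ⟩ := h.exists_ce'' (e.2.1.1.mul e'.2.1.1)
  have h1 := o.sq_of_ce h (mul_mem hα hβ) hZ.2
  have h2 : β * α = α * β := by
    rw [← inv_eq_of_mul_eq_one_right h1, mul_inv_rev, inv_eq_of_mul_eq_one_right e.2.2.2,
      inv_eq_of_mul_eq_one_right e'.2.2.2]
  obtain rfl := (h.hm_fix e' (ce_fix_of_comm h e h2)).resolve_right e.1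
  exact o.eq_of_ce h hα hβ e e'

theorem ce_mem (hα : α ∈ St G O) (hβ : β ∈ St G O) (e : Hm I C a α) (e' : Hm I D b β) (n : α ≠ β)
    (hc : α * β = β * α) : I D a :=
  (h.hm_fix e (ce_fix_of_comm h e' hc)).resolve_left fun e1 => n (o.eq_of_ce h hα hβ (e1 ▸ e) e')

omit o in
/-- fixed points of a product of two homologies -/
theorem fix_mul (e : Hm I C a α) (e' : Hm I D b β) (h1 : I C l) (h2 : I D l) (n : C ≠ D)
    (hp : (α * β) • p = p) : I p l ∨ (I p a ∧ I p b) := by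
  have h3 : β • p = α • p := by
    rw [mul_smul, ← eq_inv_smul_iff, inv_eq_of_mul_eq_one_right e.2.2.2] at hp; exact hp
  by_cases h4 : α • p = p
  · rcases h.hm_fix e h4 with rfl | h5
    · exact .inl h1
    rcases h.hm_fix e' (h3.trans h4) with rfl | h6
    exacts [.inl h2, .inr ⟨h5, h6⟩]
  obtain ⟨k, h5, h6⟩ := h.join C p
  obtain ⟨k', h7, h8⟩ := h.join D p
  obtain rfl := h.eqL h4 (h.invL (e.2.1.2 k h5) h6) h6 (h3 ▸ h.invL (e'.2.1.2 k' h7) h8) h8
  exact .inl (h.eqL n h5 h7 h1 h2 ▸ h6)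

end Ov

end CF.Oval
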