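import Cfsg.Agent.PLocal.UF2

/-! The centralizer `3^{1+8}.2^{1+6}.PSp₄(3)`. -/

set_option autoImplicit false
set_option maxRecDepth 100000
set_option linter.unusedSectionVars false

namespace CF.U6
open Subgroup Cfsg CF.BG CF.Char Xg Module CF.J4
open CF.W3 (p3)
open scoped commutatorElement

universe u
variable {G : Type u} [Group G] [Finite G] {K : Type u} [Group K] [Finite K] {R : Subgroup K} {ι k w : K}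
  {V : Type u} [AddCommGroup V] [Module T V] [Finite V] [DistribMulAction K V] [SMulCommClass K T V] {A : Submodule T V} {u v : V}
  {Q Q' F : Subgroup G} {a b c e g j j' q s t y z : G} {μ μ' : G → K} {pr pr' : G → V} {Ω : V →ₗ[T] V →ₗ[T] T}

/-- the centralizer of `z` -/
structure GB (R : Subgroup K) (ι : K) (Ω : V →ₗ[T] V →ₗ[T] T) (Q : Subgroup G) (z j : G) (μ : G → K) (pr : G → V) : Prop
    extends M2 V R ι where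
  xq : IsExtraspecial 3 Q
  eq : Ex Q z
  cube : ∀ q ∈ Q, q ^ 3 = 1
  nz : 𝐍 (zpowers z) ≤ 𝐍 Q
  cQ : 𝐂 Q ≤ Q
  hom : HomOn (𝐂₁ z) μ
  su : ∀ k, ∃ g ∈ 𝐂₁ z, μ g = k
  kr : ∀ {g}, g ∈ 𝐂₁ z → (μ g = 1 ↔ g ∈ Q)
  add : ∀ {a b}, a ∈ Q → b ∈ Q → pr (a * b) = pr a + pr b
  ps : ∀ v, ∃ q ∈ Q, pr q = v
  pk : ∀ {q}, q ∈ Q → (pr q = 0 ↔ q ∈ zpowers z)
  act : ∀ {g q}, g ∈ 𝐂₁ z → q ∈ Q → pr (g * q * g⁻¹) = μ g • pr q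
  cm : ∀ {a b}, a ∈ Q → b ∈ Q → ⁅a, b⁆ = pw z (Ω (pr a) (pr b))
  jH : j ∈ 𝐂₁ z
  jj : j * j = 1
  jι : μ j = ι

namespace GB
variable (h : GB R ι Ω Q z j μ pr)
include h

theorem oz : orderOf z = 3 := h.eq.o
theorem QH : Q ≤ 𝐂₁ z := h.eq.c
theorem HN : 𝐂₁ z ≤ 𝐍 Q := cwN.trans h.nz
theorem cjQ (m : g ∈ 𝐂₁ z) (k : q ∈ Q) : g * q * g⁻¹ ∈ Q := conj_mem_of_norm (h.HN m) k
theorem p3Q : PiGrp {3} Q := piGrp_of_forall_elt fun q m => piElt_of_pow_eq_one p3 (h.cube q m)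
theorem ZQ : zpowers z ≤ Q := h.eq.zQ
theorem μQ (m : q ∈ Q) : μ q = 1 := (h.kr (h.QH m)).2 m
theorem prz (m : q ∈ zpowers z) : pr q = 0 := (h.pk (h.ZQ m)).2 m
theorem pri (m : q ∈ Q) : pr q⁻¹ = -pr q := eq_neg_of_add_eq_zero_left (by rw [← h.add (inv_mem m) m, inv_mul_cancel, h.prz (one_mem _)])
theorem pre (m : a ∈ Q) (m' : b ∈ Q) : pr a = pr b ↔ a * b⁻¹ ∈ zpowers z := by
  rw [← h.pk (mul_mem m (inv_mem m')), h.add m (inv_mem m'), h.pri m', add_neg_eq_zero]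
theorem prc (m : g ∈ 𝐂₁ z) (k : q ∈ Q) : pr ⁅q, g⁆ = dl V (μ g) (pr q) := by
  rw [show ⁅q, g⁆ = q * (g * q * g⁻¹)⁻¹ by rw [commutatorElement_def]; group, h.add k (inv_mem (h.cjQ m k)), h.pri (h.cjQ m k), h.act m k,
    dl_ap, sub_eq_add_neg]
theorem cmQ (m : g ∈ 𝐂₁ z) (k : q ∈ Q) : ⁅q, g⁆ ∈ Q := cm_mem k (h.HN m)
theorem cm0 (m : a ∈ Q) (m' : b ∈ Q) : a ∈ 𝐂₁ b ↔ Ω (pr a) (pr b) = 0 := by
  rw [mem_cent1, ← commutatorElement_eq_one_iff_mul_comm, h.cm m m']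
  exact ⟨fun e => pw_inj h.oz (k := 0) e, fun e => e ▸ rfl⟩
theorem Ωi (k : K) (u v : V) : Ω (k • u) (k • v) = Ω u v := by
  obtain ⟨g, m, rfl⟩ := h.su k
  obtain ⟨a, ma, rfl⟩ := h.ps u
  obtain ⟨b, mb, rfl⟩ := h.ps v
  refine pw_inj h.oz ?_
  rw [← h.act m ma, ← h.act m mb, ← h.cm (h.cjQ m ma) (h.cjQ m mb), ← conjugate_commutatorElement, zcj3 m (h.eq.der _ ma _ mb), h.cm ma mb]
theorem Ωs (v : V) : Ω v v = 0 := let ⟨_, m, e⟩ := h.ps v; e ▸ (h.cm0 m m).1 (self_mem_cent1 _)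
theorem Ωd (m : v ∈ Fx V w) (u : V) : Ω (dl V w u) v = 0 := by
  rw [dl_ap, map_sub, LinearMap.sub_apply, ← h.Ωi w u, m, sub_self]
/-- preimages -/
def pi (A : Submodule T V) : Subgroup G where
  carrier := {q | q ∈ Q ∧ pr q ∈ A}
  one_mem' := ⟨one_mem _, h.prz (one_mem _) ▸ zero_mem _⟩
  mul_mem' := fun m n => ⟨mul_mem m.1 n.1, h.add m.1 n.1 ▸ add_mem m.2 n.2⟩
  inv_mem' := fun m => ⟨inv_mem m.1, h.pri m.1 ▸ neg_mem m.2⟩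
theorem piQ : h.pi A ≤ Q := fun _ m => m.1
theorem zpi : zpowers z ≤ h.pi A := fun _ m => ⟨h.ZQ m, h.prz m ▸ zero_mem _⟩
theorem card_pi (A : Submodule T V) : ♯(h.pi A) = 3 ^ (finrank T A + 1) := by
  have f : HomOn Q fun q => Multiplicative.ofAdd (pr q) := fun a m b n => congrArg _ (h.add m n)
  rw [f.card_eq h.piQ (Z := zpowers z) fun g => ⟨fun m => ⟨h.zpi m, congrArg _ (h.prz m)⟩, fun m => (h.pk m.1.1).1 m.2⟩, Nat.card_zpowers,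
    h.oz, pow_succ, ← card_fr, show f.im _ h.piQ = A.toAddSubgroup.toSubgroup from Subgroup.ext fun v => f.mem_im.trans
      ⟨fun ⟨_, m, e⟩ => e ▸ m.2, fun m => let ⟨q, k, e⟩ := h.ps v.toAdd; ⟨q, ⟨k, e ▸ m⟩, congrArg _ e⟩⟩]
  rfl
theorem cardQ : ♯Q = 3 ^ 9 := by
  rw [show Q = h.pi ⊤ from le_antisymm (fun _ m => ⟨m, trivial⟩) h.piQ, h.card_pi, finrank_top, h.fr]
theorem cmc (l : zpowers z ≤ F) (k : F ≤ Q) : ♯F * ♯(Q ⊓ 𝐂 F) = 3 ^ 10 :=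
  (Even.card_mul_card_centralizer h.xq (h.eq.ctr.trans l) k).trans (by rw [h.cardQ]; rfl)
theorem dual (m : q ∈ Q) (k : q ∈ 𝐂 (h.pi (Fx V w))) : pr q ∈ LinearMap.range (dl V w) := by
  have c := h.cmc h.zpi (h.piQ (A := Fx V w))
  have := (dl V w).finrank_range_add_finrank_ker
  rw [ker_dl, h.fr] at this
  refine ((eq_of_card_eq (H := h.pi (LinearMap.range (dl V w))) (K := Q ⊓ 𝐂 (h.pi (Fx V w))) (fun a ⟨m, u, e⟩ => ⟨m, fun b n =>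
    (mem_cent1.1 ((h.cm0 m n.1).2 (e ▸ h.Ωd n.2 u))).symm⟩) (Nat.eq_of_mul_eq_mul_left Nat.card_pos (Eq.trans ?_ c.symm))).ge ⟨m, k⟩).2
  rw [h.card_pi, h.card_pi, ← pow_add]; congr 1; omega
theorem Qj : Q ⊓ 𝐂₁ j ≤ zpowers z := fun q m => (h.pk m.1).1 (nfix (by rw [← h.ng, ← h.jι, ← h.act h.jH m.1, cjc' m.2]))
theorem exI (v : V) : ∃ s ∈ Q, Iv j s ∧ pr s = v := by
  obtain ⟨q, m, rfl⟩ := h.ps v
  obtain ⟨x, a, b, c, k, rfl⟩ := dec (h.HN h.jH) (h.jj ▸ one_mem _) (fun _ => h.eq.e9) m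
  exact ⟨x, a, b, by rw [h.add a k.1, h.prz (h.Qj k), add_zero]⟩
theorem uqI (m : a ∈ Q) (m' : b ∈ Q) (i : Iv j a) (i' : Iv j b) (e : pr a = pr b) : a = b := by
  have k := (h.pre m m').1 e
  refine mul_inv_eq_one.1 (h.eq.iz h.jH (show _ = _ by
    rw [← conj_mul, ← conj_inv, i, i', inv_inv, ← zcj3 (inv_mem (h.QH m)) (inv_mem k)]; group) k)
theorem ivc (m : g ∈ 𝐂₁ j) (i : Iv j a) : Iv j (g * a * g⁻¹) := show _ = _ by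
  rw [← conj_mul, ← conj_mul, ← conj_inv, cjc' m, i, conj_inv]
theorem Nfix (m : g ∈ 𝐂₁ z ⊓ 𝐂₁ j) (k : q ∈ Q) (e : pr q ∈ Fx V (μ g)) : q ∈ 𝐂₁ g := by
  obtain ⟨s, ms, i, l⟩ := h.exI (pr q)
  have := mul_mem (zpowers_le.2 (mem_cent1_comm.1 m.1) ((h.pre k ms).1 l.symm)) (mem_cent1_comm.1 (of_cj
    (h.uqI (h.cjQ m.1 ms) ms (h.ivc m.2 i) i (by rw [h.act m.1 ms, l, e]))))
  rwa [inv_mul_cancel_right] at this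
theorem fxc (m : g ∈ 𝐂₁ z) (k : q ∈ Q ⊓ 𝐂₁ g) : pr q ∈ Fx V (μ g) := show _ = _ by rw [← h.act m k.1, cjc' k.2]
theorem dc (m : g ∈ 𝐂₁ z) : ∃ s ∈ Q, s * g ∈ 𝐂₁ j := by
  have k : g * j * g⁻¹ * j ∈ Q := (h.kr (mul_mem (mul_mem (mul_mem m h.jH) (inv_mem m)) h.jH)).1 (by
    rw [h.hom _ (mul_mem (mul_mem m h.jH) (inv_mem m)) _ h.jH, h.hom.conj m h.jH, h.jι, h.ιc (μ g), mul_inv_cancel_right, h.ιι])
  have ji := inv_eq_of_mul_eq_one_left h.jj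
  refine ⟨_, k, of_cj ?_⟩
  have := h.cube _ k
  rw [pow_three'] at this
  rw [← inv_eq_of_mul_eq_one_left (show g * j * g⁻¹ * j * g * j * (g * j * g⁻¹ * j * g)⁻¹ * j = 1 by
    rw [← this]; simp only [mul_inv_rev, ji, inv_inv, mul_assoc]), ji]
theorem exN (k : K) : ∃ g ∈ 𝐂₁ z ⊓ 𝐂₁ j, μ g = k := by
  obtain ⟨g, m, rfl⟩ := h.su k
  obtain ⟨s, a, b⟩ := h.dc m
  exact ⟨_, ⟨mul_mem (h.QH a) m, b⟩, by rw [h.hom _ (h.QH a) _ m, h.μQ a, one_mul]⟩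
theorem NZ (m : a ∈ 𝐂₁ z ⊓ 𝐂₁ j) (m' : b ∈ 𝐂₁ z ⊓ 𝐂₁ j) (e : μ a = μ b) : a * b⁻¹ ∈ zpowers z := h.Qj ⟨(h.kr (mul_mem m (inv_mem m')).1).1
  (by rw [h.hom _ m.1 _ (inv_mem m'.1), h.hom.inv m'.1, e, mul_inv_cancel]), (mul_mem m (inv_mem m')).2⟩
theorem z3 (m : a ∈ zpowers z) : a ^ 3 = 1 := h.cube a (h.ZQ m)
theorem N3 (m : a ∈ 𝐂₁ z ⊓ 𝐂₁ j) (m' : b ∈ 𝐂₁ z ⊓ 𝐂₁ j) (e : μ a = μ b) : a ^ 3 = b ^ 3 := by
  have k := h.NZ m m' e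
  rw [← inv_mul_cancel_right a b, (zcm m'.1 k).mul_pow, h.z3 k, one_mul]
theorem ex2 (s : k * k = 1) : ∃ g ∈ 𝐂₁ z ⊓ 𝐂₁ j, μ g = k ∧ g * g = 1 := by
  obtain ⟨g, m, rfl⟩ := h.exN k
  refine ⟨g ^ 3, pow_mem m 3, by rw [h.hom.pow m.1, pow_three', s, one_mul], ?_⟩
  rw [← (Commute.refl g).mul_pow, h.N3 (mul_mem m m) (one_mem _) (by rw [h.hom _ m.1 _ m.1, s, h.hom.one]), one_pow]
theorem uq2 (m : a ∈ 𝐂₁ z ⊓ 𝐂₁ j) (m' : b ∈ 𝐂₁ z ⊓ 𝐂₁ j) (s : b * b = 1) (e : μ a = μ b) : a ^ 3 = b := by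
  rw [h.N3 m m' e, pow_three', s, one_mul]
theorem cN (m : g ∈ 𝐂₁ z ⊓ 𝐂₁ j) (m' : e ∈ 𝐂₁ z ⊓ 𝐂₁ j) (s : e * e = 1) (c : μ g ∈ 𝐂₁ (μ e)) : g ∈ 𝐂₁ e := of_cj (by
  have := h.uq2 (mul_mem (mul_mem m m') (inv_mem m)) m' s (by rw [h.hom.conj m.1 m'.1, cjc c])
  rwa [conj_pow, pow_three', s, one_mul] at this)
theorem ex4 (m : y ∈ 𝐂₁ z ⊓ 𝐂₁ j) (s : k * k = ι) (c : k ∈ 𝐂₁ (μ y)) : ∃ g ∈ 𝐂₁ z ⊓ 𝐂₁ y, μ g = k := by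
  obtain ⟨g, n, e⟩ := h.exN k⁻¹
  have q := h.NZ (mul_mem (mul_mem n m) (inv_mem n)) m (by rw [h.hom.conj n.1 m.1, e, cjc (inv_mem c)])
  refine ⟨g ^ 3, ⟨pow_mem n.1 3, of_cj ?_⟩, by
    rw [h.hom.pow n.1, e, inv_pow, inv_eq_iff_mul_eq_one, pow_three', mul_assoc, s, h.ιι]⟩
  have e : g * y * g⁻¹ = g * y * g⁻¹ * y⁻¹ * y := by group
  have o := h.z3 q
  have c := zcj3 n.1 q
  generalize g * y * g⁻¹ * y⁻¹ = t at e o c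
  rw [show g ^ 3 * y * (g ^ 3)⁻¹ = g * (g * (g * y * g⁻¹) * g⁻¹) * g⁻¹ by rw [pow_three]; group, e, LX.conj_mul_conj g t y, c, e,
    LX.conj_mul_conj g t, LX.conj_mul_conj g t y, c, e, ← mul_assoc, ← mul_assoc, ← pow_three', o, one_mul]
theorem tw (m : s ∈ Q) : GB R ι Ω Q z (s * j * s⁻¹) μ pr :=
  { h with
    jH := mul_mem (mul_mem (h.QH m) h.jH) (inv_mem (h.QH m))
    jj := by rw [conj_mul, h.jj]; simp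
    jι := by rw [h.hom.conj (h.QH m) h.jH, h.μQ m, h.jι]; simp }
theorem cg (g : G) : GB R ι Ω (cj g Q) (g * z * g⁻¹) (g * j * g⁻¹) (fun x => μ (g⁻¹ * x * g)) fun x => pr (g⁻¹ * x * g) := by
  have c : ∀ {x}, x ∈ 𝐂₁ (g * z * g⁻¹) ↔ g⁻¹ * x * g ∈ 𝐂₁ z := by rw [← cj_cent1]; exact mem_cj
  have e : ∀ a b, g⁻¹ * (a * b) * g = g⁻¹ * a * g * (g⁻¹ * b * g) := fun a b => by group
  have z : ∀ {x}, x ∈ zpowers (g * z * g⁻¹) ↔ g⁻¹ * x * g ∈ zpowers z := by rw [← cj_zpowers]; exact mem_cj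
  refine ⟨h.toM2, Even.isExtraspecial_of_equiv h.xq (Q.equivMapOfInjective _ (MulAut.conj g).injective), ⟨conj_mem_cj.2 h.eq.m,
    (orderOf_conj' _ _).trans h.oz, fun x m => c.2 (h.QH (mem_cj.1 m)), ?_, fun a m b n => z.2 ?_⟩, fun q m => ?_, ?_, ?_,
    fun a m b n => (congrArg μ (e a b)).trans (h.hom _ (c.1 m) _ (c.1 n)), fun k => ?_, fun m => (h.kr (c.1 m)).trans mem_cj.symm,
    fun m n => (congrArg pr (e _ _)).trans (h.add (mem_cj.1 m) (mem_cj.1 n)), fun v => ?_, fun m => (h.pk (mem_cj.1 m)).trans z.symm,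
    fun m n => Eq.trans (congrArg pr (by group)) (h.act (c.1 m) (mem_cj.1 n)), fun {a b} m n => ?_, c.2 (by simpa [mul_assoc] using h.jH),
    by rw [conj_mul, h.jj]; simp, by simpa [mul_assoc] using h.jι⟩
  · rw [← cj_cent, ← cj_inf, ← cj_zpowers]; exact cj_mono g h.eq.ctr
  · convert h.eq.der _ (mem_cj.1 m) _ (mem_cj.1 n) using 1; simp only [commutatorElement_def]; group
  · rw [show q = g * (g⁻¹ * q * g) * g⁻¹ by group, conj_pow, h.cube _ (mem_cj.1 m)]; simp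
  · rw [← cj_zpowers, ← cj_norm, ← cj_norm]; exact cj_mono g h.nz
  · rw [← cj_cent]; exact cj_mono g h.cQ
  · obtain ⟨x, m, rfl⟩ := h.su k
    exact ⟨g * x * g⁻¹, c.2 (by simpa [mul_assoc] using m), by simp [mul_assoc]⟩
  · obtain ⟨x, m, rfl⟩ := h.ps v
    exact ⟨g * x * g⁻¹, conj_mem_cj.2 m, by simp [mul_assoc]⟩
  · refine Eq.trans ?_ (map_pw (MulAut.conj g).toMonoidHom _ _)
    rw [← h.cm (mem_cj.1 m) (mem_cj.1 n)]; simp only [commutatorElement_def, MulEquiv.coe_toMonoidHom, MulAut.conj_apply]; group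
theorem abF (l : F ≤ 𝐂₁ z) (ab : ∀ a ∈ F, ∀ b ∈ F, ⁅a, b⁆ ∈ Q) (o : ∀ a ∈ F, a ^ 3 = 1) :
    Abel (h.hom.im F l) ∧ (∀ k ∈ h.hom.im F l, k ^ 3 = 1) ∧ ♯F = ♯(h.hom.im F l) * ♯(F ⊓ Q) := by
  refine ⟨abel_of_forall fun x m y m' => ?_, fun x m => ?_, h.hom.card_eq l fun g => and_congr_right fun m => (h.kr (l m)).symm⟩
  · obtain ⟨a, ma, rfl⟩ := h.hom.mem_im.1 m
    obtain ⟨b, mb, rfl⟩ := h.hom.mem_im.1 m'
    rw [← commutatorElement_eq_one_iff_mul_comm, ← h.μQ (ab a ma b mb), commutatorElement_def, commutatorElement_def,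
      h.hom _ (l (mul_mem (mul_mem ma mb) (inv_mem ma))) _ (l (inv_mem mb)), h.hom.conj (l ma) (l mb), h.hom.inv (l mb)]
  · obtain ⟨a, ma, rfl⟩ := h.hom.mem_im.1 m
    rw [← h.hom.pow (l ma), o a ma, h.hom.one]
theorem c38 (m : y ∈ Q) : 3 ^ 8 ≤ ♯(Q ⊓ 𝐂₁ y) := by
  have := card_le_fib (X := Q) (Y := 𝐂₁ y) (fun q => Ω (pr q) (pr y)) fun a b e => (h.cm0 (mul_mem (inv_mem a.2) b.2) m).2 (by
    rw [h.add (inv_mem a.2) b.2, h.pri a.2, map_add, map_neg, LinearMap.add_apply, LinearMap.neg_apply, e, neg_add_cancel])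
  rw [h.cardQ, T.card] at this
  omega
theorem z1 (n : z ∉ F) (m : a ∈ zpowers z) (k : a ∈ F) : a = 1 := by
  obtain ⟨i, rfl⟩ := (mem_pw h.oz).1 m
  by_contra e
  exact n (pw_mem' k fun q => e (q ▸ rfl))

variable (h' : GB R ι Ω Q' y j' μ' pr')
include h'
theorem zQ' (m : y ∈ Q) : z ∈ Q' := not_not.1 fun n => by
  have c1 := h.c38 m
  have c2 := h'.hom.card_eq (T := Q ⊓ 𝐂₁ y) (Z := Q ⊓ 𝐂₁ y ⊓ Q') inf_le_right fun g => and_congr_right fun m => (h'.kr m.2).symm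
  have c3 := h.c81 (E := h'.hom.im (Q ⊓ 𝐂₁ y) inf_le_right) (piGrp_of_forall_elt fun k m =>
    let ⟨g, a, e⟩ := h'.hom.mem_im.1 m; e ▸ hom_pi h'.hom a.2 (h.p3Q.elt a.1))
  have c4 := h.cmc (F := Q ⊓ 𝐂₁ y) (le_inf h.ZQ (zpowers_le.2 (mem_cent1_comm.1 (h.QH m)))) inf_le_left
  have c5 := card_le (show Q ⊓ 𝐂₁ y ⊓ Q' ≤ Q ⊓ 𝐂 (Q ⊓ 𝐂₁ y) from fun a k => ⟨k.1.1, fun b l => (commutatorElement_eq_one_iff_mul_comm.1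
    (h.z1 n (h.eq.der _ k.1.1 _ l.1) (cm_mem k.2 (h'.HN l.2)))).symm⟩)
  have := Nat.mul_le_mul c3 c5
  have := Nat.mul_le_mul_right (♯(Q ⊓ 𝐂 (Q ⊓ 𝐂₁ y))) c1
  omega
theorem A2 (m : y ∈ Q) (n : y ∉ zpowers z) : ∃ d c c' a, D2 V R ι d c c' a ∧ pr y ∈ Fx V d := by
  have mz := h.zQ' h' m
  obtain ⟨a1, a2, a3⟩ := h.abF (F := Q' ⊓ 𝐂₁ z) inf_le_right (fun a k b l => zpowers_le.2 m (h'.eq.der a k.1 b l.1))
    fun a k => h'.cube a k.1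
  have c1 := h'.c38 mz
  have c4 := h.cmc (F := Q' ⊓ 𝐂₁ z ⊓ Q) (zpowers_le.2 ⟨⟨mz, self_mem_cent1 z⟩, h.eq.m⟩) inf_le_right
  have c5 := card_le (show Q' ⊓ 𝐂₁ z ⊓ Q ≤ Q ⊓ 𝐂 (Q' ⊓ 𝐂₁ z ⊓ Q) from fun a k => ⟨k.2, fun b l => commutatorElement_eq_one_iff_mul_comm.1
    (h'.z1 n (h'.eq.der _ l.1.1 _ k.1.1) (h.eq.der _ l.2 _ k.2))⟩)
  have c6 : ♯(Q' ⊓ 𝐂₁ z ⊓ Q) ≤ 243 := by nlinarith
  obtain ⟨d, c, c', a, D, f⟩ := h.exD a1 a2 (by nlinarith)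
  exact ⟨d, c, c', a, D, f _ fun k l => let ⟨g, a, e⟩ := h.hom.mem_im.1 l; e ▸ h.fxc a.2 ⟨m, mem_cent1_comm.1 (h'.QH a.1)⟩⟩
theorem A3 (m : y ∈ Q ⊓ 𝐂₁ e) (n : y ∉ zpowers z) (k : e ∈ 𝐂₁ z) (s : e * e = 1) :
    ∃ q ∈ 𝐂₁ e, q * z * q⁻¹ ∈ 𝐂₁ z ∧ q * z * q⁻¹ ∉ zpowers z := by
  have ey := mem_cent1_comm.1 m.2
  obtain ⟨q, mq, c⟩ := (h'.eq.cent ey (h'.HN ey) s).ex_nc ⟨h.zQ' h' m.1, mem_cent1_comm.1 k⟩ fun l => n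
    ((zpowers_eq_of_prime (by rw [Nat.card_zpowers, h'.oz]; exact p3) l fun e => by simpa [e] using h.oz).ge (mem_zpowers _))
  have l := h'.eq.der q mq.1 z (h.zQ' h' m.1)
  refine ⟨q, mq.2, by simpa [commutatorElement_def] using mul_mem (zpowers_le.2 (h.QH m.1) l) (self_mem_cent1 z), fun t =>
    c (commutatorElement_eq_one_iff_commute.1 (h'.z1 n l (mul_mem t (inv_mem (mem_zpowers z))))).symm⟩
end GB

end CF.U6
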